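import Cfsg.Agent.Lib.Grp.CNStruct.Index

/-!
CN-groups without solvable normal subgroups.
-/

set_option autoImplicit false
set_option linter.style.haveILetI false
set_option linter.unusedSectionVars false

universe u v

namespace Cfsg.Agent.CNStruct

open Subgroup Cfsg.Agent
open Cfsg.Agent.Transfer.CIT (IsCIT)
open Cfsg.Agent.Grp.ThreeOrders

/-- `PSL(2, 5)` is `PSL(2, 4)`. -/
theorem iso_four {H : Type v} [Group H] [Finite H] {F : Type} [Field F] [Fintype F]
    (hF : Fintype.card F = 5) (e : H ≃* Matrix.ProjectiveSpecialLinearGroup (Fin 2) F) :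
    ∃ (K : Type) (_ : Field K) (_ : Fintype K), Fintype.card K = 2 ^ 2 ∧
      Nonempty (H ≃* Matrix.ProjectiveSpecialLinearGroup (Fin 2) K) := by
  haveI := Fact.mk Nat.prime_two
  haveI := Fact.mk (show Nat.Prime 5 by norm_num)
  haveI := charP_prime (show Nat.Prime 5 by norm_num) (show Fintype.card F = 5 ^ 1 by rw [hF, pow_one])
  let K := GaloisField 2 2
  haveI : Fintype K := Fintype.ofFinite K
  have hK : Fintype.card K = 2 ^ 2 := by
    rw [← Nat.card_eq_fintype_card, GaloisField.card 2 2 two_ne_zero]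
  have hc := Dickson.card_psl (F := F)
  rw [← Nat.card_congr e.toEquiv, show Dickson.del F = Nat.gcd 2 (Fintype.card F - 1) from rfl, hF] at hc
  norm_num at hc
  obtain ⟨e'⟩ := Block.SpecPSL.iso_psl_even (G := H) (F := K) le_rfl hK (by norm_num; omega) (fun x => by
    have ho := psl_order (p := 5) (by omega) e x
    rw [hF] at ho
    norm_num at ho ⊢
    tauto)
  exact ⟨K, inferInstance, inferInstance, hK, ⟨e'⟩⟩

variable {X : Type u} [Group X] [Finite X]

theorem top_even (h : IsCIT X) (M : Subgroup X) [M.Normal] [IsSimpleGroup M] (hMnc : ¬ IsMulCommutative M)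
    {F : Type} [Field F] [Fintype F] {n : ℕ} (hF : Fintype.card F = 2 ^ n)
    (e : M ≃* Matrix.ProjectiveSpecialLinearGroup (Fin 2) F) : M = ⊤ := by
  haveI := Fact.mk Nat.prime_two
  have hMns : ¬ Group.IsSolvable M := fun hs => hMnc
    ⟨⟨fun a b => IsSimpleGroup.comm_iff_isSolvable.mpr hs a b⟩⟩
  have h4 := Transfer.CIT.four_le_card_field hMnc e
  rcases Nat.lt_or_ge n 3 with hn | hn
  · have hn2 : n = 2 := by rw [hF] at h4; interval_cases n <;> simp at h4 ⊢
    subst hn2
    haveI := charP_prime Nat.prime_two hF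
    have hc := Dickson.card_psl (F := F)
    rw [← Nat.card_congr e.toEquiv, show Dickson.del F = Nat.gcd 2 (Fintype.card F - 1) from rfl, hF] at hc
    norm_num at hc
    refine top_60 M hMns h (by omega) fun g hg => ?_
    have ho := psl_order (p := 2) (by rw [hF]; norm_num) e g
    rw [hg, hF] at ho
    norm_num at ho
  · obtain ⟨D, hD⟩ := Grp.PGCIT.exists_torus_psl M (by omega : n ≠ 0) hF e
    exact Grp.PGCIT.top_of_torus h M D (by
      rw [hD]
      calc 4 < 2 ^ 3 := by norm_num
        _ ≤ 2 ^ n := Nat.pow_le_pow_right (by norm_num) hn)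

theorem top_prime (h : IsCIT X) (M : Subgroup X) [M.Normal] [IsSimpleGroup M] (hMns : ¬ Group.IsSolvable M)
    {F : Type} [Field F] [Fintype F] (hp : (Fintype.card F).Prime) (hp5 : 5 < Fintype.card F) {k : ℕ}
    (hk : Fintype.card F = 2 ^ k + 1 ∨ Fintype.card F + 1 = 2 ^ k)
    (e : M ≃* Matrix.ProjectiveSpecialLinearGroup (Fin 2) F) : M = ⊤ := by
  haveI := Fact.mk Nat.prime_two
  haveI := Fact.mk Nat.prime_three
  obtain ⟨p, hpp⟩ : ∃ p, Fintype.card F = p := ⟨_, rfl⟩
  have hc := Dickson.card_psl (F := F)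
  rw [← Nat.card_congr e.toEquiv, show Dickson.del F = Nat.gcd 2 (Fintype.card F - 1) from rfl, hpp] at hc
  rw [hpp] at hp hp5 hk
  have hodd : p % 2 = 1 := hp.eq_two_or_odd.resolve_left (by omega)
  have hg : Nat.gcd 2 (p - 1) = 2 := Nat.gcd_eq_left (by omega)
  rw [hg] at hc
  have half : ∀ {m : ℕ}, (m ∣ (p - 1) / 2 ∨ m ∣ (p + 1) / 2) → ∃ g : M, orderOf g = m := fun {m} hm =>
    Transfer.CIT.exists_orderOf_half e (by rw [hpp]; omega) (by rw [hpp, hg]; exact hm)
  obtain ⟨l, rfl⟩ : ∃ l, k = l + 1 := by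
    refine ⟨k - 1, ?_⟩
    rcases k with _ | k
    · simp at hk; omega
    · omega
  have hpow : 2 ^ (l + 1) = 2 * 2 ^ l := by rw [pow_succ, mul_comm]
  have hl : 4 ≤ 2 ^ l := by
    rcases l with _ | _ | l
    · simp at hk; omega
    · rcases hk with hk | hk <;> norm_num at hk <;> omega
    · rw [pow_succ, pow_succ]; have := Nat.two_pow_pos l; omega
  obtain ⟨j, hj⟩ : 2 ∣ 2 ^ l := Nat.dvd_of_mod_eq_zero (by
    rcases l with _ | l
    · simp at hl
    · rw [pow_succ]; omega)
  obtain ⟨c, hc'⟩ : ∃ c : M, orderOf c = 2 ^ l := half (by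
    rcases hk with hk | hk
    · exact Or.inl (dvd_of_eq (by omega))
    · exact Or.inr (dvd_of_eq (by omega)))
  have hcardM : ∃ b, ¬ 2 ∣ b ∧ Nat.card M = 2 ^ (l + 1) * b := by
    rcases hk with hk | hk
    · refine ⟨p * (2 ^ l + 1), ?_, ?_⟩
      · rw [Nat.prime_two.dvd_mul]; omega
      · have e1 : p - 1 = 2 * 2 ^ l := by omega
        have e2 : p + 1 = 2 * (2 ^ l + 1) := by omega
        rw [e1, e2] at hc
        rw [hpow]
        nlinarith
    · refine ⟨p * (2 ^ l - 1), ?_, ?_⟩
      · rw [Nat.prime_two.dvd_mul]; omega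
      · have e1 : p - 1 = 2 * (2 ^ l - 1) := by omega
        have e2 : p + 1 = 2 * 2 ^ l := by omega
        rw [e1, e2] at hc
        rw [hpow]
        nlinarith
  obtain ⟨b, hb, hcM⟩ := hcardM
  refine top_of_index fun s hs hd => ?_
  by_cases hs2 : s = 2
  · subst hs2
    have h3p : ¬ 3 ∣ p := fun h => by
      have := (Nat.prime_dvd_prime_iff_eq Nat.prime_three hp).1 h; omega
    obtain ⟨m, hm, h3m, m', hm', hmm⟩ : ∃ m, (m = (p - 1) / 2 ∨ m = (p + 1) / 2) ∧ 3 ∣ m ∧ ∃ m', ¬ 3 ∣ m' ∧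
        Nat.card M = m * m' := by
      have e12 : ∃ u v, p - 1 = 2 * u ∧ p + 1 = 2 * v := ⟨(p - 1) / 2, (p + 1) / 2, by omega, by omega⟩
      obtain ⟨u, v, hu, hv⟩ := e12
      rw [hu, hv] at hc
      have hcM' : Nat.card M = u * (2 * (p * v)) := by nlinarith
      have hcM'' : Nat.card M = v * (2 * (p * u)) := by nlinarith
      rcases (show p % 3 = 1 ∨ p % 3 = 2 by omega) with h1 | h1
      · refine ⟨u, Or.inl (by omega), by omega, _, ?_, hcM'⟩
        intro hd3
        rcases Nat.prime_three.dvd_mul.1 hd3 with h | h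
        · omega
        · rcases Nat.prime_three.dvd_mul.1 h with h | h
          · exact h3p h
          · omega
      · refine ⟨v, Or.inr (by omega), by omega, _, ?_, hcM''⟩
        intro hd3
        rcases Nat.prime_three.dvd_mul.1 hd3 with h | h
        · omega
        · rcases Nat.prime_three.dvd_mul.1 h with h | h
          · exact h3p h
          · omega
    have hm0 : m ≠ 0 := by omega
    obtain ⟨n, w, hw, hnw⟩ := Nat.exists_eq_pow_mul_and_not_dvd hm0 3 (by norm_num)
    obtain ⟨g, hg'⟩ : ∃ g : M, orderOf g = 3 ^ n := half (by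
      rcases hm with e' | e'
      · exact Or.inl (e' ▸ hnw ▸ dvd_mul_right _ _)
      · exact Or.inr (e' ▸ hnw ▸ dvd_mul_right _ _))
    obtain ⟨P, hP⟩ := (IsPGroup.of_card (n := n) (by rw [Nat.card_zpowers, hg']) :
      IsPGroup 3 (zpowers g)).exists_le_sylow
    have hPc : zpowers g = (P : Subgroup M) := eq_of_le_of_card_ge hP (by
      rw [Nat.card_zpowers, hg', sylow_card_of (a := n) (b := w * m') (by rw [hmm, hnw, mul_assoc])
        (fun hd3 => (Nat.prime_three.dvd_mul.1 hd3).elim hw hm') P])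
    haveI : IsCyclic (P : Subgroup M) := hPc ▸ (inferInstance : IsCyclic (zpowers g))
    have h3M : 3 ∣ Nat.card M := by
      rw [hmm]
      exact dvd_mul_of_dvd_left h3m _
    have := two_part_index M h hMns (ℓ := 3) (by norm_num) (by norm_num) h3M P (j := 1) (by simpa using hd)
    norm_num at this
  · exact not_odd_dvd_index M h (c := c) (a := l + 1) (b := b) (by rw [hc']; exact hl) hcM hb
      (by rw [hc', pow_succ]) hs hs2 hd

theorem index_nine (h : IsCIT X) (M : Subgroup X) [M.Normal] [IsSimpleGroup M] (hMns : ¬ Group.IsSolvable M)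
    {F : Type} [Field F] [Fintype F] (hF : Fintype.card F = 9)
    (e : M ≃* Matrix.ProjectiveSpecialLinearGroup (Fin 2) F) : M = ⊤ ∨ M.index = 2 := by
  haveI := Fact.mk Nat.prime_two
  haveI := Fact.mk (show Nat.Prime 5 by norm_num)
  have hc := Dickson.card_psl (F := F)
  rw [← Nat.card_congr e.toEquiv, show Dickson.del F = Nat.gcd 2 (Fintype.card F - 1) from rfl, hF] at hc
  norm_num at hc
  have hcM : Nat.card M = 360 := by omega
  obtain ⟨c, hc4⟩ := Transfer.CIT.exists_orderOf_half e (by omega) (m := 4) (Or.inl (by rw [hF]; norm_num))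
  have hidx : ∀ s : ℕ, s.Prime → s ∣ M.index → s = 2 := fun s hs hd => by
    by_contra hs2
    exact not_odd_dvd_index M h (c := c) (a := 3) (b := 45) (by rw [hc4]) (by rw [hcM]; norm_num) (by norm_num)
      (by rw [hc4]; norm_num) hs hs2 hd
  obtain ⟨k, hk⟩ : ∃ k, M.index = 2 ^ k := ⟨_, Nat.eq_prime_pow_of_unique_prime_dvd
    index_ne_zero_of_finite fun {s} hs hd' => hidx s hs hd'⟩
  obtain ⟨P⟩ : Nonempty (Sylow 5 M) := inferInstance
  have cP : Nat.card P = 5 := by
    rw [sylow_card_of (a := 1) (b := 72) (by rw [hcM]; norm_num) (by norm_num) P]; norm_num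
  haveI : IsCyclic (P : Subgroup M) := isCyclic_of_prime_card (p := 5) cP
  have := two_part_index M h hMns (ℓ := 5) (by norm_num) (by norm_num) (by rw [hcM]; norm_num) P (j := k)
    (hk ▸ dvd_rfl)
  rcases k with _ | _ | k
  · exact Or.inl (index_eq_one.1 (by rw [hk, pow_zero]))
  · exact Or.inr (by rw [hk, zero_add, pow_one])
  · exfalso
    have h1 := Nat.le_of_dvd (by norm_num) this
    have : 2 ^ 3 ≤ 2 ^ (k + 1 + 1 + 1) := Nat.pow_le_pow_right (by norm_num) (by omega)
    omega

/-- A nonsolvable CN-group without solvable normal subgroups is simple or contains `PSL(2, 9)` with index two. -/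
theorem simple_or_nine (hCN : Cfsg.IsCNGroup X) (hns : ¬ Group.IsSolvable X)
    (hrad : ∀ N : Subgroup X, N.Normal → Group.IsSolvable N → N = ⊥) :
    IsCIT X ∧ ((IsSimpleGroup X ∧ ¬ IsMulCommutative X) ∨
      ∃ M : Subgroup X, M.Normal ∧ M.index = 2 ∧ ∃ (F : Type) (_ : Field F) (_ : Fintype F),
        Fintype.card F = 9 ∧ Nonempty (M ≃* Matrix.ProjectiveSpecialLinearGroup (Fin 2) F)) := by
  classical
  haveI := Fact.mk Nat.prime_two
  obtain ⟨M, hMn, hMs, hMnc⟩ := exists_simple_normal hCN hns hrad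
  haveI := hMn
  haveI := hMs
  have hMns : ¬ Group.IsSolvable M := fun hs => hMnc
    ⟨⟨fun a b => IsSimpleGroup.comm_iff_isSolvable.mpr hs a b⟩⟩
  have h := isCIT M hCN hMnc
  refine ⟨h, ?_⟩
  have htop : M = ⊤ → IsSimpleGroup X ∧ ¬ IsMulCommutative X := by
    intro e
    let f : M ≃* X := (MulEquiv.subgroupCongr e).trans Subgroup.topEquiv
    haveI : Nontrivial X := f.symm.toEquiv.nontrivial
    exact ⟨IsSimpleGroup.isSimpleGroup_of_surjective f.toMonoidHom f.surjective,
      fun hc => hns (Group.isSolvable_of_comm fun a b => hc.is_comm.comm a b)⟩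
  rcases (h.of_injective M.subtype M.subtype_injective).classification_iso hMnc with
    ⟨F, i1, i2, hF, ⟨e⟩⟩ | ⟨F, i1, i2, hF, ⟨e⟩⟩ | ⟨F, i1, i2, m, hm, hF, ⟨e⟩⟩
  · have h4 := Transfer.CIT.four_le_card_field hMnc e
    rcases hF with hq | ⟨n, hq⟩ | ⟨hp, k, hk⟩
    · rcases index_nine h M hMns hq e with hM | hM
      · exact Or.inl (htop hM)
      · exact Or.inr ⟨M, hMn, hM, F, i1, i2, hq, ⟨e⟩⟩
    · exact Or.inl (htop (top_even h M hMnc hq e))
    · rcases (show Fintype.card F = 5 ∨ 5 < Fintype.card F by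
        rcases h4.eq_or_lt with e4 | e4
        · rw [← e4] at hp; norm_num at hp
        · omega) with h5 | h5
      · obtain ⟨K, k1, k2, hK, ⟨eK⟩⟩ := iso_four h5 e
        exact Or.inl (htop (top_even h M hMnc hK eK))
      · exact Or.inl (htop (top_prime h M hMns hp h5 hk e))
  · have hc : Nat.card M = 20160 := by rw [Nat.card_congr e.toEquiv, Spor.M21.natCard_psl hF]
    refine Or.inl (htop (top_l34 M h hCN hc fun a b ha hab => ?_))
    obtain ⟨em⟩ := Spor.L34Elem.model hF
    set θ := e.trans em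
    refine θ.injective ?_
    rw [map_pow, map_one]
    exact l34_cent_three (x := θ a) (by rw [MulEquiv.orderOf_eq, ha]) (hab.map θ.toMonoidHom)
  · have hS : Suz.SzField F m := ⟨hm, hF⟩
    let e0 : M ≃* ↥(Cfsg.Sz F m) := e.trans (Suz.szEquiv hS).symm
    obtain ⟨D, hD⟩ := Grp.PGCIT.exists_torus_suzuki M hS e0
    exact Or.inl (htop (Grp.PGCIT.top_of_torus h M D (by
      rw [hD, ← hS.card]; have := Suz.eight_le hS; omega)))

end Cfsg.Agent.CNStruct
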