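import Cfsg.Agent.Lib.Grp.PrimeGraphCIT.Basic
import Cfsg.Agent.Lib.Transfer.CIT.FromCN
import Cfsg.Agent.Lib.Grp.TwoClassCount
import Cfsg.Agent.Lib.Grp.ThreeOrders.CitTools

/-!
A CN-group without solvable normal subgroups has a simple normal subgroup and is a CIT group.
-/

set_option autoImplicit false
set_option linter.style.haveILetI false
set_option linter.unusedSectionVars false

universe u

namespace Cfsg.Agent.CNStruct

open Subgroup Cfsg.Agent
open Cfsg.Agent.Transfer.CIT (IsCIT)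

variable {X : Type u} [Group X] [Finite X]

/-- A minimal normal subgroup of a CN-group without solvable normal subgroups is simple. -/
theorem exists_simple_normal (hCN : Cfsg.IsCNGroup X) (hns : ¬ Group.IsSolvable X)
    (hrad : ∀ N : Subgroup X, N.Normal → Group.IsSolvable N → N = ⊥) :
    ∃ M : Subgroup X, M.Normal ∧ IsSimpleGroup M ∧ ¬ IsMulCommutative M := by
  classical
  have htop : (⊤ : Subgroup X) ≠ ⊥ := fun e => by
    haveI : Subsingleton X := Subgroup.subsingleton_iff.mp (subsingleton_of_top_le_bot (α := Subgroup X) e.le)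
    exact hns inferInstance
  obtain ⟨M, hMn, hM, -, hMmin⟩ := Grp.exists_minimal_normal_le htop
  haveI := hMn
  have hMns : ¬ Group.IsSolvable M := fun hs => hM (hrad M hMn hs)
  refine ⟨M, hMn, ?_, fun hc => hMns (Group.isSolvable_of_comm fun a b => hc.is_comm.comm a b)⟩
  haveI : Nontrivial M := (Subgroup.nontrivial_iff_ne_bot M).mpr hM
  refine ⟨fun K hK => ?_⟩
  by_contra hKc
  push Not at hKc
  obtain ⟨K0, hK0n, hK0ne, hK0K, hK0min⟩ := Grp.exists_minimal_normal_le (N := K) hKc.1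
  haveI := hK0n
  set A := K0.map M.subtype with hA
  have hAM : A ≤ M := Subgroup.map_subtype_le _
  have hMA : ∀ m ∈ M, ∀ a ∈ A, m * a * m⁻¹ ∈ A := by
    rintro m hm _ ⟨a, ha, rfl⟩
    exact ⟨_, hK0n.conj_mem a ha ⟨m, hm⟩, rfl⟩
  have hAne : A ≠ ⊥ := fun e => hK0ne ((Subgroup.map_eq_bot_iff_of_injective _ M.subtype_injective).mp e)
  obtain ⟨g, hg⟩ : ∃ g : X, ∃ a ∈ A, g * a * g⁻¹ ∉ A := by
    by_contra hc
    push Not at hc
    have hAn : A.Normal := ⟨fun a ha g => hc g a ha⟩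
    rcases hMmin A hAn hAM with e | e
    · exact hAne e
    · refine hKc.2 (eq_top_iff.2 fun x _ => hK0K ?_)
      obtain ⟨y, hy, hyx⟩ : (x : X) ∈ A := by rw [e]; exact x.2
      exact Subtype.ext hyx ▸ hy
  set B := A.map (MulAut.conj g).toMonoidHom with hB
  have hBM : B ≤ M := by
    rintro _ ⟨b, hb, rfl⟩
    exact hMn.conj_mem b (hAM hb) g
  have hMB : ∀ m ∈ M, ∀ b ∈ B, m * b * m⁻¹ ∈ B := by
    rintro m hm _ ⟨b, hb, rfl⟩
    refine ⟨(g⁻¹ * m * g) * b * (g⁻¹ * m * g)⁻¹, hMA _ (hMn.conj_mem' m hm g) b hb, ?_⟩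
    simp only [MulEquiv.coe_toMonoidHom, MulAut.conj_apply]
    group
  have hinf : ∀ x ∈ A, x ∈ B → x = 1 := by
    let I : Subgroup M := (A ⊓ B).subgroupOf M
    haveI : I.Normal := ⟨fun x hx m => ⟨hMA m m.2 _ hx.1, hMB m m.2 _ hx.2⟩⟩
    have hIK : I ≤ K0 := by
      intro x hx
      obtain ⟨y, hy, hyx⟩ := (mem_subgroupOf.1 hx).1
      exact Subtype.ext hyx ▸ hy
    rcases hK0min I inferInstance hIK with e | e
    · intro x hx hx'
      have : (⟨x, hAM hx⟩ : M) ∈ I := ⟨hx, hx'⟩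
      rw [e, mem_bot] at this
      exact congrArg Subtype.val this
    · exfalso
      obtain ⟨a, ha, hga⟩ := hg
      have hle : A ≤ B := by
        rintro _ ⟨y, hy, rfl⟩
        exact (e.symm ▸ hy : y ∈ I).2
      have heq : A = B := Subgroup.eq_of_le_of_card_ge hle (by
        rw [hB, Subgroup.card_map_of_injective (MulAut.conj g).injective])
      exact hga (heq.symm ▸ ⟨a, ha, rfl⟩)
  have hcomm : ∀ a ∈ A, ∀ b ∈ B, a * b = b * a := fun a ha b hb => by
    have h1 : a * b * a⁻¹ * b⁻¹ = 1 := hinf _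
      (by rw [show a * b * a⁻¹ * b⁻¹ = a * (b * a⁻¹ * b⁻¹) by group]
          exact mul_mem ha (hMA b (hBM hb) _ (inv_mem ha)))
      (mul_mem (hMB a (hAM ha) b hb) (inv_mem hb))
    exact mul_inv_eq_iff_eq_mul.1 (mul_inv_eq_one.1 h1)
  obtain ⟨a, haA, ha1⟩ := A.bot_or_exists_ne_one.resolve_left hAne
  have hBnil : Group.IsNilpotent B :=
    Grp.isNilpotent_of_le (fun b hb => mem_centralizer_singleton_iff.2 (hcomm a haA b hb).symm) (hCN a ha1)
  let e : K0 ≃* B := (K0.equivMapOfInjective _ M.subtype_injective).trans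
    (A.equivMapOfInjective _ (MulAut.conj g).injective)
  haveI := hBnil
  haveI : Group.IsNilpotent K0 := Group.nilpotent_of_mulEquiv e.symm
  exact Grp.PGCIT.false_of_solvable_normal hrad M K0 inferInstance hK0ne

variable (M : Subgroup X) [M.Normal]

/-- An element of prime power order commutes with an element of that prime order in a normal subgroup. -/
theorem exists_commuting {s : ℕ} [Fact s.Prime] (hsM : s ∣ Nat.card M) {x : X}
    (hx : IsPGroup s (zpowers x)) : ∃ y ∈ M, orderOf y = s ∧ Commute x y := by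
  classical
  obtain ⟨R, hR⟩ := hx.exists_le_sylow
  obtain ⟨Q⟩ : Nonempty (Sylow s M) := inferInstance
  obtain ⟨R', hR'⟩ := (Q.isPGroup'.map M.subtype).exists_le_sylow
  obtain ⟨g, hg⟩ := MulAction.exists_smul_eq X R' R
  set W := (R : Subgroup X) ⊓ M with hW
  have hWne : W ≠ ⊥ := by
    intro e
    obtain ⟨q, hq⟩ := exists_prime_orderOf_dvd_card' (G := (Q : Subgroup M)) s
      (Q.dvd_card_of_dvd_card hsM)
    have h1 : g * ((q : M) : X) * g⁻¹ ∈ W := by
      refine ⟨?_, (inferInstance : M.Normal).conj_mem _ (q : M).2 g⟩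
      rw [← hg]
      exact ⟨_, hR' ⟨q, q.2, rfl⟩, rfl⟩
    rw [e, mem_bot, conj_eq_one_iff] at h1
    have : q = 1 := Subtype.ext (Subtype.ext h1)
    rw [this, orderOf_one] at hq
    exact (Fact.out : s.Prime).ne_one hq.symm
  have hWp : IsPGroup s W := R.isPGroup'.to_le inf_le_left
  obtain ⟨k, hk⟩ := hWp.exists_card_eq
  have hk0 : k ≠ 0 := fun e => hWne (eq_bot_of_card_eq W (by rw [hk, e, pow_zero]))
  obtain ⟨t, ⟨htW, ht1⟩, ht⟩ := Grp.InvTrans.exists_fixed hx ((W : Set X) \ {1})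
    (fun c hc t ht => ⟨⟨(R : Subgroup X).mul_mem ((R : Subgroup X).mul_mem (hR hc) ht.1.1) ((R : Subgroup X).inv_mem (hR hc)),
      (inferInstance : M.Normal).conj_mem _ ht.1.2 c⟩, fun e => ht.2 (conj_eq_one_iff.1 e)⟩) (by
      rw [Nat.card_coe_set_eq, Set.ncard_sdiff_singleton_of_mem W.one_mem, ← Nat.card_coe_set_eq,
        SetLike.coe_sort_coe, hk]
      intro hd
      have h1 : s ∣ s ^ k - (s ^ k - 1) := Nat.dvd_sub (dvd_pow_self s hk0) hd
      have := Nat.one_le_pow k s (Fact.out : s.Prime).pos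
      rw [show s ^ k - (s ^ k - 1) = 1 by omega] at h1
      exact (Fact.out : s.Prime).not_dvd_one h1)
  obtain ⟨i, hi⟩ := IsPGroup.iff_orderOf.1 hWp ⟨t, htW⟩
  rw [orderOf_mk] at hi
  rcases i with _ | i
  · exact absurd (orderOf_eq_one_iff.1 (by rw [hi, pow_zero])) ht1
  · exact ⟨t ^ (orderOf t / s), M.pow_mem htW.2 _,
      orderOf_pow_orderOf_div (orderOf_pos t).ne' (hi ▸ dvd_pow_self s i.succ_ne_zero),
      (ht x (mem_zpowers x)).pow_right _⟩

/-- A CN-group with a simple normal subgroup has no nontrivial odd element centralising a Sylow 2-subgroup of it. -/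
theorem false_of_centralises (hCN : Cfsg.IsCNGroup X) [IsSimpleGroup M] (hM : ¬ IsMulCommutative M)
    (S : Sylow 2 M) {y : X} (hy : Odd (orderOf y)) (hy1 : y ≠ 1)
    (hc : ∀ s ∈ (S : Subgroup M), Commute y (s : X)) : False := by
  classical
  haveI := Fact.mk Nat.prime_two
  have hMns : ¬ Group.IsSolvable M := fun hs => hM
    ⟨⟨fun a b => IsSimpleGroup.comm_iff_isSolvable.mpr hs a b⟩⟩
  have hcit := Transfer.CIT.isCIT_of_cn hM (Transfer.CN.subgroup hCN M)
  have h2M : 2 ∣ Nat.card M := by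
    by_contra h2
    exact hMns (Grp.ThreeOrders.odd_solvable h2)
  have hn : ¬ Cfsg.HasNormalPComplement 2 M := by
    rintro ⟨P, K, hKn, hKc⟩
    rcases IsSimpleGroup.eq_bot_or_eq_top_of_normal K hKn with e | e
    · rw [e, isComplement'_bot_left] at hKc
      haveI : Group.IsNilpotent M := (P.isPGroup'.of_equiv
        ((MulEquiv.subgroupCongr hKc).trans Subgroup.topEquiv)).isNilpotent
      exact hMns inferInstance
    · rw [e, isComplement'_top_left] at hKc
      exact P.ne_bot_of_dvd_card h2M hKc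
  obtain ⟨P, Q, h, hQP, hZQ, hhN, hho, q, hq, hne⟩ := Grp.TwoCount.exists_moved hn
  obtain ⟨m, hm⟩ := MulAction.exists_smul_eq M S P
  set y' := (m : X) * y * (m : X)⁻¹ with hy'
  have hy'o : orderOf y' = orderOf y :=
    orderOf_injective (MulAut.conj (m : X)).toMonoidHom (MulAut.conj (m : X)).injective y
  have hy'c : ∀ p ∈ Q, Commute y' (p : X) := by
    intro p hp
    have hpP := hQP hp
    rw [← hm] at hpP
    obtain ⟨s, hs, rfl⟩ := hpP
    show Commute y' (((m * s * m⁻¹ : M) : M) : X)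
    exact (hc s hs).map (MulAut.conj (m : X)).toMonoidHom
  have hq1 : q ≠ 1 := fun e => hne (by rw [e, mul_one, one_mul])
  obtain ⟨i, hi⟩ := IsPGroup.iff_orderOf.1 (P.isPGroup'.to_le hQP) ⟨q, hq⟩
  rw [orderOf_mk] at hi
  have hqX : (q : X) ≠ 1 := fun e => hq1 (Subtype.ext e)
  set m0 : M := ⟨h * y' * (h : X)⁻¹ * y'⁻¹, by
    rw [show (h : X) * y' * (h : X)⁻¹ * y'⁻¹ = h * (y' * (h : X)⁻¹ * y'⁻¹) by group]
    exact M.mul_mem h.2 ((inferInstance : M.Normal).conj_mem _ (inv_mem h.2) _)⟩ with hm0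
  have hhy : Commute (h * y' * (h : X)⁻¹) (q : X) := by
    have h1 := (hy'c _ ((mem_normalizer_iff''.1 hhN q).1 hq)).map (MulAut.conj (h : X)).toMonoidHom
    simp only [MulEquiv.coe_toMonoidHom, MulAut.conj_apply, Subgroup.coe_mul, Subgroup.coe_inv] at h1
    rwa [show (h : X) * ((h : X)⁻¹ * q * h) * (h : X)⁻¹ = q by group] at h1
  have hm0q : Commute (m0 : X) (q : X) := hhy.mul_left (hy'c q hq).inv_left
  have hm02 : ∃ j, orderOf m0 = 2 ^ j := by
    have h2q : 2 ∣ orderOf q := by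
      rcases i with _ | i
      · exact absurd (orderOf_eq_one_iff.1 (by rw [hi, pow_zero])) hq1
      · exact hi ▸ dvd_pow_self 2 i.succ_ne_zero
    exact hcit.orderOf_two_pow (orderOf_pow_orderOf_div (orderOf_pos q).ne' h2q)
      ((show Commute m0 q from Subtype.ext hm0q).pow_right _)
  obtain ⟨j, hj⟩ := hm02
  have hcop : (orderOf (m0 : X)).Coprime (orderOf y') := by
    rw [orderOf_coe, hj, hy'o]; exact (Nat.coprime_two_left.2 hy).pow_left j
  have hcm := Transfer.CN.commute_of hCN hqX hm0q (hy'c q hq) hcop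
  have h1 := hcm.orderOf_mul_eq_mul_orderOf_of_coprime hcop
  rw [show (m0 : X) * y' = h * y' * (h : X)⁻¹ from inv_mul_cancel_right _ y',
    show orderOf ((h : X) * y' * (h : X)⁻¹) = orderOf y' from
      orderOf_injective (MulAut.conj (h : X)).toMonoidHom (MulAut.conj (h : X)).injective y'] at h1
  have hm1 : orderOf (m0 : X) = 1 :=
    (Nat.mul_eq_right (orderOf_pos y').ne').1 h1.symm
  have hhy' : Commute (h : X) y' := by
    have := orderOf_eq_one_iff.1 hm1
    exact mul_inv_eq_iff_eq_mul.1 (mul_inv_eq_one.1 this)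
  have hy'1 : y' ≠ 1 := fun e => hy1 (conj_eq_one_iff.1 e)
  refine hne (Subtype.ext (Transfer.CN.commute_of hCN hy'1 hhy' (hy'c q hq).symm ?_).eq)
  rw [orderOf_coe, orderOf_coe, hi]
  exact ((Nat.coprime_two_left.2 hho).pow_left i).symm

/-- A CN-group with a simple normal subgroup and no solvable one is a CIT group. -/
theorem isCIT (hCN : Cfsg.IsCNGroup X) [IsSimpleGroup M] (hM : ¬ IsMulCommutative M) : IsCIT X := by
  classical
  haveI := Fact.mk Nat.prime_two
  have hcit := Transfer.CIT.isCIT_of_cn hM (Transfer.CN.subgroup hCN M)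
  have h2M : 2 ∣ Nat.card M := by
    by_contra h2
    exact hM ⟨⟨fun a b => IsSimpleGroup.comm_iff_isSolvable.mpr (Grp.ThreeOrders.odd_solvable h2) a b⟩⟩
  refine Grp.PGCIT.isCIT_of_even fun g hg => ?_
  by_contra hng
  push Not at hng
  obtain ⟨r, hr, hrd, hr2⟩ : ∃ r, r.Prime ∧ r ∣ orderOf g ∧ r ≠ 2 := by
    by_contra hc
    push Not at hc
    exact hng _ (Nat.eq_prime_pow_of_unique_prime_dvd (orderOf_pos g).ne' fun {d} hd hdd => hc d hd hdd)
  set t := g ^ (orderOf g / 2) with ht'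
  set x := g ^ (orderOf g / r) with hx'
  have ht : orderOf t = 2 := orderOf_pow_orderOf_div (orderOf_pos g).ne' hg
  have hx : orderOf x = r := orderOf_pow_orderOf_div (orderOf_pos g).ne' hrd
  have hxt : Commute x t := Commute.pow_pow_self g _ _
  have ht1 : t ≠ 1 := fun e => by rw [e, orderOf_one] at ht; norm_num at ht
  have hxo : Odd (orderOf x) := hx ▸ hr.odd_of_ne_two hr2
  have hx1 : x ≠ 1 := fun e => hr.ne_one (by rw [← hx, e, orderOf_one])
  obtain ⟨z, hzM, hz, htz⟩ := exists_commuting M h2M (x := t)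
    (IsPGroup.of_card (n := 1) (by rw [Nat.card_zpowers, ht, pow_one]))
  have hxz : Commute x z := Transfer.CN.commute_of hCN ht1 hxt htz.symm (by
    rw [hz]; exact (Nat.coprime_two_left.2 hxo).symm)
  set z' : M := ⟨z, hzM⟩ with hz'
  have hz'o : orderOf z' = 2 := (orderOf_mk z hzM).trans hz
  have hz1 : z ≠ 1 := fun e => by rw [e, orderOf_one] at hz; norm_num at hz
  have hcent : ∀ u : M, Commute u z' → Commute x (u : X) := by
    intro u hu
    obtain ⟨j, hj⟩ := hcit.orderOf_two_pow hz'o hu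
    exact Transfer.CN.commute_of hCN hz1 hxz (congrArg Subtype.val hu.eq) (by
      rw [orderOf_coe, hj]; exact ((Nat.coprime_two_left.2 hxo).pow_left j).symm)
  obtain ⟨S, hS⟩ := (IsPGroup.of_card (n := 1) (by rw [Nat.card_zpowers, hz'o, pow_one]) :
    IsPGroup 2 (zpowers z')).exists_le_sylow
  have hz'S : z' ∈ (S : Subgroup M) := hS (mem_zpowers z')
  have hSne : (S : Subgroup M) ≠ ⊥ := fun e => by
    have h1 : z' ∈ (⊥ : Subgroup M) := e ▸ hz'S
    exact hz1 (congrArg Subtype.val (mem_bot.1 h1))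
  haveI : Nontrivial (S : Subgroup M) := (Subgroup.nontrivial_iff_ne_bot _).2 hSne
  haveI := S.isPGroup'.center_nontrivial
  obtain ⟨c, hc⟩ := exists_ne (1 : center (S : Subgroup M))
  obtain ⟨i, hi⟩ := IsPGroup.iff_orderOf.1 (S.isPGroup'.to_subgroup (center (S : Subgroup M))) c
  have h2c : 2 ∣ orderOf c := by
    rcases i with _ | i
    · exact absurd (orderOf_eq_one_iff.1 (by rw [hi, pow_zero])) hc
    · exact hi ▸ dvd_pow_self 2 i.succ_ne_zero
  have hd : orderOf (c ^ (orderOf c / 2)) = 2 := orderOf_pow_orderOf_div (orderOf_pos c).ne' h2c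
  set d := c ^ (orderOf c / 2) with hd'
  set d' : M := ((d : (S : Subgroup M)) : M) with hd''
  have hd'o : orderOf d' = 2 := by rw [hd'', orderOf_coe, orderOf_coe, hd]
  have hdS : ∀ s ∈ (S : Subgroup M), Commute s d' := fun s hs =>
    congrArg Subtype.val (mem_center_iff.1 d.2 ⟨s, hs⟩)
  have hxd : Commute x (d' : X) := hcent d' (hdS z' hz'S).symm
  have hd1 : (d' : X) ≠ 1 := fun e => by
    rw [← orderOf_coe, e, orderOf_one] at hd'o; norm_num at hd'o
  refine false_of_centralises M hCN hM S hxo hx1 fun s hs => ?_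
  obtain ⟨j, hj⟩ := IsPGroup.iff_orderOf.1 S.isPGroup' ⟨s, hs⟩
  rw [orderOf_mk] at hj
  exact Transfer.CN.commute_of hCN hd1 hxd (congrArg Subtype.val (hdS s hs).eq) (by
    rw [orderOf_coe, hj]; exact ((Nat.coprime_two_left.2 hxo).pow_left j).symm)

end Cfsg.Agent.CNStruct
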