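import Cfsg.Agent.Lib.Grp.CNStruct.Basic
import Cfsg.Agent.Lib.Grp.ThreeOrders.CitCase

/-!
The index of a simple normal CIT subgroup in a CN-group without solvable normal subgroups.
-/

set_option autoImplicit false
set_option linter.style.haveILetI false
set_option linter.unusedSectionVars false

universe u

namespace Cfsg.Agent.CNStruct

open Subgroup Cfsg.Agent
open Cfsg.Agent.Transfer.CIT (IsCIT)
open Cfsg.Agent.Grp.ThreeOrders

variable {X : Type u} [Group X] [Finite X] (M : Subgroup X) [M.Normal]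

/-- A Sylow 2-subgroup with a cyclic subgroup of index two and order at least four: the index is a power of 2. -/
theorem not_odd_dvd_index (h : IsCIT X) {c : M} (hc4 : 4 ≤ orderOf c) {a b : ℕ}
    (hcard : Nat.card M = 2 ^ a * b) (hb : ¬ 2 ∣ b) (hc : orderOf c * 2 = 2 ^ a)
    {s : ℕ} (hs : s.Prime) (hs2 : s ≠ 2) (hd : s ∣ M.index) : False := by
  classical
  haveI := Fact.mk Nat.prime_two
  haveI := Fact.mk hs
  obtain ⟨j, hj, hcj⟩ := (Nat.dvd_prime_pow Nat.prime_two).1 (hc ▸ dvd_mul_right (orderOf c) 2 : orderOf c ∣ 2 ^ a)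
  obtain ⟨S, hS⟩ := (IsPGroup.of_card (n := j) (by rw [Nat.card_zpowers, hcj]) :
    IsPGroup 2 (zpowers c)).exists_le_sylow
  have cS : Nat.card S = orderOf c * 2 := by rw [hc, sylow_card_of hcard hb S]
  set S' := (S : Subgroup M).map M.subtype with hS'
  have cS' : Nat.card S' = orderOf c * 2 := by
    rw [hS', card_map_of_injective M.subtype_injective]; exact cS
  obtain ⟨x, hx⟩ := exists_prime_orderOf_dvd_card' (G := normalizer (S' : Set X)) s
    (card_inner_normalizer M S ▸ hd.mul_left _)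
  rw [← orderOf_coe] at hx
  set C := zpowers (c : X) with hC
  set C' := C.map (MulAut.conj (x : X)).toMonoidHom with hC'
  have cC : Nat.card C = orderOf c := by rw [Nat.card_zpowers, orderOf_coe]
  have cC' : Nat.card C' = orderOf c := by
    rw [hC', card_map_of_injective (MulAut.conj (x : X)).injective, cC]
  have hCS : C ≤ S' := zpowers_le.2 ⟨c, hS (mem_zpowers c), rfl⟩
  have hC'S : C' ≤ S' := by
    rintro _ ⟨u, hu, rfl⟩
    exact Grp.mem_conj_normalizer x.2 (hCS hu)
  have hne : C ⊓ C' ≠ ⊥ := by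
    intro e
    have hinj := Subgroup.mul_injective_of_disjoint (disjoint_iff.2 e)
    have h1 : Nat.card (C × C') ≤ Nat.card S' := Nat.card_le_card_of_injective
      (fun y => (⟨(y.1 : X) * y.2, mul_mem (hCS y.1.2) (hC'S y.2.2)⟩ : S'))
      (fun y z e' => hinj (congrArg Subtype.val e'))
    rw [Nat.card_prod, cC, cC', cS'] at h1
    nlinarith
  have hCp : IsPGroup 2 C := IsPGroup.of_card (n := j) (by rw [cC, hcj])
  obtain ⟨i, hiC, hi⟩ := Transfer.CIT.exists_involution_mem (hCp.to_le inf_le_left) hne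
  obtain ⟨i', hi'C, hi'⟩ := hiC.2
  have hi'' : orderOf i' = 2 := by
    rw [← hi, ← hi']; exact (orderOf_injective _ (MulAut.conj (x : X)).injective i').symm
  have huniq : i' = i := by
    obtain ⟨n, rfl⟩ := mem_zpowers_iff.1 hi'C
    obtain ⟨l, hl⟩ := mem_zpowers_iff.1 hiC.1
    haveI : IsCyclic C := inferInstance
    set P : C := ⟨i, hiC.1⟩ with hP
    set P' : C := ⟨(c : X) ^ n, hi'C⟩ with hP'
    have e1 : orderOf P = 2 := (orderOf_mk i hiC.1).trans hi
    have e2 : orderOf P' = 2 := (orderOf_mk _ hi'C).trans hi''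
    have h4 : P' = P := by
      by_contra hne'
      haveI := Fintype.ofFinite C
      have hsub : ({1, P, P'} : Finset C) ⊆ (Finset.univ : Finset C).filter fun a => a ^ 2 = 1 := by
        intro a ha
        simp only [Finset.mem_insert, Finset.mem_singleton] at ha
        simp only [Finset.mem_filter, Finset.mem_univ, true_and]
        rcases ha with rfl | rfl | rfl
        · exact one_pow 2
        · rw [← e1]; exact pow_orderOf_eq_one _
        · rw [← e2]; exact pow_orderOf_eq_one _
      have h3 : ({1, P, P'} : Finset C).card = 3 := Finset.card_eq_three.2 ⟨1, P, P',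
        fun e => by rw [← e, orderOf_one] at e1; norm_num at e1,
        fun e => by rw [← e, orderOf_one] at e2; norm_num at e2, fun e => hne' e.symm, rfl⟩
      have := (Finset.card_le_card hsub).trans (IsCyclic.card_pow_eq_one_le (α := C) two_pos)
      omega
    exact congrArg Subtype.val h4
  have hcomm : Commute (x : X) i := by
    rw [huniq] at hi'
    exact mul_inv_eq_iff_eq_mul.1 hi'
  have := Grp.PGCIT.not_commute_odd h hi hcomm (by
    rw [hx]; exact fun e => hs2 ((Nat.prime_dvd_prime_iff_eq Nat.prime_two hs).1 e).symm)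
  rw [this, orderOf_one] at hx
  exact hs.ne_one hx.symm

/-- The 2-part of the index is bounded by a cyclic Sylow subgroup for the prime 3 or 5. -/
theorem two_part_index (h : IsCIT X) [IsSimpleGroup M] (hns : ¬ Group.IsSolvable M) {ℓ : ℕ} [hℓ : Fact ℓ.Prime]
    (hℓ4 : ℓ - 1 ∣ 4) (hℓ2 : ℓ ≠ 2) (hℓM : ℓ ∣ Nat.card M) (P : Sylow ℓ M) [IsCyclic (P : Subgroup M)]
    {j : ℕ} (hj : 2 ^ j ∣ M.index) : 2 ^ (j + 1) ∣ ℓ - 1 := by
  classical
  haveI := Fact.mk Nat.prime_two
  obtain ⟨a, ha⟩ := P.isPGroup'.exists_card_eq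
  have ha0 : 0 < a := by
    rcases a with _ | a
    · have := P.dvd_card_of_dvd_card hℓM
      rw [ha, pow_zero] at this
      exact absurd (Nat.dvd_one.1 this) hℓ.out.ne_one
    · exact Nat.succ_pos _
  have hco : ∀ n, (ℓ ^ n).Coprime 2 := fun n =>
    ((Nat.coprime_primes hℓ.out Nat.prime_two).2 hℓ2).pow_left n
  -- the normaliser in `M` has even order
  have heven : 2 ∣ Nat.card (normalizer ((P : Subgroup M) : Set M)) := by
    by_contra hodd
    refine not_normalizer_le_centralizer hns hℓM P fun n hn => ?_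
    set φ := normalizerMonoidHom (P : Subgroup M) with hφ
    set n' : normalizer ((P : Subgroup M) : Set M) := ⟨n, hn⟩
    have hker : (P : Subgroup M).subgroupOf (normalizer ((P : Subgroup M) : Set M)) ≤ φ.ker := by
      intro y hy
      rw [normalizerMonoidHom_ker]
      haveI : IsMulCommutative (P : Subgroup M) := IsCyclic.isMulCommutative
      exact mem_subgroupOf.2 (mem_centralizer_iff.2 fun w hw =>
        congrArg Subtype.val (IsMulCommutative.is_comm.comm (⟨w, hw⟩ : (P : Subgroup M)) ⟨y, hy⟩))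
    have h1 : orderOf (φ n') ∣ ℓ ^ (a - 1) * (ℓ - 1) := by
      refine (_root_.orderOf_dvd_natCard _).trans (dvd_of_eq ?_)
      rw [Nat.card_congr (IsCyclic.mulAutMulEquiv (P : Subgroup M)).toEquiv, ha, Nat.card_eq_fintype_card,
        ZMod.card_units_eq_totient, Nat.totient_prime_pow hℓ.out ha0]
    have h2 : ¬ 2 ∣ orderOf (φ n') := fun e =>
      hodd (e.trans ((orderOf_map_dvd φ n').trans (_root_.orderOf_dvd_natCard _)))
    have h3 : orderOf (φ n') ∣ ℓ ^ (a - 1) :=
      ((Nat.prime_two.coprime_iff_not_dvd.2 h2).symm.pow_right 2).dvd_of_dvd_mul_right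
        (h1.trans (mul_dvd_mul_left _ (hℓ4.trans (by norm_num))))
    have h4 : orderOf (φ n') ∣ φ.ker.index := by
      rw [index_ker]
      exact Subgroup.orderOf_dvd_natCard _ ⟨n', rfl⟩
    have h5 : orderOf (φ n') ∣ (P : Subgroup M).index :=
      (h4.trans (index_dvd_of_le hker)).trans (Dvd.intro _ (relIndex_mul_index le_normalizer))
    have h6 : orderOf (φ n') = 1 := by
      refine Nat.eq_one_of_dvd_coprimes ((hℓ.out.coprime_iff_not_dvd.2 P.not_dvd_index).pow_left (a - 1)) h3 h5
    have h7 : n' ∈ φ.ker := orderOf_eq_one_iff.1 h6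
    rw [normalizerMonoidHom_ker] at h7
    exact mem_subgroupOf.1 h7
  set P' := (P : Subgroup M).map M.subtype with hP'
  haveI : IsCyclic P' := isCyclic_of_surjective ((P : Subgroup M).equivMapOfInjective _ M.subtype_injective).toMonoidHom
    (MulEquiv.surjective _)
  set ψ := normalizerMonoidHom P' with hψ
  have hkodd : ¬ 2 ∣ Nat.card ψ.ker := by
    intro h2
    obtain ⟨t, ht⟩ := exists_prime_orderOf_dvd_card' 2 h2
    obtain ⟨y, hy⟩ := exists_prime_orderOf_dvd_card' (G := P') ℓ (by
      rw [hP', card_map_of_injective M.subtype_injective, ha]; exact dvd_pow_self ℓ ha0.ne')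
    have hcm : Commute ((t : normalizer (P' : Set X)) : X) (y : X) := mul_inv_eq_iff_eq_mul.1 (congrArg
      (fun e : MulAut P' => ((e y : P') : X)) (MonoidHom.mem_ker.1 t.2))
    have h1 := Grp.PGCIT.not_commute_odd h (t := ((t : normalizer (P' : Set X)) : X))
      (by rw [orderOf_coe, orderOf_coe, ht]) hcm.symm (by
        rw [orderOf_coe, hy]; exact fun e => hℓ2 ((Nat.prime_dvd_prime_iff_eq Nat.prime_two hℓ.out).1 e).symm)
    rw [← orderOf_coe, h1, orderOf_one] at hy
    exact hℓ.out.ne_one hy.symm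
  have hN : 2 ^ (j + 1) ∣ Nat.card ψ.ker * Nat.card ψ.range := by
    rw [← index_ker, card_mul_index, hP', card_inner_normalizer M P, pow_succ, mul_comm (2 ^ j)]
    exact mul_dvd_mul heven hj
  have hr : 2 ^ (j + 1) ∣ Nat.card ψ.range :=
    ((Nat.prime_two.coprime_iff_not_dvd.2 hkodd).pow_left _).dvd_of_dvd_mul_left hN
  have hr' : Nat.card ψ.range ∣ ℓ ^ (a - 1) * (ℓ - 1) := by
    refine (card_subgroup_dvd_card _).trans (dvd_of_eq ?_)
    rw [Nat.card_congr (IsCyclic.mulAutMulEquiv P').toEquiv, hP', card_map_of_injective M.subtype_injective, ha,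
      Nat.card_eq_fintype_card, ZMod.card_units_eq_totient, Nat.totient_prime_pow hℓ.out ha0]
  exact ((hco (a - 1)).symm.pow_left _).dvd_of_dvd_mul_left (hr.trans hr')

/-- The group `PSL(3, 4)` has no proper extension here. -/
theorem top_l34 (h : IsCIT X) (hCN : Cfsg.IsCNGroup X) (hc : Nat.card M = 20160)
    (h3c : ∀ a b : M, orderOf a = 3 → Commute b a → b ^ 3 = 1) : M = ⊤ := by
  classical
  haveI := Fact.mk Nat.prime_two
  haveI := Fact.mk Nat.prime_three
  have p5 : Nat.Prime 5 := by norm_num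
  have p7 : Nat.Prime 7 := by norm_num
  haveI := Fact.mk p5
  haveI := Fact.mk p7
  obtain ⟨Q2⟩ : Nonempty (Sylow 2 M) := inferInstance
  obtain ⟨Q3⟩ : Nonempty (Sylow 3 M) := inferInstance
  obtain ⟨Q5⟩ : Nonempty (Sylow 5 M) := inferInstance
  have c2 : Nat.card Q2 = 64 := by
    rw [sylow_card_of (a := 6) (b := 315) (by rw [hc]; norm_num) (by norm_num) Q2]; norm_num
  have c3 : Nat.card Q3 = 9 := by
    rw [sylow_card_of (a := 2) (b := 2240) (by rw [hc]; norm_num) (by norm_num) Q3]; norm_num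
  have c5 : Nat.card Q5 = 5 := by
    rw [sylow_card_of (a := 1) (b := 4032) (by rw [hc]; norm_num) (by norm_num) Q5]; norm_num
  -- an element of prime order `s` commuting with one of prime order `q` in `M` gives such a pair inside `M`
  have key : ∀ {s q : ℕ}, s.Prime → q.Prime → s ≠ q → s ∣ M.index → s ∣ Nat.card M →
      ∀ Q : Sylow q M, ¬ s ∣ Nat.card Q - 1 → q ∣ Nat.card M →
      ∃ a b : M, orderOf a = s ∧ orderOf b = q ∧ Commute b a := by
    intro s q hs hq hsq hd hsM Q hQ hqM
    haveI := Fact.mk hs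
    haveI := Fact.mk hq
    set P := (Q : Subgroup M).map M.subtype with hP
    obtain ⟨x, hx⟩ := exists_prime_orderOf_dvd_card' (G := normalizer (P : Set X)) s
      (card_inner_normalizer M Q ▸ hd.mul_left _)
    rw [← orderOf_coe] at hx
    have hxp : IsPGroup s (zpowers (x : X)) := IsPGroup.of_card (n := 1) (by rw [Nat.card_zpowers, hx, pow_one])
    obtain ⟨t, ⟨htP, ht1⟩, ht⟩ := Grp.InvTrans.exists_fixed hxp ((P : Set X) \ {1})
      (fun g hg t ht => ⟨Grp.mem_conj_normalizer (zpowers_le.2 x.2 hg) ht.1,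
        fun e => ht.2 (conj_eq_one_iff.1 e)⟩) (by
        rw [Nat.card_coe_set_eq, Set.ncard_sdiff_singleton_of_mem P.one_mem, ← Nat.card_coe_set_eq,
          SetLike.coe_sort_coe, hP, card_map_of_injective M.subtype_injective]
        exact hQ)
    obtain ⟨i, hi⟩ := IsPGroup.iff_orderOf.1 (Q.isPGroup'.map M.subtype) ⟨t, htP⟩
    rw [orderOf_mk] at hi
    rcases i with _ | i
    · exact absurd (orderOf_eq_one_iff.1 (by rw [hi, pow_zero])) ht1
    have htM : t ∈ M := map_subtype_le _ htP
    set t' := t ^ (orderOf t / q) with ht'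
    have ht'o : orderOf t' = q := orderOf_pow_orderOf_div (orderOf_pos t).ne' (hi ▸ dvd_pow_self q i.succ_ne_zero)
    have hxt : Commute (x : X) t' := (ht (x : X) (mem_zpowers _)).pow_right _
    obtain ⟨y, hyM, hy, hxy⟩ := exists_commuting M hsM hxp
    have hx1 : (x : X) ≠ 1 := fun e => hs.ne_one (by rw [← hx, e, orderOf_one])
    have hc' : Commute t' y := Transfer.CN.commute_of hCN hx1 hxt.symm hxy.symm (by
      rw [ht'o, hy]; exact (Nat.coprime_primes hq hs).2 hsq.symm)
    exact ⟨⟨y, hyM⟩, ⟨t', M.pow_mem htM _⟩, (orderOf_mk _ _).trans hy, (orderOf_mk _ _).trans ht'o,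
      Subtype.ext hc'.eq⟩
  have hidx : ∀ s : ℕ, s.Prime → s ∣ M.index → s = 2 := fun s hs hd => by
    by_contra hs2
    have h63 : s ∣ 63 := by
      by_contra h63
      obtain ⟨g, hg⟩ := exists_mul M hs hs2 hd Q2 (by rw [c2]; exact h63)
      exact two_mul_absurd h hs hs2 rfl hg
    have hs37 : s = 3 ∨ s = 7 := by
      have := Nat.le_of_dvd (by norm_num) h63
      interval_cases s <;> first | omega | exact absurd hs (by norm_num)
    rcases hs37 with rfl | rfl
    · obtain ⟨a, b, ha, hb, hab⟩ := key hs p5 (by norm_num) hd (by rw [hc]; norm_num) Q5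
        (by rw [c5]; norm_num) (by rw [hc]; norm_num)
      have := orderOf_dvd_of_pow_eq_one (h3c a b ha hab)
      rw [hb] at this; norm_num at this
    · obtain ⟨a, b, ha, hb, hab⟩ := key hs Nat.prime_three (by norm_num) hd (by rw [hc]; norm_num) Q3
        (by rw [c3]; norm_num) (by rw [hc]; norm_num)
      have := orderOf_dvd_of_pow_eq_one (h3c b a hb hab.symm)
      rw [ha] at this; norm_num at this
  have h21 : ∀ g : M, orderOf g ≠ 21 := fun g hg => by
    have h3 := h3c (g ^ 7) g (by rw [orderOf_pow, hg]; rfl) (Commute.self_pow g 7)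
    have := orderOf_dvd_of_pow_eq_one h3
    rw [hg] at this; norm_num at this
  obtain ⟨e, K, r, he, hmod, heq, hr, hK, hcyc⟩ := normalizer_data M (q := 7) (n := 2880)
    (by rw [hc]) (by norm_num)
  have hKodd : ¬ 2 ∣ K := fun hd2 => by
    obtain ⟨g, hg⟩ := hK 2 Nat.prime_two (by norm_num) hd2
    exact cit_no_double h (q := 7) p7 (by norm_num) (m := 2 * 7) (dvd_mul_right _ _)
      (dvd_mul_left _ _) g (hg ▸ dvd_rfl)
  refine top_of_index fun s hs hd => ?_
  obtain rfl := hidx s hs hd
  obtain ⟨i, hi⟩ := hd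
  have h2r : 2 ∣ r := two_part (j := 1) hKodd ⟨7 * e * i, by rw [hi]; ring⟩ heq
  have h4r : ¬ 4 ∣ r := fun h4 => by have := h4.trans hr; norm_num at this
  have heo : ¬ 2 ∣ e := by
    rintro ⟨e', rfl⟩
    exact h4r (two_part (j := 2) hKodd ⟨7 * e' * i, by rw [hi]; ring⟩ heq)
  have h3r : 3 ∣ r := by
    by_contra h3r
    have he3 : ¬ 3 ∣ e := fun he3 => by
      have h3K : 3 ∣ K := (Nat.prime_three.dvd_mul.1 (heq ▸ ((he3.mul_left 7).mul_right _ :
        3 ∣ 7 * e * M.index))).resolve_right h3r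
      obtain ⟨g, hg⟩ := hK 3 Nat.prime_three (by norm_num) h3K
      have hgM := mem_of_odd M hidx (g := g) (by rw [hg]; norm_num)
      exact h21 ⟨g, hgM⟩ (by rw [← orderOf_coe]; exact hg.trans (by norm_num))
    have he5 : e ∣ 5 := by
      have hco : Nat.Coprime e 576 := by
        rw [show (576 : ℕ) = 2 ^ 6 * 3 ^ 2 by norm_num]
        exact ((Nat.prime_two.coprime_iff_not_dvd.2 heo).symm.pow_right 6).mul_right
          ((Nat.prime_three.coprime_iff_not_dvd.2 he3).symm.pow_right 2)
      exact hco.dvd_of_dvd_mul_left (he.trans (by norm_num))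
    rcases p5.eq_one_or_self_of_dvd e he5 with rfl | rfl <;> norm_num [Nat.ModEq] at hmod
  obtain ⟨g, hg⟩ := hcyc 2 3 Nat.prime_two Nat.prime_three (by norm_num) h2r h3r
  exact cit_no_double h Nat.prime_three (by norm_num) (dvd_mul_right 2 3) (dvd_mul_left 3 2) g hg

end Cfsg.Agent.CNStruct
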