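import Cfsg.Agent.Lib.Grp.CNStruct.PSLRing

/-!
The primes above five do not occur as fields of definition under a fixed-point-free 2-group.
-/

set_option autoImplicit false
set_option linter.style.haveILetI false
set_option linter.unusedSectionVars false

universe u

namespace Cfsg.Agent.CNStruct

open Finset

variable {F : Type} [Field F] [Fintype F] {E : Type u} [Ring E]

theorem sum_uu [Nontrivial E] (σ : Matrix.SpecialLinearGroup (Fin 2) F →* E)
    (hsum : ∀ g, Odd (orderOf g) → g ≠ 1 → ∑ i ∈ range (orderOf g), σ g ^ i = 0)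
    (hp : (Fintype.card F).Prime) (hp2 : Fintype.card F ≠ 2) [CharP F (Fintype.card F)] :
    ∑ c : F, σ (uu c) = 0 := by
  classical
  haveI := Fact.mk hp
  have ho := orderOf_uu (F := F) hp one_ne_zero
  have h := hsum (uu 1) (ho ▸ hp.odd_of_ne_two hp2) (fun e => hp.ne_one (by rw [← ho, e, orderOf_one]))
  rw [ho] at h
  rw [← h]
  simp only [← map_pow, uu_pow, mul_one]
  have hinj : Set.InjOn (fun n : ℕ => (n : F)) (range (Fintype.card F) : Set ℕ) := fun a ha b hb e => by
    simp only [coe_range, Set.mem_Iio] at ha hb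
    exact Nat.ModEq.eq_of_lt_of_lt ((CharP.natCast_eq_natCast F _).1 e) ha hb
  have himg : (range (Fintype.card F)).image (fun n : ℕ => (n : F)) = univ :=
    eq_univ_of_card _ (by rw [card_image_of_injOn hinj, card_range])
  rw [← himg, sum_image hinj]

/-- The case of an odd prime dividing `p - 1`. -/
theorem false_of_odd_dvd [Nontrivial E] (h2 : (2 : E) = 0) (σ : Matrix.SpecialLinearGroup (Fin 2) F →* E)
    (hsum : ∀ g, Odd (orderOf g) → g ≠ 1 → ∑ i ∈ range (orderOf g), σ g ^ i = 0)
    (hp : (Fintype.card F).Prime) (hp2 : Fintype.card F ≠ 2) [CharP F (Fintype.card F)] {r : ℕ} (hr : r.Prime)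
    (hr2 : r ≠ 2) (hrd : r ∣ Fintype.card F - 1) : False := by
  classical
  haveI := Fact.mk hr
  obtain ⟨w, hw⟩ := exists_prime_orderOf_dvd_card' (G := Fˣ) r (by
    rwa [Nat.card_units, Nat.card_eq_fintype_card])
  have hdd : orderOf (dd w) = r := by
    rw [← hw]
    exact orderOf_injective (ddHom (F := F)) (fun a b h => Units.ext (congrArg
      (fun g : Matrix.SpecialLinearGroup (Fin 2) F => (g : Matrix (Fin 2) (Fin 2) F) 0 0) h)) w
  have hx : ∀ m : F, ∑ i ∈ range r, σ (uu m * dd w * uu (-m)) ^ i = 0 := by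
    intro m
    have hinv : uu (-m) = (uu m)⁻¹ := eq_inv_of_mul_eq_one_right (by rw [uu_mul, add_neg_cancel, uu_zero])
    have ho : orderOf (uu m * dd w * uu (-m)) = r := by
      rw [hinv]
      exact (orderOf_injective (MulAut.conj (uu m)).toMonoidHom (MulAut.conj (uu m)).injective _).trans hdd
    exact ho ▸ hsum _ (ho.symm ▸ hr.odd_of_ne_two hr2) (fun e => hr.ne_one (by rw [← ho, e, orderOf_one]))
  have hpow : ∀ (m : F) (i : ℕ), (uu m * dd w * uu (-m)) ^ i =
      uu (m * (1 - ((w ^ i : Fˣ) : F) * (w ^ i : Fˣ))) * dd (w ^ i) := by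
    intro m i
    have hinv : uu (-m) = (uu m)⁻¹ := eq_inv_of_mul_eq_one_right (by rw [uu_mul, add_neg_cancel, uu_zero])
    rw [hinv, conj_pow, show dd w ^ i = dd (w ^ i) from (map_pow ddHom w i).symm, ← hinv, mul_assoc, dd_uu,
      ← mul_assoc, uu_mul]
    congr 2
    ring
  have h1 : ∀ i, i ≠ 0 → i < r → ∑ m : F, σ ((uu m * dd w * uu (-m)) ^ i) = 0 := by
    intro i hi0 hir
    have hne : (1 - ((w ^ i : Fˣ) : F) * (w ^ i : Fˣ)) ≠ 0 := by
      intro e
      have e1 : w ^ (2 * i) = 1 := Units.ext (by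
        rw [two_mul, pow_add, Units.val_mul, Units.val_one]; exact (sub_eq_zero.1 e).symm)
      rcases hr.dvd_mul.1 (hw ▸ orderOf_dvd_of_pow_eq_one e1) with h | h
      · exact hr2 ((Nat.prime_dvd_prime_iff_eq hr Nat.prime_two).1 h)
      · exact absurd (Nat.le_of_dvd (Nat.pos_of_ne_zero hi0) h) (by omega)
    simp only [hpow, map_mul, ← sum_mul]
    rw [Fintype.sum_equiv (Equiv.mulRight₀ _ hne) (fun m => σ (uu (m * (1 - ((w ^ i : Fˣ) : F) * (w ^ i : Fˣ)))))
      (fun c => σ (uu c)) fun m => rfl, sum_uu σ hsum hp hp2, zero_mul]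
  have h3 : (∑ m : F, ∑ i ∈ range r, σ (uu m * dd w * uu (-m)) ^ i) = 0 := sum_eq_zero fun m _ => hx m
  rw [sum_comm] at h3
  simp only [← map_pow] at h3
  rw [sum_eq_single_of_mem 0 (mem_range.2 hr.pos) fun i hi hi0 => h1 i hi0 (mem_range.1 hi)] at h3
  simp only [pow_zero, map_one, sum_const, card_univ, nsmul_one] at h3
  obtain ⟨k, hk⟩ := hp.odd_of_ne_two hp2
  rw [hk, Nat.cast_add, Nat.cast_mul, Nat.cast_ofNat, h2, zero_mul, zero_add, Nat.cast_one] at h3
  exact one_ne_zero h3

/-- The case of a prime one above a power of two. -/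
theorem false_of_fermat [Nontrivial E] (h2 : (2 : E) = 0) (σ : Matrix.SpecialLinearGroup (Fin 2) F →* E)
    (hneg : σ (-1) = 1) (hsum : ∀ g, Odd (orderOf g) → g ≠ 1 → ∑ i ∈ range (orderOf g), σ g ^ i = 0)
    (hp : (Fintype.card F).Prime) (hp5 : 5 < Fintype.card F) [CharP F (Fintype.card F)] {j : F}
    (hj : j * j = -2) : False := by
  classical
  haveI := Fact.mk hp
  set p := Fintype.card F with hpF
  have hp2 : p ≠ 2 := by omega
  -- the subring of translations
  let φ : Multiplicative F →* E := σ.comp uuHom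
  have hφ : ∀ c : F, φ (Multiplicative.ofAdd c) = σ (uu c) := fun c => rfl
  set S := Subring.closure (Set.range φ) with hS
  letI : CommRing S := Subring.closureCommRingOfComm (by
    rintro _ ⟨a, rfl⟩ _ ⟨b, rfl⟩
    rw [← map_mul, ← map_mul, mul_comm])
  let ι : S →+* E := S.subtype
  let w : F → S := fun c => ⟨σ (uu c), Subring.subset_closure ⟨Multiplicative.ofAdd c, hφ c⟩⟩
  have hι : Function.Injective ι := Subtype.val_injective
  have hw : ∀ b c, w b * w c = w (b + c) := fun b c => hι (by
    rw [map_mul]; show σ _ * σ _ = σ _; rw [← map_mul, uu_mul])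
  have hw0 : w 0 = 1 := hι (by show σ _ = (1 : E); rw [uu_zero, map_one])
  have hwpow : ∀ (c : F) (n : ℕ), w c ^ n = w (n * c) := by
    intro c n
    induction n with
    | zero => simp [hw0]
    | succ n ih => rw [pow_succ, ih, hw, Nat.cast_succ, add_mul, one_mul]
  have h2K : (2 : S) = 0 := hι (by rw [map_ofNat, map_zero, h2])
  obtain ⟨h, hh⟩ := hp.odd_of_ne_two hp2
  have hws : ∀ c, c ≠ 0 → ∑ i ∈ range (2 * h + 1), w c ^ i = 0 := by
    intro c hc
    refine hι ?_
    rw [map_sum, map_zero, ← hh]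
    simp only [map_pow]
    have ho := orderOf_uu (F := F) hp hc
    exact ho ▸ hsum (uu c) (ho.symm ▸ hp.odd_of_ne_two hp2) (fun e => hp.ne_one (by rw [← ho, e, orderOf_one]))
  have hunit : ∀ c, c ≠ 0 → IsUnit (w c + 1) := fun c hc =>
    IsUnit.of_mul_eq_one _ (add_one_mul_sum h2K (w c) h (hws c hc))
  have h2F : (2 : F) ≠ 0 := fun e => by
    have := (CharP.cast_eq_zero_iff F p 2).1 (by exact_mod_cast e)
    have := Nat.le_of_dvd two_pos this
    omega
  have h3F : (3 : F) ≠ 0 := fun e => by
    have := (CharP.cast_eq_zero_iff F p 3).1 (by exact_mod_cast e)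
    have := Nat.le_of_dvd three_pos this
    omega
  have hj0 : j ≠ 0 := fun e => h2F (by rw [e, zero_mul] at hj; linear_combination hj)
  have hj1 : j ≠ 1 := fun e => h3F (by rw [e, one_mul] at hj; linear_combination hj)
  set v := w 2 with hv
  set a := ∑ i ∈ range h, v ^ (2 * i + 1) with ha
  have hva : (v + 1) * a = 1 := add_one_mul_sum h2K v h (hws 2 h2F)
  -- elements of order three
  have three : ∀ g : Matrix.SpecialLinearGroup (Fin 2) F, g ≠ 1 → g ^ 3 = 1 →
      σ g * σ g + σ g + 1 = 0 := by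
    intro g hg1 hg3
    haveI : Fact (Nat.Prime 3) := ⟨Nat.prime_three⟩
    have ho := orderOf_eq_prime hg3 hg1
    have := hsum g (ho ▸ by decide) hg1
    rw [ho, sum_range_succ, sum_range_succ, sum_range_one, pow_zero, pow_one, sq] at this
    rw [← this]; abel
  have hx3 : σ (xx F) * σ (xx F) + σ (xx F) + 1 = 0 := three _ (fun e => by
    have := congrArg (fun g : Matrix.SpecialLinearGroup (Fin 2) F => (g : Matrix (Fin 2) (Fin 2) F) 0 0) e
    simp [xx] at this) (pow_three_of_trace (by simp [xx]))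
  set x := σ (xx F) with hx
  have hxv : x * ι v * (x * ι v) + x * ι v + 1 = 0 := by
    have h1 := three (-(xx F * uu 2)) (fun e => by
      have := congrArg (fun g : Matrix.SpecialLinearGroup (Fin 2) F => (g : Matrix (Fin 2) (Fin 2) F) 0 0) e
      simp only [Matrix.SpecialLinearGroup.coe_neg, Matrix.SpecialLinearGroup.coe_mul] at this
      simp [xx, uu, Matrix.mul_apply, Fin.sum_univ_two] at this) (pow_three_of_trace (by
        simp only [Matrix.SpecialLinearGroup.coe_neg, Matrix.SpecialLinearGroup.coe_mul]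
        simp [xx, uu, Matrix.mul_apply, Fin.sum_univ_two]; ring))
    rwa [show -(xx F * uu 2) = (-1) * (xx F * uu 2) from (neg_one_mul _).symm, map_mul, hneg, one_mul,
      map_mul] at h1
  set X := x + ι a with hX
  have h2' : ∀ y : E, y + y = 0 := fun y => by rw [← two_mul, h2, zero_mul]
  have hvxv : ι v * x * ι v = ι v + x + 1 := by
    have e1 : (x * x + x + 1) * (ι v * x * ι v) = 0 := by rw [hx3, zero_mul]
    have e2 : (x + 1) * (x * ι v * (x * ι v) + x * ι v + 1) = 0 := by rw [hxv, mul_zero]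
    have e3 : (x * x + x + 1) * ι v = 0 := by rw [hx3, zero_mul]
    calc ι v * x * ι v = (x * x + x + 1) * (ι v * x * ι v) - (x + 1) * (x * ι v * (x * ι v) + x * ι v + 1)
          + (x * x + x + 1) * ι v - ι v + x + 1 := by noncomm_ring
      _ = - ι v + x + 1 := by rw [e1, e2, e3]; abel
      _ = _ := by rw [neg_eq_of_add_eq_zero_left (h2' _)]
  have hvX : ι v * X * ι v = X := by
    have e : v * a * v + v + 1 = a := by linear_combination (v + 1) * hva + (-v * a + v + 1 - a) * h2K
    rw [hX, mul_add, add_mul, hvxv, ← map_mul, ← map_mul,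
      show ι v + x + 1 + ι (v * a * v) = x + ι (v * a * v + v + 1) by simp only [map_add, map_one]; abel, e]
  -- inversion
  have hinv : ∀ n : ℕ, ι (v ^ n) * X * ι (v ^ n) = X := by
    intro n
    induction n with
    | zero => simp
    | succ n ih =>
      calc ι (v ^ (n + 1)) * X * ι (v ^ (n + 1)) = ι (v ^ n) * (ι v * X * ι v) * ι (v ^ n) := by
            rw [map_pow, map_pow]
            simp only [pow_succ, mul_assoc]
            rw [← pow_succ, ← pow_succ']
        _ = X := by rw [hvX, ih]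
  have hXw : ∀ c, X * ι (w c) = ι (w (-c)) * X := by
    intro c
    obtain ⟨n, hn⟩ : ∃ n : ℕ, w c = v ^ n := by
      obtain ⟨n, hn⟩ : ∃ n : ℕ, (n : F) = c / 2 := by
        have hinj : Function.Injective (fun n : Fin p => ((n : ℕ) : F)) := fun a b e =>
          Fin.ext (Nat.ModEq.eq_of_lt_of_lt ((CharP.natCast_eq_natCast F p).1 e) a.2 b.2)
        obtain ⟨n, hn⟩ := ((Fintype.bijective_iff_injective_and_card _).2
          ⟨hinj, by rw [Fintype.card_fin]⟩).2 (c / 2)
        exact ⟨n, hn⟩
      exact ⟨n, by rw [hwpow, hn, div_mul_cancel₀ _ h2F]⟩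
    have h1 := congrArg (fun y => ι (w (-c)) * y) (hinv n)
    simp only [← mul_assoc, ← map_mul] at h1
    rw [← hn, hw, neg_add_cancel, hw0, map_one, one_mul] at h1
    exact h1
  have hsumw : ∑ c : F, w c = 0 := hι (by
    rw [map_sum, map_zero]; exact sum_uu σ hsum hp hp2)
  -- the bar of `a` is `a + 1`
  have hXa : X * ι a = ι (a + 1) * X := by
    have key : ∀ n : ℕ, X * ι (v ^ n) = ι (w (-((n : F) * 2))) * X := fun n => by rw [hwpow, hXw]
    set a' := ∑ i ∈ range h, w (-(((2 * i + 1 : ℕ) : F) * 2)) with ha'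
    have h1 : X * ι a = ι a' * X := by
      rw [ha, map_sum, mul_sum, ha', map_sum, sum_mul]
      exact sum_congr rfl fun i _ => key _
    have h3 : v * a' = (v + 1) * a' + a' := by linear_combination -a' * h2K
    have h4 : (v + 1) * a' = v := by
      have e : ∀ i, w (-(((2 * i + 1 : ℕ) : F) * 2)) = w (-2) ^ (2 * i + 1) := fun i => by
        rw [hwpow]; congr 1; ring
      have h5 := add_one_mul_sum h2K (w (-2)) h (hws (-2) (neg_ne_zero.2 h2F))
      simp only [← e, ← ha'] at h5
      have h6 : v * w (-2) = 1 := by rw [hv, hw, add_neg_cancel, hw0]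
      linear_combination v * h5 - a' * h6
    rw [h1]
    have e : a' = a + 1 := (hunit 2 h2F).mul_left_cancel (by
      show (v + 1) * a' = (v + 1) * (a + 1)
      rw [h4, mul_add, hva, mul_one]
      linear_combination -h2K)
    rw [e]
  have hXX : X * X = ι (a * a + a + 1) := by
    have e0 : X + ι a = x := by rw [hX, add_assoc, h2', add_zero]
    rw [← e0] at hx3
    calc X * X = ((X + ι a) * (X + ι a) + (X + ι a) + 1) - (X * ι a) - (ι a * X) - X
          - (ι a * ι a + ι a + 1) := by noncomm_ring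
      _ = -((ι a + ι a) * X) - (X + X) - (ι a * ι a + ι a + 1) := by
          rw [hx3, hXa, map_add, map_one]; noncomm_ring
      _ = _ := by
          rw [h2', h2', zero_mul, neg_zero, sub_zero, zero_sub, neg_eq_of_add_eq_zero_left (h2' _),
            map_add, map_add, map_mul, map_one]
  have hc : IsUnit (a * a + a + 1) := by
    have h1 : IsUnit ((v + 1) * ((v + 1) * (v + 1)) * (a * a + a + 1)) := by
      have e : (v + 1) * ((v + 1) * (v + 1)) * (a * a + a + 1) = v ^ 3 + 1 := by
        linear_combination ((v + 1) * ((v + 1) * a + 1) + (v + 1) * (v + 1)) * hva + (2 * v ^ 2 + 3 * v + 1) * h2K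
      rw [e, hwpow]
      exact hunit _ (mul_ne_zero (by exact_mod_cast h3F) h2F)
    exact isUnit_of_mul_isUnit_right h1
  -- the third element
  have hxj : σ (uu j * xx F * uu (-j)) = ι (w (2 * j)) * X + ι a := by
    rw [map_mul, map_mul, ← hx]
    have e0 : x = X + ι a := by rw [hX, add_assoc, h2', add_zero]
    show ι (w j) * x * ι (w (-j)) = _
    rw [e0, mul_add, add_mul, mul_assoc (ι (w j)) X, hXw, neg_neg, ← mul_assoc, ← map_mul, hw, ← two_mul,
      ← map_mul, ← map_mul, mul_comm (w j) a, mul_assoc, hw, add_neg_cancel, hw0, mul_one]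
  have hT : (X + ι a) * (ι (w (2 * j)) * X + ι a) * ((X + ι a) * (ι (w (2 * j)) * X + ι a)) +
      (X + ι a) * (ι (w (2 * j)) * X + ι a) + 1 = 0 := by
    rw [← hxj, show X + ι a = x by rw [hX, add_assoc, h2', add_zero], hx, ← map_mul]
    have h1 := three (-(xx F * (uu j * xx F * uu (-j)))) (fun e => by
      have := congrArg (fun g : Matrix.SpecialLinearGroup (Fin 2) F => (g : Matrix (Fin 2) (Fin 2) F) 0 1) e
      simp only [Matrix.SpecialLinearGroup.coe_neg, Matrix.SpecialLinearGroup.coe_mul] at this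
      simp [xx, uu, Matrix.mul_apply, Fin.sum_univ_two] at this
      exact h3F (by linear_combination hj + (j - 1) * this)) (pow_three_of_trace (by
        simp only [Matrix.SpecialLinearGroup.coe_neg, Matrix.SpecialLinearGroup.coe_mul]
        simp [xx, uu, Matrix.mul_apply, Fin.sum_univ_two]
        linear_combination hj))
    rwa [show -(xx F * (uu j * xx F * uu (-j))) = (-1) * (xx F * (uu j * xx F * uu (-j))) from
      (neg_one_mul _).symm, map_mul, hneg, one_mul] at h1
  have hB := no_rel ι hι h2K X a (w (2 * j)) (w (-(2 * j))) v (a * a + a + 1) rfl hXX hXa (hXw _)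
    (by rw [hXw, neg_neg]) hvX (by rw [hw, add_neg_cancel, hw0])
    (by rw [hv, hw]; exact hunit _ (fun e => h2F (by
      have : (2 : F) * 2 = 0 := by linear_combination e
      exact (mul_self_eq_zero.1 this))))
    hc
    (by rw [hw]; exact hunit _ (by rw [← two_mul]; exact mul_ne_zero h2F (mul_ne_zero h2F hj0))) hT
  have e : w (2 * j - 2) + 1 = 0 := by
    have h1 : w (2 * j - 2) * v = w (2 * j) := by rw [hv, hw, sub_add_cancel]
    have h3 : v * (w (2 * j - 2) + 1) = 0 := by
      linear_combination (v + 1) * hB - (1 + w (2 * j)) * hva + h1 + (0 : S) * h2K - h2K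
    have h4 : v * w (-2) = 1 := by rw [hv, hw, add_neg_cancel, hw0]
    linear_combination w (-2) * h3 - (w (2 * j - 2) + 1) * h4
  have h5 := hunit (2 * j - 2) (fun e' => hj1 (mul_left_cancel₀ h2F (by linear_combination e')))
  rw [e] at h5
  exact one_ne_zero (α := E) (by simpa using congrArg ι (isUnit_zero_iff.1 h5).symm)

/-- No prime above five. -/
theorem no_fpf_prime [Nontrivial E] (h2 : (2 : E) = 0) (σ : Matrix.SpecialLinearGroup (Fin 2) F →* E)
    (hneg : σ (-1) = 1) (hsum : ∀ g, Odd (orderOf g) → g ≠ 1 → ∑ i ∈ range (orderOf g), σ g ^ i = 0)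
    (hp : (Fintype.card F).Prime) (hp5 : 5 < Fintype.card F) : False := by
  haveI := Fact.mk hp
  haveI : CharP F (Fintype.card F) := charP_of_card_eq_prime rfl
  by_cases hr : ∃ r : ℕ, r.Prime ∧ r ≠ 2 ∧ r ∣ Fintype.card F - 1
  · obtain ⟨r, hr, hr2, hrd⟩ := hr
    exact false_of_odd_dvd h2 σ hsum hp (by omega) hr hr2 hrd
  push Not at hr
  have h8 : Fintype.card F % 8 = 1 := by
    have e := Nat.eq_prime_pow_of_unique_prime_dvd (p := 2) (n := Fintype.card F - 1) (by omega)
      fun {d} hd hdd => by by_contra hd2; exact hr d hd hd2 hdd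
    set k := (Fintype.card F - 1).primeFactorsList.length
    have hk : 3 ≤ k := by
      by_contra hlt
      push Not at hlt
      interval_cases k <;> omega
    obtain ⟨l, hl⟩ := Nat.exists_eq_add_of_le hk
    rw [hl, pow_add] at e
    omega
  obtain ⟨j, hj⟩ := (FiniteField.isSquare_neg_two_iff (F := F)).2 (by omega)
  exact false_of_fermat h2 σ hneg hsum hp hp5 hj.symm

end Cfsg.Agent.CNStruct
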