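import Mathlib

/-!
No ring of characteristic two carries a representation of `SL(2, p)`, for a prime `p` above five, that is trivial
on `-1` and in which every element of odd order has vanishing sum of powers.
-/

set_option autoImplicit false
set_option linter.style.haveILetI false

universe u v

namespace Cfsg.Agent.CNStruct

open Finset

/-- The inverse of `w + 1` in characteristic two, for `w` with vanishing sum of powers of odd length. -/
theorem add_one_mul_sum {E : Type u} [Ring E] (h2 : (2 : E) = 0) (w : E) (h : ℕ)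
    (hs : ∑ i ∈ range (2 * h + 1), w ^ i = 0) : (w + 1) * ∑ i ∈ range h, w ^ (2 * i + 1) = 1 := by
  have key : ∀ k, (w + 1) * ∑ i ∈ range k, w ^ (2 * i + 1) + 1 = ∑ i ∈ range (2 * k + 1), w ^ i := by
    intro k
    induction k with
    | zero => simp
    | succ k ih =>
      rw [show 2 * (k + 1) + 1 = 2 * k + 1 + 1 + 1 by ring, sum_range_succ (fun i => w ^ i) (2 * k + 1 + 1),
        sum_range_succ (fun i => w ^ i) (2 * k + 1), sum_range_succ (fun i => w ^ (2 * i + 1)) k, mul_add,
        add_mul w 1 (w ^ (2 * k + 1)), ← pow_succ', one_mul, ← ih]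
      abel
  have h1 : ((w + 1) * ∑ i ∈ range h, w ^ (2 * i + 1)) + 1 = 0 := (key h).trans hs
  rw [eq_neg_of_add_eq_zero_left h1, neg_eq_iff_add_eq_zero, one_add_one_eq_two, h2]

section rel

variable {E : Type u} {K : Type v} [Ring E] [CommRing K] (ι : K →+* E)

/-- The relation forced by two elements of order three. -/
theorem no_rel (hι : Function.Injective ι) (h2 : (2 : K) = 0) (X : E) (a r r' v c : K)
    (hc : c = a * a + a + 1) (hXX : X * X = ι c) (hXa : X * ι a = ι (a + 1) * X) (hXr : X * ι r = ι r' * X)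
    (hXr' : X * ι r' = ι r * X) (hvX : ι v * X * ι v = X) (hrr : r * r' = 1) (hv : IsUnit (v * v + 1))
    (hc' : IsUnit c) (hr : IsUnit (r * r + 1))
    (hT : (X + ι a) * (ι r * X + ι a) * ((X + ι a) * (ι r * X + ι a)) + (X + ι a) * (ι r * X + ι a) + 1 = 0) :
    a + 1 + a * r = 0 := by
  set A := a * a + r' * c with hA
  set B := a + 1 + a * r with hB
  set A' := (a + 1) * (a + 1) + r * c with hA'
  set B' := a + 1 + 1 + (a + 1) * r' with hB'
  have hXc : X * ι c = ι c * X := by rw [← hXX, mul_assoc]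
  have hmul : ∀ k k' l l' : K, X * ι k = ι k' * X → X * ι l = ι l' * X → X * ι (k * l) = ι (k' * l') * X :=
    fun k k' l l' hk hl => by rw [map_mul, ← mul_assoc, hk, mul_assoc, hl, ← mul_assoc, map_mul]
  have hadd : ∀ k k' l l' : K, X * ι k = ι k' * X → X * ι l = ι l' * X → X * ι (k + l) = ι (k' + l') * X :=
    fun k k' l l' hk hl => by rw [map_add, mul_add, hk, hl, map_add, add_mul]
  have hone : X * ι 1 = ι 1 * X := by rw [map_one, mul_one, one_mul]
  have hXA : X * ι A = ι A' * X := hadd _ _ _ _ (hmul _ _ _ _ hXa hXa) (hmul _ _ _ _ hXr' hXc)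
  have hXB : X * ι B = ι B' * X := hadd _ _ _ _ (hadd _ _ _ _ hXa hone) (hmul _ _ _ _ hXa hXr)
  have hform : (X + ι a) * (ι r * X + ι a) = ι A + ι B * X := by
    calc (X + ι a) * (ι r * X + ι a) = X * ι r * X + X * ι a + ι a * ι r * X + ι a * ι a := by noncomm_ring
      _ = ι r' * (X * X) + ι (a + 1) * X + ι a * ι r * X + ι a * ι a := by rw [hXr, hXa, mul_assoc]
      _ = _ := by rw [hXX, hA, hB]; simp only [map_add, map_mul, map_one]; noncomm_ring
  have hsq : ι (A * A + B * B' * c + A + 1) + ι (A * B + B * A' + B) * X = 0 := by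
    rw [← hT, hform]
    calc ι (A * A + B * B' * c + A + 1) + ι (A * B + B * A' + B) * X
        = ι A * ι A + ι A * ι B * X + ι B * (ι A' * X) + ι B * (ι B' * (X * X)) + (ι A + ι B * X) + 1 := by
          rw [hXX]; simp only [map_add, map_mul, map_one, mul_assoc]; noncomm_ring
      _ = ι A * ι A + ι A * ι B * X + ι B * (X * ι A) + ι B * ((X * ι B) * X) + (ι A + ι B * X) + 1 := by
          rw [hXA, hXB, mul_assoc (ι B') X X]
      _ = _ := by noncomm_ring
  have split : ∀ C D : K, ι C + ι D * X = 0 → C = 0 ∧ D * c = 0 := by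
    intro C D h
    have h1 : ι (v * v * C) + ι D * X = 0 := by
      have e : ι v * (ι C + ι D * X) * ι v = ι (v * v * C) + ι D * X := by
        rw [mul_add, add_mul, show v * v * C = v * C * v by ring, map_mul, map_mul,
          show ι v * (ι D * X) * ι v = ι (v * D) * X * ι v by rw [map_mul]; noncomm_ring, mul_comm v D, map_mul,
          show ι D * ι v * X * ι v = ι D * (ι v * X * ι v) by noncomm_ring, hvX]
      rw [← e, h, mul_zero, zero_mul]
    have h3 : ι ((v * v + 1) * C) = 0 := by
      have h4 : ι (v * v * C) = ι C := add_right_cancel (h1.trans h.symm)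
      rw [add_mul, one_mul, map_add, h4, ← map_add, ← two_mul, h2, zero_mul, map_zero]
    have hC : C = 0 := hv.mul_right_eq_zero.1 (hι (h3.trans (map_zero ι).symm))
    refine ⟨hC, hι ?_⟩
    rw [hC, map_zero, zero_add] at h
    rw [map_zero, map_mul, ← hXX, ← mul_assoc, h, zero_mul]
  have hD := hc'.mul_left_eq_zero.1 (split _ _ hsq).2
  have e : A * B + B * A' + B = B * (r' * ((r * r + 1) * c)) := by
    rw [hA, hA', hc]
    linear_combination (-(B * r * (a * a + a + 1))) * hrr + B * (a * a + a + 1) * h2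
  rw [e] at hD
  exact (((IsUnit.of_mul_eq_one r (by rw [mul_comm]; exact hrr) : IsUnit r').mul (hr.mul hc')).mul_left_eq_zero).1 hD

end rel

variable {F : Type} [Field F] [Fintype F]

/-- The upper unitriangular matrices. -/
def uu (b : F) : Matrix.SpecialLinearGroup (Fin 2) F :=
  ⟨!![1, b; 0, 1], by simp [Matrix.det_fin_two]⟩

/-- The diagonal matrices. -/
def dd (c : Fˣ) : Matrix.SpecialLinearGroup (Fin 2) F :=
  ⟨!![(c : F), 0; 0, ((c⁻¹ : Fˣ) : F)], by simp [Matrix.det_fin_two]⟩

theorem uu_mul (a b : F) : uu a * uu b = uu (a + b) := by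
  refine Subtype.ext ?_
  rw [Matrix.SpecialLinearGroup.coe_mul]
  ext i j
  fin_cases i <;> fin_cases j <;> simp [uu, Matrix.mul_apply, Fin.sum_univ_two, add_comm]

theorem uu_zero : uu (0 : F) = 1 := by
  refine Subtype.ext ?_
  ext i j
  fin_cases i <;> fin_cases j <;> simp [uu]

theorem dd_mul (a b : Fˣ) : dd a * dd b = dd (a * b) := by
  refine Subtype.ext ?_
  rw [Matrix.SpecialLinearGroup.coe_mul]
  ext i j
  fin_cases i <;> fin_cases j <;> simp [dd, Matrix.mul_apply, Fin.sum_univ_two, mul_comm]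

theorem dd_uu (c : Fˣ) (b : F) : dd c * uu b = uu ((c : F) * c * b) * dd c := by
  refine Subtype.ext ?_
  rw [Matrix.SpecialLinearGroup.coe_mul, Matrix.SpecialLinearGroup.coe_mul]
  ext i j
  fin_cases i <;> fin_cases j <;> simp [dd, uu, Matrix.mul_apply, Fin.sum_univ_two]
  field_simp

theorem uu_pow (a : F) : ∀ n : ℕ, uu a ^ n = uu ((n : F) * a)
  | 0 => by rw [pow_zero, Nat.cast_zero, zero_mul, uu_zero]
  | n + 1 => by rw [pow_succ, uu_pow a n, uu_mul, Nat.cast_succ, add_mul, one_mul]

theorem orderOf_uu {p : ℕ} [CharP F p] (hp : p.Prime) {c : F} (hc : c ≠ 0) : orderOf (uu c) = p := by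
  haveI := Fact.mk hp
  refine orderOf_eq_prime ?_ fun e => hc ?_
  · rw [uu_pow, CharP.cast_eq_zero, zero_mul, uu_zero]
  · have := congrArg (fun g : Matrix.SpecialLinearGroup (Fin 2) F => (g : Matrix (Fin 2) (Fin 2) F) 0 1) e
    simpa [uu] using this

/-- The translations as a homomorphism. -/
def uuHom : Multiplicative F →* Matrix.SpecialLinearGroup (Fin 2) F :=
  MonoidHom.mk' (fun b => uu (Multiplicative.toAdd b)) fun _ _ => (uu_mul _ _).symm

/-- The diagonal matrices as a homomorphism. -/
def ddHom : Fˣ →* Matrix.SpecialLinearGroup (Fin 2) F :=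
  MonoidHom.mk' dd fun a b => (dd_mul a b).symm

/-- The three elements of order three. -/
def xx (F : Type) [Field F] : Matrix.SpecialLinearGroup (Fin 2) F :=
  ⟨!![0, -1; 1, -1], by simp [Matrix.det_fin_two]⟩

theorem pow_three_of_trace {g : Matrix.SpecialLinearGroup (Fin 2) F}
    (h : (g : Matrix (Fin 2) (Fin 2) F) 0 0 + (g : Matrix (Fin 2) (Fin 2) F) 1 1 = -1) : g ^ 3 = 1 := by
  refine Subtype.ext ?_
  have hd := g.2
  rw [Matrix.det_fin_two] at hd
  rw [pow_three, Matrix.SpecialLinearGroup.coe_mul, Matrix.SpecialLinearGroup.coe_mul, Matrix.SpecialLinearGroup.coe_one]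
  ext i j
  fin_cases i <;> fin_cases j <;>
    simp [Matrix.mul_apply, Fin.sum_univ_two]
  all_goals
    generalize (g : Matrix (Fin 2) (Fin 2) F) 0 0 = a at *
    generalize (g : Matrix (Fin 2) (Fin 2) F) 0 1 = b at *
    generalize (g : Matrix (Fin 2) (Fin 2) F) 1 0 = c at *
    generalize (g : Matrix (Fin 2) (Fin 2) F) 1 1 = d at *
  · linear_combination (-2 * a - d) * hd + (a * a + a * d - a - 1 + 0 * d) * h
  · linear_combination -b * hd + (b * a + b * d - b) * h
  · linear_combination -c * hd + (c * a + c * d - c) * h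
  · linear_combination (-a - 2 * d) * hd + (d * d + a * d - d - 1) * h

end Cfsg.Agent.CNStruct
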