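import Cfsg.Agent.Lib.Grp.CNStruct.SzLift
import Cfsg.Agent.Lib.Grp.CNStruct.Coset
import Cfsg.Agent.Lib.Grp.Basic
import Cfsg.Prelude.Def_Transfer

/-!
A normal 2-subgroup with Suzuki quotient on which the elements of odd order act without fixed points is
elementary abelian.
-/

set_option autoImplicit false
set_option linter.style.haveILetI false
set_option linter.unusedSectionVars false

open scoped commutatorElement IsMulCommutative

universe u

namespace Cfsg.Agent.CNStruct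

open Cfsg.Agent.Suz Subgroup Matrix
open scoped Classical

variable {F : Type} [Field F] [Fintype F] {m : ℕ} (hS : SzField F m)
include hS

/-- The representation on an abelian section. -/
theorem section_rep {G : Type u} [Group G] [Finite G] (π : G →* ↥(Cfsg.Sz F m)) (hπ : Function.Surjective π)
    (A : Subgroup G) [hAn : A.Normal] [hA : IsMulCommutative A]
    (hcent : ∀ g ∈ π.ker, ∀ a ∈ A, g * a = a * g)
    (hfpf : ∀ x : G, Odd (orderOf x) → x ≠ 1 → ∀ a ∈ A, Commute x a → a = 1) :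
    ∃ ρ : ↥(Cfsg.Sz F m) →* AddMonoid.End (Additive A),
      AFpf hS ρ ∧ ∀ g (a : Additive A), ρ (π g) a = Additive.ofMul (MulAut.conjNormal g (Additive.toMul a)) := by
  let c : ↥(Cfsg.Sz F m) →* MulAut A := π.liftOfSurjective hπ ⟨MulAut.conjNormal, fun g hg => by
    rw [MonoidHom.mem_ker]
    refine MulEquiv.ext fun a => Subtype.ext ?_
    rw [MulAut.conjNormal_apply, hcent g hg a a.2, mul_inv_cancel_right]; rfl⟩
  have hc : ∀ g, c (π g) = MulAut.conjNormal g := fun g =>
    MonoidHom.liftOfRightInverse_comp_apply π _ (Function.rightInverse_surjInv hπ) _ g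
  let endA : MulAut A →* AddMonoid.End (Additive A) :=
    { toFun := fun f => f.toMonoidHom.toAdditive
      map_one' := rfl
      map_mul' := fun _ _ => rfl }
  let ρ := endA.comp c
  have hρ : ∀ g (a : Additive A), ρ (π g) a = Additive.ofMul (MulAut.conjNormal g (Additive.toMul a)) :=
    fun g a => by
      show Additive.ofMul (c (π g) (Additive.toMul a)) = _
      rw [hc]
  have hfix : ∀ s : ↥(Cfsg.Sz F m), Odd (orderOf s) → s ≠ 1 → ∀ a, ρ s a = a → a = 0 := by
    intro s hs hs1 a ha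
    obtain ⟨x, rfl, hx⟩ := exists_odd_lift hπ hs
    rw [hρ] at ha
    have h1 : x * ((Additive.toMul a : A) : G) * x⁻¹ = (Additive.toMul a : A) := by
      rw [← MulAut.conjNormal_apply]
      exact congrArg (fun b => ((Additive.toMul b : A) : G)) ha
    exact Additive.toMul.injective (Subtype.ext (hfpf x hx (fun e => hs1 (by rw [e, map_one])) _
      (Additive.toMul a).2 (mul_inv_eq_iff_eq_mul.1 h1)))
  refine ⟨ρ, ⟨fun v => ?_, fun f h5 v => ?_⟩, hρ⟩
  · obtain ⟨y, hy⟩ := exists_gen (F := F)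
    have hy1 : y ≠ 1 := fun e => by rw [e, orderOf_one] at hy; have := eight_le hS; omega
    refine hfix (hTor hS y) ?_ (fun e => hy1 (hTor_injective hS (e.trans (hTor_one hS).symm))) _ ?_
    · refine Nat.not_even_iff_odd.1 fun he => card_units_odd hS (he.two_dvd.trans ?_)
      rw [← hy]
      exact orderOf_map_dvd (torHom hS) y
    · rw [map_sum]
      exact Fintype.sum_equiv (Equiv.mulLeft y) _ _ fun z => by
        rw [Equiv.coe_mulLeft, ← aend_mul hS, hTor_mul]
  · refine hfix f (h5 ▸ by decide) (fun e => by rw [e, orderOf_one] at h5; omega) _ ?_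
    rw [map_sum]
    have e : ∀ j, ρ f (ρ (f ^ j) v) = ρ (f ^ (j + 1)) v := fun j => by rw [← aend_mul hS, pow_succ']
    simp only [e]
    have h1 := Finset.sum_range_succ' (fun j => ρ (f ^ j) v) 5
    have h2 := Finset.sum_range_succ (fun j => ρ (f ^ j) v) 5
    have h3 : ρ (f ^ 5) v = ρ (f ^ 0) v := by rw [← h5, pow_orderOf_eq_one, pow_zero]
    rw [h1, h3] at h2
    exact add_right_cancel h2

set_option maxHeartbeats 800000 in
/-- A fixed-point-free normal 2-subgroup below a Suzuki group is elementary abelian. -/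
theorem sz_elementary : ∀ (n : ℕ) (G : Type u) [Group G] [Finite G], Nat.card G = n →
    ∀ π : G →* ↥(Cfsg.Sz F m), Function.Surjective π → IsPGroup 2 π.ker →
      (∀ x : G, Odd (orderOf x) → x ≠ 1 → ∀ v ∈ π.ker, Commute x v → v = 1) →
        Cfsg.IsElementaryAbelian 2 π.ker := by
  intro n
  induction n using Nat.strong_induction_on with
  | _ n ih =>
  intro G _ _ hn π hπ hN2 hfpf
  haveI : Fact (Nat.Prime 2) := ⟨Nat.prime_two⟩
  set N := π.ker with hN
  by_cases hN1 : N = ⊥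
  · rw [hN1]
    exact ⟨⟨⟨fun a b => Subsingleton.elim _ _⟩⟩, fun a ha => by rw [mem_bot.mp ha, one_pow]⟩
  -- a minimal normal subgroup in the centre
  let Ω : Subgroup G :=
    { carrier := {e | e ∈ N ∧ e * e = 1 ∧ ∀ r ∈ N, e * r = r * e}
      one_mem' := ⟨one_mem _, one_mul _, fun r _ => by rw [one_mul, mul_one]⟩
      mul_mem' := fun {a b} ha hb => ⟨mul_mem ha.1 hb.1,
        by rw [(show Commute b a from hb.2.2 a ha.1).mul_mul_mul_comm, ha.2.1, hb.2.1, one_mul],
        fun r hr => by rw [mul_assoc, hb.2.2 r hr, ← mul_assoc, ha.2.2 r hr, mul_assoc]⟩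
      inv_mem' := fun {a} ha => by rw [inv_eq_of_mul_eq_one_right ha.2.1]; exact ha }
  have hNn : N.Normal := MonoidHom.normal_ker π
  haveI : Ω.Normal := ⟨fun e he g => ⟨hNn.conj_mem e he.1 g,
    by rw [show g * e * g⁻¹ * (g * e * g⁻¹) = g * (e * e) * g⁻¹ by group, he.2.1]; group,
    fun r hr => by
      have h1 := he.2.2 (g⁻¹ * r * g) (hNn.conj_mem' r hr g)
      calc g * e * g⁻¹ * r = g * (e * (g⁻¹ * r * g)) * g⁻¹ := by group
        _ = _ := by rw [h1]; group⟩⟩
  have hΩ : Ω ≠ ⊥ := by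
    haveI : Nontrivial N := (Subgroup.nontrivial_iff_ne_bot N).2 hN1
    haveI := hN2.center_nontrivial
    obtain ⟨k, hk⟩ := (hN2.to_subgroup (center N)).exists_card_eq
    have h2 : 2 ∣ Nat.card (center N) := by
      rcases k with _ | k
      · exact absurd hk (Finite.one_lt_card (α := center N)).ne'
      · exact hk ▸ dvd_pow_self 2 k.succ_ne_zero
    obtain ⟨z, hz⟩ := exists_prime_orderOf_dvd_card' 2 h2
    intro e
    have hzm : ((z : N) : G) ∈ Ω := ⟨(z : N).2, by
      have h1 := congrArg (fun a : center N => ((a : N) : G)) (pow_orderOf_eq_one z)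
      rw [hz, sq] at h1
      simpa using h1, fun r hr => by
      exact (congrArg Subtype.val (mem_center_iff.1 z.2 ⟨r, hr⟩)).symm⟩
    rw [e, mem_bot] at hzm
    have : z = 1 := Subtype.ext (Subtype.ext hzm)
    rw [this, orderOf_one] at hz
    omega
  obtain ⟨V, hVn, hV1, hVΩ, hVmin⟩ := Cfsg.Agent.Grp.exists_minimal_normal_le hΩ
  haveI := hVn
  have hVN : V ≤ N := fun v hv => (hVΩ hv).1
  have hV2 : IsPGroup 2 V := hN2.to_le hVN
  have hVc : IsMulCommutative V := ⟨⟨fun a b => Subtype.ext ((hVΩ a.2).2.2 b (hVN b.2))⟩⟩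
  haveI := hVc
  obtain ⟨ρV, hρV, hρVe⟩ := section_rep hS π hπ V
    (fun g hg a ha => ((hVΩ ha).2.2 g hg).symm) (fun x hx hx1 a ha => hfpf x hx hx1 a (hVN ha))
  haveI : Nontrivial (Additive V) := ((Subgroup.nontrivial_iff_ne_bot V).2 hV1 : Nontrivial V)
  obtain ⟨c, hc, j, hjinj, hje⟩ := exists_embedding hS (V := Additive V)
    (fun v => Additive.toMul.injective (Subtype.ext (hVΩ (Additive.toMul v).2).2.1)) hρV (by
      intro W hW
      let K : Subgroup G := (AddSubgroup.toSubgroup' W).map V.subtype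
      haveI hKn : K.Normal := ⟨by
        rintro _ ⟨a, ha, rfl⟩ g
        refine ⟨MulAut.conjNormal g a, ?_, MulAut.conjNormal_apply g a⟩
        have := hW (π g) (Additive.ofMul a) ha
        rwa [hρVe] at this⟩
      rcases hVmin K hKn (map_subtype_le _) with e | e
      · left
        refine eq_bot_iff.2 fun w hw => ?_
        have h1 : ((Additive.toMul w : V) : G) ∈ K := ⟨Additive.toMul w, hw, rfl⟩
        rw [e, mem_bot] at h1
        exact AddSubgroup.mem_bot.2 (Additive.toMul.injective (Subtype.ext h1))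
      · right
        refine eq_top_iff.2 fun w _ => ?_
        obtain ⟨a, ha, he⟩ := (e.ge (Additive.toMul w).2 : _)
        have : Additive.toMul w = a := Subtype.ext he.symm
        rw [show w = Additive.ofMul a from this ▸ rfl]
        exact ha)
  -- the quotient
  let π' : G ⧸ V →* ↥(Cfsg.Sz F m) := QuotientGroup.lift V π hVN
  have hπ' : ∀ g : G, π' g = π g := fun g => rfl
  have hker' : ∀ g : G, (g : G ⧸ V) ∈ π'.ker ↔ g ∈ N := fun g => Iff.rfl
  have hsur' : Function.Surjective π' := fun s => (hπ s).elim fun g hg => ⟨g, hg⟩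
  have hN2' : IsPGroup 2 π'.ker := by
    have e : π'.ker = N.map (QuotientGroup.mk' V) := by
      ext q
      obtain ⟨g, rfl⟩ := QuotientGroup.mk_surjective q
      exact ⟨fun hg => ⟨g, hg, rfl⟩, fun ⟨g', hg', e⟩ => e ▸ hg'⟩
    rw [e]
    exact hN2.map _
  have hfpf' : ∀ y : G ⧸ V, Odd (orderOf y) → y ≠ 1 → ∀ w ∈ π'.ker, Commute y w → w = 1 := by
    intro y hy hy1 w hw hc'
    obtain ⟨w, rfl⟩ := QuotientGroup.mk_surjective w
    exact fpf_quotient V N hV2 hVN hfpf hy hy1 hw hc'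
  have hlt : Nat.card (G ⧸ V) < n := by
    rw [← hn, V.card_eq_card_quotient_mul_card_subgroup]
    exact lt_mul_of_one_lt_right Nat.card_pos ((one_lt_card_iff_ne_bot V).2 hV1)
  have hel := ih _ hlt (G ⧸ V) rfl π' hsur' hN2' hfpf'
  haveI := hel.1
  have hab : ∀ a ∈ N, ∀ b ∈ N, a * b * a⁻¹ * b⁻¹ ∈ V := fun a ha b hb => by
    rw [← QuotientGroup.eq_one_iff]
    have h := congrArg Subtype.val (hel.1.is_comm.comm (⟨(a : G ⧸ V), ha⟩ : π'.ker) ⟨(b : G ⧸ V), hb⟩)
    simp only [QuotientGroup.mk_mul, QuotientGroup.mk_inv]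
    simp only [Subgroup.coe_mul] at h
    rw [h]
    group
  have hsqV : ∀ a ∈ N, a * a ∈ V := fun a ha => by
    rw [← QuotientGroup.eq_one_iff, QuotientGroup.mk_mul, ← sq]
    exact hel.2 _ ha
  obtain ⟨ρW, hρW, hρWe⟩ := section_rep hS π' hsur' π'.ker
    (fun g hg a ha => congrArg Subtype.val (hel.1.is_comm.comm (⟨g, hg⟩ : π'.ker) ⟨a, ha⟩)) hfpf'
  -- commutators
  have hrep : ∀ w : Additive π'.ker, ∃ a : G, a ∈ N ∧ (a : G ⧸ V) = ((Additive.toMul w : π'.ker) : G ⧸ V) := by
    intro w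
    obtain ⟨a, ha⟩ := QuotientGroup.mk_surjective ((Additive.toMul w : π'.ker) : G ⧸ V)
    exact ⟨a, (hker' a).1 (ha.symm ▸ (Additive.toMul w).2), ha⟩
  choose r hrN hr using hrep
  have hVcen : ∀ v ∈ V, ∀ a ∈ N, Commute v a := fun v hv a ha => (hVΩ hv).2.2 a ha
  let κ : ∀ a b : G, a ∈ N → b ∈ N → V := fun a b ha hb => ⟨a * b * a⁻¹ * b⁻¹, hab a ha b hb⟩
  have hκmul : ∀ a a' b, ∀ ha : a ∈ N, ∀ ha' : a' ∈ N, ∀ hb : b ∈ N,
      κ (a * a') b (mul_mem ha ha') hb = κ a b ha hb * κ a' b ha' hb := by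
    intro a a' b ha ha' hb
    refine Subtype.ext ?_
    show a * a' * b * (a * a')⁻¹ * b⁻¹ = a * b * a⁻¹ * b⁻¹ * (a' * b * a'⁻¹ * b⁻¹)
    calc a * a' * b * (a * a')⁻¹ * b⁻¹ = a * (a' * b * a'⁻¹ * b⁻¹) * (b * a⁻¹ * b⁻¹) := by group
      _ = (a' * b * a'⁻¹ * b⁻¹) * a * (b * a⁻¹ * b⁻¹) := by rw [(hVcen _ (hab a' ha' b hb) a ha).symm.eq]
      _ = (a' * b * a'⁻¹ * b⁻¹) * (a * b * a⁻¹ * b⁻¹) := by group
      _ = _ := hVcen _ (hab a' ha' b hb) _ (hVN (hab a ha b hb))
  have hκswap : ∀ a b, ∀ ha : a ∈ N, ∀ hb : b ∈ N, κ a b ha hb = κ b a hb ha := by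
    intro a b ha hb
    refine Subtype.ext ?_
    show a * b * a⁻¹ * b⁻¹ = b * a * b⁻¹ * a⁻¹
    have h1 := (hVΩ (hab a ha b hb)).2.1
    rw [eq_inv_of_mul_eq_one_left h1]
    group
  have hκwd : ∀ a a' b, ∀ ha : a ∈ N, ∀ ha' : a' ∈ N, ∀ hb : b ∈ N, (a : G ⧸ V) = a' →
      κ a b ha hb = κ a' b ha' hb := by
    intro a a' b ha ha' hb he
    have hv : a⁻¹ * a' ∈ V := QuotientGroup.eq.1 he
    have h1 := hκmul a (a⁻¹ * a') b ha (hVN hv) hb
    have h2 : κ (a⁻¹ * a') b (hVN hv) hb = 1 := Subtype.ext (by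
      show a⁻¹ * a' * b * (a⁻¹ * a')⁻¹ * b⁻¹ = 1
      rw [(hVcen _ hv b hb).eq]; group)
    rw [h2, mul_one] at h1
    rw [← h1]
    exact Subtype.ext (by
      show a * (a⁻¹ * a') * b * (a * (a⁻¹ * a'))⁻¹ * b⁻¹ = a' * b * a'⁻¹ * b⁻¹
      rw [mul_inv_cancel_left])
  let f : Additive π'.ker → Additive π'.ker → (Fin 4 → F) :=
    fun x y => j (Additive.ofMul (κ (r x) (r y) (hrN x) (hrN y)))
  have hfadd : ∀ x x' y, f (x + x') y = f x y + f x' y := by
    intro x x' y
    show j (Additive.ofMul (κ (r (x + x')) (r y) (hrN _) (hrN y))) =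
      j (Additive.ofMul (κ (r x) (r y) (hrN x) (hrN y))) + j (Additive.ofMul (κ (r x') (r y) (hrN x') (hrN y)))
    rw [← map_add, ← ofMul_mul, ← hκmul]
    refine congrArg j (congrArg Additive.ofMul (hκwd _ _ _ (hrN _) (mul_mem (hrN _) (hrN _)) (hrN _) ?_))
    · rw [hr, QuotientGroup.mk_mul, hr, hr]; rfl
    all_goals exact hrN _
  have hfswap : ∀ x y, f x y = f y x := fun x y => congrArg j (congrArg Additive.ofMul (hκswap _ _ (hrN _) (hrN _)))
  let β : Additive π'.ker →+ Additive π'.ker →+ (Fin 4 → F) :=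
    AddMonoidHom.mk' (fun x => AddMonoidHom.mk' (f x) fun y y' => by
      rw [hfswap x, hfadd, hfswap y, hfswap y']) fun x x' => AddMonoidHom.ext fun y => hfadd x x' y
  have hβ : ∀ s x y, β (ρW s x) (ρW s y) = tw c s *ᵥ β x y := by
    intro s x y
    obtain ⟨g, rfl⟩ := hπ s
    show f _ _ = _ *ᵥ f x y
    rw [← hje, hρVe]
    have hrg : ∀ z, ((r (ρW (π g) z) : G) : G ⧸ V) = ((g * r z * g⁻¹ : G) : G ⧸ V) := by
      intro z
      rw [hr, ← hπ' g, hρWe, toMul_ofMul, MulAut.conjNormal_apply, QuotientGroup.mk_mul, QuotientGroup.mk_mul,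
        QuotientGroup.mk_inv, hr]
    refine congrArg j (congrArg Additive.ofMul ?_)
    rw [hκwd _ _ _ _ (hNn.conj_mem _ (hrN x) g) _ (hrg x), hκswap,
      hκwd _ _ _ _ (hNn.conj_mem _ (hrN y) g) _ (hrg y), hκswap]
    refine Subtype.ext ?_
    · simp only [κ, toMul_ofMul, MulAut.conjNormal_apply]
      group
    all_goals first | exact hrN _ | exact hNn.conj_mem _ (hrN _) _
  have hβ0 := biadd_zero hS (fun w => Additive.toMul.injective (Subtype.ext (by
      show ((Additive.toMul w : π'.ker) : G ⧸ V) * (Additive.toMul w : π'.ker) = 1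
      rw [← sq]; exact hel.2 _ (Additive.toMul w).2))) hρW hc β hβ
  have hcomm : ∀ a ∈ N, ∀ b ∈ N, a * b = b * a := by
    intro a ha b hb
    have h0 : f (Additive.ofMul ⟨(a : G ⧸ V), ha⟩) (Additive.ofMul ⟨(b : G ⧸ V), hb⟩) = 0 :=
      DFunLike.congr_fun (DFunLike.congr_fun hβ0 _) _
    have h1 := hjinj (h0.trans (map_zero j).symm)
    have ea : (a : G ⧸ V) = (r (Additive.ofMul ⟨(a : G ⧸ V), ha⟩) : G) := (hr (Additive.ofMul ⟨_, _⟩)).symm
    have eb : (b : G ⧸ V) = (r (Additive.ofMul ⟨(b : G ⧸ V), hb⟩) : G) := (hr (Additive.ofMul ⟨_, _⟩)).symm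
    have h2 : κ a b ha hb = 1 := by
      rw [hκwd a _ b ha (hrN _) hb ea, hκswap _ _ (hrN _) hb,
        hκwd b _ _ hb (hrN _) (hrN _) eb, hκswap _ _ (hrN _) (hrN _)]
      exact h1
    exact mul_inv_eq_iff_eq_mul.1 (mul_inv_eq_one.1 (congrArg Subtype.val h2))
  have hNc : IsMulCommutative N := ⟨⟨fun a b => Subtype.ext (hcomm a a.2 b b.2)⟩⟩
  refine ⟨hNc, fun a ha => ?_⟩
  haveI := hNc
  obtain ⟨ρN, hρN, hρNe⟩ := section_rep hS π hπ N
    (fun g hg a ha => hcomm g hg a ha) hfpf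
  let σ : Additive N →+ (Fin 4 → F) := j.comp (AddMonoidHom.mk'
    (fun x : Additive N => Additive.ofMul (⟨((Additive.toMul x : N) : G) * (Additive.toMul x : N),
      hsqV _ (Additive.toMul x).2⟩ : V)) fun x y => Additive.toMul.injective (Subtype.ext (by
      simp only [toMul_ofMul, toMul_add, Subgroup.coe_mul]
      exact (show Commute ((Additive.toMul y : N) : G) (Additive.toMul x : N) from
        hcomm _ (Additive.toMul y).2 _ (Additive.toMul x).2).mul_mul_mul_comm _ _)))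
  have hσ0 := no_lift hS (fun x : Additive N => Additive.toMul.injective (Subtype.ext (by
      simp only [toMul_add, toMul_zero, Subgroup.coe_mul, Subgroup.coe_one]
      exact (hVΩ (hsqV _ (Additive.toMul x).2)).2.1))) (ρ := ρN) hρN.tor c σ (by
    intro s x
    obtain ⟨g, rfl⟩ := hπ s
    simp only [σ, AddMonoidHom.comp_apply]
    rw [← hje, hρNe]
    refine congrArg j ?_
    simp only [AddMonoidHom.mk'_apply]
    rw [hρVe]
    refine Additive.toMul.injective (Subtype.ext ?_)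
    simp only [toMul_ofMul, MulAut.conjNormal_apply]
    group) (fun x => by
    simp only [σ, AddMonoidHom.comp_apply, AddMonoidHom.mk'_apply]
    rw [← map_zero j, hjinj.eq_iff]
    constructor
    · intro h
      exact Additive.toMul.injective (Subtype.ext (congrArg (fun v : Additive V => ((Additive.toMul v : V) : G)) h))
    · intro h
      exact Additive.toMul.injective (Subtype.ext (congrArg (fun v : Additive N => ((Additive.toMul v : N) : G)) h)))
    (Additive.ofMul ⟨a, ha⟩)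
  have h1 : σ (Additive.ofMul ⟨a, ha⟩) = j 0 := hσ0.trans (map_zero j).symm
  rw [sq]
  exact congrArg (fun v : Additive V => ((Additive.toMul v : V) : G)) (hjinj h1)

end Cfsg.Agent.CNStruct
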