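import Cfsg.Agent.Lib.Grp.CNStruct.Almost
import Cfsg.Agent.Lib.Grp.CNStruct.SzExt
import Cfsg.Agent.Lib.Grp.CNStruct.PSLCases
import Cfsg.Agent.Lib.Invol.SL2FpfGroup

/-!
A nonsolvable CN-group modulo its largest normal 2-subgroup, and the extensions that occur.
-/

set_option autoImplicit false
set_option linter.style.haveILetI false
set_option linter.unusedSectionVars false

open scoped IsMulCommutative

universe u v

namespace Cfsg.Agent.CNStruct

open Subgroup Cfsg.Agent
open Cfsg.Agent.Transfer.CIT (IsCIT)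
open Cfsg.Agent.Grp.ThreeOrders

variable {G : Type u} [Group G] [Finite G]

/-- No odd abelian normal subgroup without a normal 2-subgroup. -/
theorem no_odd (hCN : Cfsg.IsCNGroup G) (hns : ¬ Group.IsSolvable G) (hO : Cfsg.pCore 2 G = ⊥)
    (V : Subgroup G) [hVn : V.Normal] (hV : ¬ 2 ∣ Nat.card V) (hVc : ∀ a ∈ V, ∀ b ∈ V, a * b = b * a) :
    V = ⊥ := by
  classical
  haveI := Fact.mk Nat.prime_two
  by_contra hV1
  haveI hVnil : Group.IsNilpotent V := by
    haveI : IsMulCommutative V := ⟨⟨fun a b => Subtype.ext (hVc a a.2 b b.2)⟩⟩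
    exact CommGroup.isNilpotent
  obtain ⟨v, hvV, hv1⟩ := V.bot_or_exists_ne_one.resolve_left hV1
  set C := centralizer (V : Set G) with hC
  haveI : C.Normal := inferInstance
  have hCnil : Group.IsNilpotent C := Grp.isNilpotent_of_le
    (fun c hc => mem_centralizer_singleton_iff.2 (mem_centralizer_iff.1 hc v hvV).symm) (hCN v hv1)
  haveI := hCnil
  haveI : Group.IsSolvable C := inferInstance
  have hCodd : ¬ 2 ∣ Nat.card C := fun h2 => by
    obtain ⟨S⟩ : Nonempty (Sylow 2 C) := inferInstance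
    haveI : (S : Subgroup C).Normal := inferInstance
    haveI : (S : Subgroup C).Characteristic := S.characteristic_of_normal inferInstance
    have h1 : (S : Subgroup C).map C.subtype ≤ Cfsg.pCore 2 G := le_sSup ⟨inferInstance, S.isPGroup'.map _⟩
    rw [hO, le_bot_iff, map_eq_bot_iff_of_injective _ C.subtype_injective] at h1
    exact S.ne_bot_of_dvd_card h2 h1
  have h2G : 2 ∣ Nat.card G := by
    by_contra h2
    exact hns (odd_solvable h2)
  obtain ⟨t, ht⟩ := exists_prime_orderOf_dvd_card' 2 h2G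
  have htt : t * t = 1 := by rw [← sq, ← ht, pow_orderOf_eq_one]
  have hinv : ∀ s : G, orderOf s = 2 → ∀ n ∈ V, s * n * s⁻¹ = n⁻¹ := by
    intro s hs n hn
    have hfix : ∀ u ∈ V, Commute s u → u = 1 := by
      intro u hu hsu
      by_contra hu1
      have hall := Transfer.CN.commute_all hCN hVnil (by
        rw [hs]; exact Nat.prime_two.coprime_iff_not_dvd.2 hV) hu hu1 hsu
      exact hCodd (hs ▸ C.orderOf_dvd_natCard (mem_centralizer_iff.2 fun x hx => (hall x hx).eq.symm))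
    let ψ : V → V := fun u => ⟨(u : G)⁻¹ * (s * u * s⁻¹), mul_mem (inv_mem u.2) (hVn.conj_mem _ u.2 s)⟩
    have hψ : Function.Injective ψ := by
      intro u w huw
      have e : (u : G)⁻¹ * (s * u * s⁻¹) = (w : G)⁻¹ * (s * w * s⁻¹) := congrArg Subtype.val huw
      have h1 := hfix ((w : G) * (u : G)⁻¹) (mul_mem w.2 (inv_mem u.2)) (mul_inv_eq_iff_eq_mul.1 (by
        have e3 : s * u * s⁻¹ = (u : G) * ((w : G)⁻¹ * (s * w * s⁻¹)) := by rw [← e]; group
        calc s * ((w : G) * (u : G)⁻¹) * s⁻¹ = (s * w * s⁻¹) * (s * u * s⁻¹)⁻¹ := by group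
          _ = _ := by rw [e3]; group))
      exact (Subtype.ext (mul_inv_eq_one.1 h1)).symm
    obtain ⟨u, hu⟩ := (Finite.injective_iff_surjective.mp hψ) ⟨n, hn⟩
    have e : (u : G)⁻¹ * (s * u * s⁻¹) = n := congrArg Subtype.val hu
    have hss : s * s = 1 := by rw [← sq, ← hs, pow_orderOf_eq_one]
    have hs' : s⁻¹ = s := inv_eq_of_mul_eq_one_right hss
    rw [← e, hs']
    simp only [mul_inv_rev, hs', inv_inv, mul_assoc, hss, mul_one]
  have htop : C ⊔ centralizer ({t} : Set G) = ⊤ := by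
    refine eq_top_iff.2 fun g _ => ?_
    set z' := g * t * g⁻¹ with hz'
    have hz'o : orderOf z' = 2 := by rw [hz', Invol.orderOf_conj_eq, ht]
    have hzz : z' * z' = 1 := by rw [← sq, ← hz'o, pow_orderOf_eq_one]
    set w := t * z' with hw
    have hwC : w ∈ C := mem_centralizer_iff.2 fun n hn => by
      have e1 := hinv z' hz'o n hn
      have e2 := hinv t ht n⁻¹ (inv_mem hn)
      rw [inv_inv] at e2
      have h1 : w * n * w⁻¹ = n := by
        calc w * n * w⁻¹ = t * (z' * n * z'⁻¹) * t⁻¹ := by rw [hw]; group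
          _ = _ := by rw [e1, e2]
      exact (mul_inv_eq_iff_eq_mul.1 h1).symm
    obtain ⟨k, hk⟩ := (Nat.not_even_iff_odd.1 fun he => hCodd (he.two_dvd.trans (C.orderOf_dvd_natCard hwC)) :
      Odd (orderOf w))
    set hh := w ^ (k + 1) with hhh
    have hh2 : hh * hh = w := by
      rw [hhh, ← pow_add, show k + 1 + (k + 1) = orderOf w + 1 by omega, pow_succ, pow_orderOf_eq_one, one_mul]
    have htw : t * w * t⁻¹ = w⁻¹ := by
      rw [hw, mul_inv_rev, inv_eq_of_mul_eq_one_right hzz, ← mul_assoc, htt, one_mul]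
    have hth : t * hh * t⁻¹ = hh⁻¹ := by rw [hhh, ← conj_pow, htw, inv_pow]
    have hc : hh * g ∈ centralizer ({t} : Set G) := by
      refine mem_centralizer_singleton_iff.2 (mul_inv_eq_iff_eq_mul.1 ?_)
      calc hh * g * t * (hh * g)⁻¹ = hh * z' * hh⁻¹ := by rw [hz']; group
        _ = hh * (t * w) * hh⁻¹ := by rw [hw, ← mul_assoc t, htt, one_mul]
        _ = hh * (t * hh) := by rw [← hh2]; group
        _ = hh * (t * hh * t⁻¹) * t := by group
        _ = t := by rw [hth, mul_inv_cancel, one_mul]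
    have := mul_mem (mem_sup_left (T := centralizer ({t} : Set G)) (inv_mem (C.pow_mem hwC (k + 1))))
      (mem_sup_right (S := C) hc)
    rwa [inv_mul_cancel_left] at this
  have ht1 : t ≠ 1 := fun e => by rw [e, orderOf_one] at ht; norm_num at ht
  haveI : Group.IsNilpotent (centralizer ({t} : Set G)) := hCN t ht1
  let f : centralizer ({t} : Set G) →* G ⧸ C := (QuotientGroup.mk' C).comp (Subgroup.subtype _)
  have hf : Function.Surjective f := by
    intro x
    obtain ⟨g, rfl⟩ := QuotientGroup.mk_surjective x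
    have hg : g ∈ (↑(C ⊔ centralizer ({t} : Set G)) : Set G) := by rw [htop]; trivial
    rw [normal_mul] at hg
    obtain ⟨c, hc, d, hd, rfl⟩ := Set.mem_mul.1 hg
    refine ⟨⟨d, hd⟩, ?_⟩
    show ((d : G) : G ⧸ C) = _
    rw [QuotientGroup.mk_mul, (QuotientGroup.eq_one_iff c).2 hc, one_mul]
  haveI : Group.IsSolvable (G ⧸ C) := Group.isSolvable_of_surjective hf
  exact hns ((Group.isSolvable_iff_subgroup_quotient C).mpr ⟨inferInstance, inferInstance⟩)

/-- Modulo the 2-core there is no solvable normal subgroup. -/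
theorem radical_trivial (hCN : Cfsg.IsCNGroup G) (hns : ¬ Group.IsSolvable G) (hO : Cfsg.pCore 2 G = ⊥)
    (N : Subgroup G) (hNn : N.Normal) (hN : Group.IsSolvable N) : N = ⊥ := by
  classical
  by_contra hN1
  haveI := hNn
  obtain ⟨A, hAn, hA, hAN, hAmin⟩ := Grp.exists_minimal_normal_le hN1
  haveI := hAn
  obtain ⟨p, hp, hAp⟩ :=
    Grp.minimal_normal_solvable_isPGroup (Grp.isSolvable_of_le hAN hN) hA hAmin
  by_cases hp2 : p = 2
  · subst hp2
    exact hA (le_bot_iff.1 (hO ▸ (le_sSup ⟨hAn, hAp⟩ : A ≤ Cfsg.pCore 2 G)))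
  haveI := Fact.mk hp
  haveI : Nontrivial A := (Subgroup.nontrivial_iff_ne_bot A).2 hA
  haveI := hAp.center_nontrivial
  set Z := (center A).map A.subtype with hZ
  haveI : Z.Normal := inferInstance
  obtain ⟨k, hk⟩ := (hAp.to_subgroup (center A)).exists_card_eq
  have hodd : ¬ 2 ∣ Nat.card Z := by
    rw [hZ, card_map_of_injective A.subtype_injective, hk]
    exact fun hd => hp2 ((Nat.prime_dvd_prime_iff_eq Nat.prime_two hp).1 (Nat.prime_two.dvd_of_dvd_pow hd)).symm
  have hZc : ∀ a ∈ Z, ∀ b ∈ Z, a * b = b * a := by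
    rintro _ ⟨a, ha, rfl⟩ _ ⟨b, -, rfl⟩
    exact congrArg Subtype.val (mem_center_iff.1 ha b).symm
  have := no_odd hCN hns hO Z hodd hZc
  rw [hZ, map_eq_bot_iff_of_injective _ A.subtype_injective] at this
  exact (Subgroup.nontrivial_iff_ne_bot _).1 inferInstance this

/-- The action of a quotient on a central normal subgroup. -/
theorem exists_rep {H : Type v} [Group H] (π : G →* H) (hπ : Function.Surjective π)
    (A : Subgroup G) [hAn : A.Normal] [hA : IsMulCommutative A]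
    (hcent : ∀ g ∈ π.ker, ∀ a ∈ A, g * a = a * g)
    (hfpf : ∀ x : G, Odd (orderOf x) → x ≠ 1 → ∀ a ∈ A, Commute x a → a = 1) :
    ∃ ρ : H →* AddMonoid.End (Additive A),
      ∀ s : H, Odd (orderOf s) → s ≠ 1 → ∀ a, ρ s a = a → a = 0 := by
  let c : H →* MulAut A := π.liftOfSurjective hπ ⟨MulAut.conjNormal, fun g hg => by
    rw [MonoidHom.mem_ker]
    refine MulEquiv.ext fun a => Subtype.ext ?_
    rw [MulAut.conjNormal_apply, hcent g hg a a.2, mul_inv_cancel_right]; rfl⟩
  have hc : ∀ g, c (π g) = MulAut.conjNormal g := fun g =>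
    MonoidHom.liftOfRightInverse_comp_apply π _ (Function.rightInverse_surjInv hπ) _ g
  let endA : MulAut A →* AddMonoid.End (Additive A) :=
    { toFun := fun f => f.toMonoidHom.toAdditive
      map_one' := rfl
      map_mul' := fun _ _ => rfl }
  refine ⟨endA.comp c, fun s hs hs1 a ha => ?_⟩
  obtain ⟨x, rfl, hx⟩ := exists_odd_lift hπ hs
  change Additive.ofMul (c (π x) (Additive.toMul a)) = a at ha
  rw [hc] at ha
  have h1 : x * ((Additive.toMul a : A) : G) * x⁻¹ = (Additive.toMul a : A) := by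
    rw [← MulAut.conjNormal_apply]
    exact congrArg (fun b => ((Additive.toMul b : A) : G)) ha
  exact Additive.toMul.injective (Subtype.ext (hfpf x hx (fun e => hs1 (by rw [e, map_one])) _
    (Additive.toMul a).2 (mul_inv_eq_iff_eq_mul.1 h1)))

/-- A nontrivial elementary abelian normal subgroup in the centre of a normal 2-subgroup. -/
theorem exists_omega (N : Subgroup G) [hNn : N.Normal] (hN2 : IsPGroup 2 N) (hN1 : N ≠ ⊥) :
    ∃ Ω : Subgroup G, Ω.Normal ∧ Ω ≠ ⊥ ∧ Ω ≤ N ∧ (∀ e ∈ Ω, e * e = 1) ∧ ∀ e ∈ Ω, ∀ r ∈ N, e * r = r * e := by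
  haveI := Fact.mk Nat.prime_two
  let Ω : Subgroup G :=
    { carrier := {e | e ∈ N ∧ e * e = 1 ∧ ∀ r ∈ N, e * r = r * e}
      one_mem' := ⟨one_mem _, one_mul _, fun r _ => by rw [one_mul, mul_one]⟩
      mul_mem' := fun {a b} ha hb => ⟨mul_mem ha.1 hb.1,
        by rw [(show Commute b a from hb.2.2 a ha.1).mul_mul_mul_comm, ha.2.1, hb.2.1, one_mul],
        fun r hr => by rw [mul_assoc, hb.2.2 r hr, ← mul_assoc, ha.2.2 r hr, mul_assoc]⟩
      inv_mem' := fun {a} ha => by rw [inv_eq_of_mul_eq_one_right ha.2.1]; exact ha }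
  refine ⟨Ω, ⟨fun e he g => ⟨hNn.conj_mem e he.1 g,
    by rw [show g * e * g⁻¹ * (g * e * g⁻¹) = g * (e * e) * g⁻¹ by group, he.2.1]; group,
    fun r hr => by
      have h1 := he.2.2 (g⁻¹ * r * g) (hNn.conj_mem' r hr g)
      calc g * e * g⁻¹ * r = g * (e * (g⁻¹ * r * g)) * g⁻¹ := by group
        _ = _ := by rw [h1]; group⟩⟩, ?_, fun e he => he.1, fun e he => he.2.1, fun e he => he.2.2⟩
  haveI : Nontrivial N := (Subgroup.nontrivial_iff_ne_bot N).2 hN1
  haveI := hN2.center_nontrivial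
  obtain ⟨k, hk⟩ := (hN2.to_subgroup (center N)).exists_card_eq
  have h2 : 2 ∣ Nat.card (center N) := by
    rcases k with _ | k
    · exact absurd hk (Finite.one_lt_card (α := center N)).ne'
    · exact hk ▸ dvd_pow_self 2 k.succ_ne_zero
  obtain ⟨z, hz⟩ := exists_prime_orderOf_dvd_card' 2 h2
  intro e
  have hzm : ((z : N) : G) ∈ Ω := ⟨(z : N).2, by
    have h1 := congrArg (fun a : center N => ((a : N) : G)) (pow_orderOf_eq_one z)
    rw [hz, sq] at h1
    simpa using h1, fun r hr => (congrArg Subtype.val (mem_center_iff.1 z.2 ⟨r, hr⟩)).symm⟩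
  rw [e, mem_bot] at hzm
  have : z = 1 := Subtype.ext (Subtype.ext hzm)
  rw [this, orderOf_one] at hz
  omega

/-- No fixed-point-free normal 2-subgroup below `PSL(2, p)` for a prime above five. -/
theorem no_prime_below {F : Type} [Field F] [Fintype F] (hp : (Fintype.card F).Prime) (hp5 : 5 < Fintype.card F)
    (π : G →* Matrix.ProjectiveSpecialLinearGroup (Fin 2) F) (hπ : Function.Surjective π)
    (hN : IsPGroup 2 π.ker) (hN1 : π.ker ≠ ⊥)
    (hfpf : ∀ x : G, Odd (orderOf x) → x ≠ 1 → ∀ v ∈ π.ker, Commute x v → v = 1) : False := by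
  classical
  obtain ⟨Ω, hΩn, hΩ1, hΩN, hΩ2, hΩc⟩ := exists_omega π.ker hN hN1
  haveI := hΩn
  haveI : IsMulCommutative Ω := ⟨⟨fun a b => Subtype.ext (hΩc a a.2 b (hΩN b.2))⟩⟩
  obtain ⟨ρ, hρ⟩ := exists_rep π hπ Ω (fun g hg a ha => (hΩc a ha g hg).symm)
    (fun x hx hx1 a ha => hfpf x hx hx1 a (hΩN ha))
  haveI : Nontrivial (Additive Ω) := ((Subgroup.nontrivial_iff_ne_bot Ω).2 hΩ1 : Nontrivial Ω)
  haveI : Nontrivial (AddMonoid.End (Additive Ω)) := by
    refine ⟨⟨1, 0, fun e => ?_⟩⟩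
    obtain ⟨a, ha⟩ := exists_ne (0 : Additive Ω)
    exact ha (DFunLike.congr_fun e a)
  have h2 : (2 : AddMonoid.End (Additive Ω)) = 0 := by
    rw [← one_add_one_eq_two]
    refine AddMonoidHom.ext fun a => Additive.toMul.injective (Subtype.ext ?_)
    exact hΩ2 _ (Additive.toMul a).2
  let mk := QuotientGroup.mk' (center (Matrix.SpecialLinearGroup (Fin 2) F))
  have hneg : mk (-1) = 1 := (QuotientGroup.eq_one_iff _).2 (mem_center_iff.2 fun B => by
    rw [mul_neg_one, neg_one_mul])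
  refine no_fpf_prime h2 (ρ.comp mk) (by rw [MonoidHom.comp_apply, hneg, map_one]) (fun g hg hg1 => ?_) hp hp5
  have hsc : mk g ≠ 1 := by
    intro e
    obtain ⟨r, hr, hgr⟩ := Matrix.SpecialLinearGroup.mem_center_iff.1 ((QuotientGroup.eq_one_iff g).1 e)
    have hg2 : g ^ 2 = 1 := by
      refine Subtype.ext ?_
      rw [sq, Matrix.SpecialLinearGroup.coe_mul, ← hgr, ← map_mul, Matrix.SpecialLinearGroup.coe_one]
      rw [Fintype.card_fin, sq] at hr
      rw [hr, map_one]
    rcases (Nat.dvd_prime Nat.prime_two).1 (orderOf_dvd_of_pow_eq_one hg2) with h | h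
    · exact hg1 (orderOf_eq_one_iff.1 h)
    · rw [h] at hg; exact absurd hg (by decide)
  refine AddMonoidHom.ext fun a => ?_
  refine hρ (mk g) (hg.of_dvd_nat (orderOf_map_dvd mk g)) hsc _ ?_
  set f := (ρ.comp mk) g with hf
  have h1 : f * ∑ i ∈ Finset.range (orderOf g), f ^ i = ∑ i ∈ Finset.range (orderOf g), f ^ i := by
    rw [Finset.mul_sum]
    simp only [← pow_succ']
    have e1 := Finset.sum_range_succ' (fun i => f ^ i) (orderOf g)
    have e2 := Finset.sum_range_succ (fun i => f ^ i) (orderOf g)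
    rw [e1, pow_zero, show f ^ orderOf g = 1 by rw [hf, ← map_pow, pow_orderOf_eq_one, map_one]] at e2
    exact add_right_cancel e2
  exact DFunLike.congr_fun h1 a

/-- A fixed-point-free normal 2-subgroup below `PSL(2, 2ⁿ)` is elementary abelian. -/
theorem elementary_even {F : Type} [Field F] [Fintype F] {n : ℕ} (hn : n ≠ 0) (hF : Fintype.card F = 2 ^ n)
    (h4 : 4 ≤ Fintype.card F) (π : G →* Matrix.ProjectiveSpecialLinearGroup (Fin 2) F)
    (hπ : Function.Surjective π) (hN : IsPGroup 2 π.ker)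
    (hfpf : ∀ x : G, Odd (orderOf x) → x ≠ 1 → ∀ v ∈ π.ker, Commute x v → v = 1) :
    Cfsg.IsElementaryAbelian 2 π.ker := by
  classical
  haveI := Fact.mk Nat.prime_two
  haveI := Fact.mk Nat.prime_three
  haveI : CharP F 2 := charP_of_card_eq_prime_pow hF
  have heven : 2 ∣ Fintype.card F := hF ▸ dvd_pow_self 2 hn
  have hdel : Dickson.del F = 1 := by
    rcases Dickson.del_cases (F := F) with ⟨h, -⟩ | ⟨-, ⟨j, hj⟩⟩
    · exact h
    · omega
  let pr : Matrix.SpecialLinearGroup (Fin 2) F →* Matrix.ProjectiveSpecialLinearGroup (Fin 2) F :=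
    QuotientGroup.mk' _
  have hpr : Function.Injective pr := by
    rw [← MonoidHom.ker_eq_bot_iff, ← Subgroup.card_eq_one, ← hdel]
    exact Dickson.card_ker_proj
  let eS := MulEquiv.ofBijective pr ⟨hpr, QuotientGroup.mk'_surjective _⟩
  let π' : G →* Matrix.SpecialLinearGroup (Fin 2) F := eS.symm.toMonoidHom.comp π
  have hπ' : Function.Surjective π' := eS.symm.surjective.comp hπ
  have hker : π'.ker = π.ker := by
    ext g
    simp [π', MonoidHom.mem_ker]
  have h3 : 3 ∣ Nat.card (Matrix.SpecialLinearGroup (Fin 2) F) := by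
    have hc := Dickson.card_psl (F := F)
    rw [hdel, mul_one, ← Nat.card_congr eS.toEquiv] at hc
    rw [hc]
    obtain ⟨q, hq⟩ : ∃ q, Fintype.card F = q := ⟨_, rfl⟩
    have h3q : q % 3 ≠ 0 := fun e => by
      have h1 := Nat.prime_three.dvd_of_dvd_pow (hF ▸ hq ▸ Nat.dvd_of_mod_eq_zero e : 3 ∣ 2 ^ n)
      omega
    rw [hq]
    have key : ∀ r : ℕ, r % 3 ≠ 0 → (r - 1) % 3 = 0 ∨ (r + 1) % 3 = 0 := fun r hr => by omega
    rcases key q h3q with e | e
    · exact ((Nat.dvd_of_mod_eq_zero e).mul_right _).mul_left _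
    · exact ((Nat.dvd_of_mod_eq_zero e).mul_left _).mul_left _
  obtain ⟨s, hs⟩ := exists_prime_orderOf_dvd_card' 3 h3
  have hs1 : s ≠ 1 := fun e => by rw [e, orderOf_one] at hs; norm_num at hs
  obtain ⟨x, hxs, hxo⟩ := exists_odd_lift hπ' (y := s) (by rw [hs]; decide)
  have hx3 : x ^ 3 = 1 := by
    have hm : x ^ 3 ∈ π'.ker := by rw [MonoidHom.mem_ker, map_pow, hxs, ← hs, pow_orderOf_eq_one]
    obtain ⟨i, hi⟩ := IsPGroup.iff_orderOf.1 hN ⟨x ^ 3, hker ▸ hm⟩
    rw [orderOf_mk] at hi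
    refine orderOf_eq_one_iff.1 (Nat.eq_one_of_dvd_coprimes ?_ (orderOf_pow_dvd (x := x) 3) hi.dvd)
    exact ((Nat.coprime_two_left.2 hxo).pow_left i).symm
  have htr : Invol.SL2Fpf.tr (π' x) = 1 := by
    rw [hxs]
    exact Invol.SL2Fpf.tr_eq_one_of_cube
      (by have := pow_orderOf_eq_one s; rw [hs, pow_three, ← mul_assoc] at this; exact this) hs1
  have hel := Invol.SL2Fpf.elementary_aux _ G rfl π' hπ' (hker ▸ hN) h4 x
    (by rw [pow_three, ← mul_assoc] at hx3; exact hx3) htr (fun q hq hc => hfpf x hxo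
      (fun e => hs1 (by rw [← hxs, e, map_one])) q (hker ▸ hq) (mul_inv_eq_iff_eq_mul.1 hc))
  rwa [hker] at hel

/-- An element of order three of `PSL(2, 9)` and another commuting with it. -/
theorem nine_rank_two {H : Type u} [Group H] [Finite H] {F : Type} [Field F] [Fintype F]
    (hF : Fintype.card F = 9) (e : H ≃* Matrix.ProjectiveSpecialLinearGroup (Fin 2) F) :
    ∃ w z : H, orderOf w = 3 ∧ orderOf z = 3 ∧ Commute z w ∧ w ∉ zpowers z := by
  haveI := Fact.mk Nat.prime_three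
  haveI := charP_prime Nat.prime_three (show Fintype.card F = 3 ^ 2 by rw [hF]; norm_num)
  have hc := Dickson.card_psl (F := F)
  rw [← Nat.card_congr e.toEquiv, show Dickson.del F = Nat.gcd 2 (Fintype.card F - 1) from rfl, hF] at hc
  norm_num at hc
  have hcM : Nat.card H = 360 := by omega
  have hord : ∀ g : H, orderOf g ∣ 3 ∨ orderOf g ∣ 4 ∨ orderOf g ∣ 5 := fun g => by
    have ho := psl_order (p := 3) (by omega) e g
    rw [hF] at ho
    norm_num at ho
    exact ho
  obtain ⟨Q⟩ : Nonempty (Sylow 3 H) := inferInstance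
  have cQ : Nat.card Q = 9 := by
    rw [sylow_card_of (a := 2) (b := 40) (by rw [hcM]; norm_num) (by norm_num) Q]; norm_num
  haveI : IsMulCommutative (Q : Subgroup H) :=
    IsPGroup.isMulCommutative_of_card_eq_prime_sq (p := 3) (by rw [cQ]; norm_num)
  have hQ3 : ∀ z ∈ (Q : Subgroup H), z ≠ 1 → orderOf z = 3 := by
    intro z hz hz1
    obtain ⟨i, hi⟩ := IsPGroup.iff_orderOf.1 Q.isPGroup' ⟨z, hz⟩
    rw [orderOf_mk] at hi
    rcases i with _ | _ | i
    · exact absurd (orderOf_eq_one_iff.1 (by rw [hi, pow_zero])) hz1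
    · rw [hi]; norm_num
    · exfalso
      have h9 : 9 ∣ orderOf z := hi ▸ ⟨3 ^ i, by ring⟩
      rcases hord z with e | e | e <;> have := h9.trans e <;> norm_num at this
  haveI : Nontrivial (Q : Subgroup H) := Finite.one_lt_card_iff_nontrivial.1 (by rw [cQ]; norm_num)
  obtain ⟨z, hz⟩ := exists_ne (1 : (Q : Subgroup H))
  have hzo := hQ3 z z.2 (fun e => hz (Subtype.ext e))
  obtain ⟨w, hwQ, hw⟩ : ∃ w ∈ (Q : Subgroup H), w ∉ zpowers (z : H) := by
    by_contra hcon
    push Not at hcon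
    have h1 := card_le_of_le (show (Q : Subgroup H) ≤ zpowers (z : H) from hcon)
    rw [Nat.card_zpowers, hzo, cQ] at h1
    omega
  exact ⟨w, z, hQ3 w hwQ (fun e => hw (e ▸ one_mem _)), hzo, congrArg Subtype.val
    (IsMulCommutative.is_comm.comm z (⟨w, hwQ⟩ : (Q : Subgroup H))), hw⟩

/-- The conclusion. -/
theorem structure_theorem (hns : ¬ Group.IsSolvable G) (hCN : Cfsg.IsCNGroup G) :
    (IsSimpleGroup G ∧ ¬ IsMulCommutative G) ∨
    (∃ (N : Subgroup G), N.Normal ∧ N.index = 2 ∧ ∃ (F : Type) (_ : Field F) (_ : Fintype F), Fintype.card F = 9 ∧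
        Nonempty (N ≃* Matrix.ProjectiveSpecialLinearGroup (Fin 2) F)) ∨
    (∃ (N : Subgroup G) (_ : N.Normal), N ≠ ⊥ ∧ IsPGroup 2 N ∧ IsMulCommutative N ∧ (∀ x ∈ N, x * x = 1) ∧
        ((∃ (F : Type) (_ : Field F) (_ : Fintype F), CharP F 2 ∧ 4 ≤ Fintype.card F ∧
            Nonempty (G ⧸ N ≃* Matrix.ProjectiveSpecialLinearGroup (Fin 2) F)) ∨ Cfsg.IsSuzuki (G ⧸ N))) := by
  classical
  haveI := Fact.mk Nat.prime_two
  set R := Cfsg.pCore 2 G with hR
  have hRp : IsPGroup 2 R := Cfsg.Agent.Grp.pCore_isPGroup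
  haveI : Group.IsNilpotent R := hRp.isNilpotent
  have hns' : ¬ Group.IsSolvable (G ⧸ R) := fun hs =>
    hns ((Group.isSolvable_iff_subgroup_quotient R).mpr ⟨inferInstance, hs⟩)
  have hCN' : Cfsg.IsCNGroup (G ⧸ R) := Transfer.CN.quotient hCN R inferInstance
  have hO' : Cfsg.pCore 2 (G ⧸ R) = ⊥ := Grp.TwoClassCore.pCore_quotient_eq_bot R hRp rfl
  have hrad := radical_trivial hCN' hns' hO'
  obtain ⟨hX, hcases⟩ := simple_or_nine hCN' hns' hrad
  by_cases hR1 : R = ⊥
  · let b : G ≃* G ⧸ R := ((QuotientGroup.quotientMulEquivOfEq hR1).trans QuotientGroup.quotientBot).symm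
    rcases hcases with ⟨hs, hc⟩ | ⟨M, hMn, hM2, F, i1, i2, hF, ⟨e⟩⟩
    · haveI := hs
      haveI : Nontrivial G := b.toEquiv.nontrivial
      exact Or.inl ⟨IsSimpleGroup.isSimpleGroup_of_surjective b.symm.toMonoidHom b.symm.surjective,
        fun h => hns (Group.isSolvable_of_comm fun x y => h.is_comm.comm x y)⟩
    · refine Or.inr (Or.inl ⟨M.comap b.toMonoidHom, hMn.comap _, ?_, F, i1, i2, hF,
        ⟨((b.subgroupMap (M.comap b.toMonoidHom)).trans
          (MulEquiv.subgroupCongr (map_comap_eq_self_of_surjective b.surjective M))).trans e⟩⟩)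
      rw [index_comap_of_surjective M b.surjective, hM2]
  -- fixed-point-freeness
  have hfpf : ∀ x : G, Odd (orderOf x) → x ≠ 1 → ∀ v ∈ R, Commute x v → v = 1 := by
    intro x hx hx1 v hv hxv
    by_contra hv1
    obtain ⟨i, hi⟩ := hRp.exists_card_eq
    have hall := Transfer.CN.commute_all hCN (inferInstance : Group.IsNilpotent R)
      (by rw [hi]; exact ((Nat.coprime_two_left.2 hx).pow_left i).symm) hv hv1 hxv
    set C := centralizer (R : Set G) with hC
    haveI : C.Normal := inferInstance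
    have hCnil : Group.IsNilpotent C := Grp.isNilpotent_of_le
      (fun c hc => mem_centralizer_singleton_iff.2 (mem_centralizer_iff.1 hc v hv).symm) (hCN v hv1)
    haveI := hCnil
    have hCR := hrad (C.map (QuotientGroup.mk' R))
      (Subgroup.Normal.map inferInstance _ (QuotientGroup.mk'_surjective R))
      (Grp.isSolvable_map inferInstance _)
    have hxC : (x : G ⧸ R) ∈ C.map (QuotientGroup.mk' R) :=
      ⟨x, mem_centralizer_iff.2 fun r hr => (hall r hr).eq.symm, rfl⟩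
    rw [hCR, mem_bot, QuotientGroup.eq_one_iff] at hxC
    exact hx1 (orderOf_eq_one_iff.1 (Nat.eq_one_of_dvd_coprimes ((Nat.coprime_two_left.2 hx).pow_left i)
      (hi ▸ R.orderOf_dvd_natCard hxC) dvd_rfl))
  have hG : IsCIT G := by
    refine Grp.PGCIT.isCIT_of_even fun g hg => ?_
    by_contra hng
    push Not at hng
    obtain ⟨r, hr, hrd, hr2⟩ : ∃ r, r.Prime ∧ r ∣ orderOf g ∧ r ≠ 2 := by
      by_contra hc
      push Not at hc
      exact hng _ (Nat.eq_prime_pow_of_unique_prime_dvd (orderOf_pos g).ne' fun {d} hd hdd => hc d hd hdd)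
    have ht : orderOf (g ^ (orderOf g / 2)) = 2 := orderOf_pow_orderOf_div (orderOf_pos g).ne' hg
    have hx : orderOf (g ^ (orderOf g / r)) = r := orderOf_pow_orderOf_div (orderOf_pos g).ne' hrd
    set t := g ^ (orderOf g / 2)
    set x := g ^ (orderOf g / r)
    have hxt : Commute x t := Commute.pow_pow_self g _ _
    have hxo : Odd (orderOf x) := hx ▸ hr.odd_of_ne_two hr2
    have hx1 : x ≠ 1 := fun e => hr.ne_one (by rw [← hx, e, orderOf_one])
    by_cases htR : t ∈ R
    · have := hfpf x hxo hx1 t htR hxt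
      rw [this, orderOf_one] at ht; norm_num at ht
    · have ht' : orderOf (t : G ⧸ R) = 2 := orderOf_eq_prime
        (by rw [← QuotientGroup.mk_pow, orderOf_dvd_iff_pow_eq_one.1 ht.dvd, QuotientGroup.mk_one])
        (fun e => htR ((QuotientGroup.eq_one_iff t).1 e))
      have h1 := hX.eq_one_of_odd ht' (hxt.map (QuotientGroup.mk' R))
        (hxo.of_dvd_nat (orderOf_map_dvd (QuotientGroup.mk' R) x))
      have h2 : x ∈ R := (QuotientGroup.eq_one_iff x).1 h1
      obtain ⟨i, hi⟩ := hRp.exists_card_eq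
      exact hx1 (orderOf_eq_one_iff.1 (Nat.eq_one_of_dvd_coprimes ((Nat.coprime_two_left.2 hxo).pow_left i)
        (hi ▸ R.orderOf_dvd_natCard h2) dvd_rfl))
  rcases hcases with ⟨hs, hc⟩ | ⟨M, hMn, -, F, i1, i2, hF, ⟨e⟩⟩
  swap
  · exfalso
    obtain ⟨w, z, hw, hz, hwz, hne⟩ := nine_rank_two hF e
    exact hR1 (bot_of_rank_two hG R hRp (w := (w : G ⧸ R)) (z := (z : G ⧸ R)) (by rw [orderOf_coe, hw])
      (by rw [orderOf_coe, hz]) (hwz.map M.subtype) (fun hm => hne (by
        obtain ⟨i, hi⟩ := mem_zpowers_iff.mp hm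
        exact mem_zpowers_iff.mpr ⟨i, Subtype.ext (by simpa using hi)⟩)))
  haveI := hs
  refine Or.inr (Or.inr ⟨R, inferInstance, hR1, hRp, ?_⟩)
  have key : ∀ {H : Type} [Group H] (f : G ⧸ R ≃* H), ∃ π : G →* H, Function.Surjective π ∧ π.ker = R :=
    fun f => ⟨f.toMonoidHom.comp (QuotientGroup.mk' R), f.surjective.comp (QuotientGroup.mk'_surjective R),
      by ext g; simp [MonoidHom.mem_ker, QuotientGroup.eq_one_iff]⟩
  have hel : ∀ {H : Prop}, Cfsg.IsElementaryAbelian 2 R → H →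
      IsMulCommutative R ∧ (∀ x ∈ R, x * x = 1) ∧ H :=
    fun h hH => ⟨h.1, fun x hx => by rw [← sq]; exact h.2 x hx, hH⟩
  have evenCase : ∀ (K : Type) (i1 : Field K) (i2 : Fintype K) (n : ℕ), Fintype.card K = 2 ^ n →
      (G ⧸ R ≃* Matrix.ProjectiveSpecialLinearGroup (Fin 2) K) →
      IsMulCommutative R ∧ (∀ x ∈ R, x * x = 1) ∧
        ((∃ (F : Type) (_ : Field F) (_ : Fintype F), CharP F 2 ∧ 4 ≤ Fintype.card F ∧
            Nonempty (G ⧸ R ≃* Matrix.ProjectiveSpecialLinearGroup (Fin 2) F)) ∨ Cfsg.IsSuzuki (G ⧸ R)) := by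
    intro K i1 i2 n hK e
    have h4 := Transfer.CIT.four_le_card_field hc e
    have hn : n ≠ 0 := by rintro rfl; rw [hK] at h4; simp at h4
    obtain ⟨π, hπ, hker⟩ := key e
    refine hel ?_ (Or.inl ⟨K, i1, i2, charP_prime Nat.prime_two hK, h4, ⟨e⟩⟩)
    have := elementary_even hn hK h4 π hπ (by rw [hker]; exact hRp) (by rw [hker]; exact hfpf)
    rwa [hker] at this
  rcases hX.classification_iso hc with ⟨F, i1, i2, hF, ⟨e⟩⟩ | ⟨F, i1, i2, hF, ⟨e⟩⟩ | ⟨F, i1, i2, m, hm, hF, ⟨e⟩⟩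
  · have h4 := Transfer.CIT.four_le_card_field hc e
    rcases hF with hq | ⟨n, hq⟩ | ⟨hp, k, -⟩
    · exfalso
      obtain ⟨w, z, hw, hz, hwz, hne⟩ := nine_rank_two hq e
      exact hR1 (bot_of_rank_two hG R hRp hw hz hwz hne)
    · exact evenCase F i1 i2 n hq e
    · rcases (show Fintype.card F = 5 ∨ 5 < Fintype.card F by
        rcases h4.eq_or_lt with e4 | e4
        · rw [← e4] at hp; norm_num at hp
        · omega) with h5 | h5
      · obtain ⟨K, k1, k2, hK, ⟨eK⟩⟩ := iso_four h5 e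
        exact evenCase K k1 k2 2 hK eK
      · exfalso
        obtain ⟨π, hπ, hker⟩ := key e
        exact no_prime_below hp h5 π hπ (by rw [hker]; exact hRp) (by rw [hker]; exact hR1)
          (by rw [hker]; exact hfpf)
  · exfalso
    obtain ⟨w, z, hw, hz, hwz, hne⟩ := Transfer.CIT.psl34_rank_two hF e
    exact hR1 (bot_of_rank_two hG R hRp hw hz hwz hne)
  · have hS : Suz.SzField F m := ⟨hm, hF⟩
    let e0 : G ⧸ R ≃* ↥(Cfsg.Sz F m) := e.trans (Suz.szEquiv hS).symm
    obtain ⟨π, hπ, hker⟩ := key e0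
    refine hel ?_ (Or.inr ⟨hs, m, hS.1, by rw [Nat.card_congr e0.toEquiv, Suz.card_Sz hS]⟩)
    have := sz_elementary hS _ G rfl π hπ (by rw [hker]; exact hRp) (by rw [hker]; exact hfpf)
    rwa [hker] at this

end Cfsg.Agent.CNStruct
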