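import Cfsg.Agent.Lib.Grp.CNStruct.SzFive

/-!
There is no nonzero invariant bilinear map between fixed-point-free modules of a Suzuki group.
-/

set_option autoImplicit false
set_option linter.style.haveILetI false
set_option linter.unusedSectionVars false

universe u v w

namespace Cfsg.Agent.CNStruct

open Matrix Cfsg.Agent.Suz
open scoped Classical

theorem sum_two_pow_inj {I J : Finset ℕ} (h : ∑ i ∈ I, 2 ^ i = ∑ i ∈ J, 2 ^ i) : I = J :=
  Finset.equivBitIndices.symm.injective h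

/-- A sum of two powers of two determines them modulo `2 ^ n - 1`. -/
theorem two_sum {n x y u v : ℕ} (hn : 3 ≤ n) (hx : x < n) (hy : y < n) (hu : u < n) (hv : v < n)
    (h : 2 ^ x + 2 ^ y ≡ 2 ^ u + 2 ^ v [MOD 2 ^ n - 1]) : (x = u ∧ y = v) ∨ (x = v ∧ y = u) := by
  have hN : 2 ^ n = (2 ^ n - 1) + 1 := by have := Nat.one_le_two_pow (n := n); omega
  have key : ∀ a b, a < n → b < n → ∃ T : Finset ℕ,
      (2 ^ a + 2 ^ b ≡ ∑ i ∈ T, 2 ^ i [MOD 2 ^ n - 1]) ∧ ∑ i ∈ T, 2 ^ i < 2 ^ n - 1 ∧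
      ((a ≠ b ∧ T = {a, b}) ∨ (a = b ∧ T = {(a + 1) % n})) := by
    intro a b ha hb
    by_cases hab : a = b
    · subst hab
      refine ⟨{(a + 1) % n}, ?_, ?_, Or.inr ⟨rfl, rfl⟩⟩
      · rw [Finset.sum_singleton, ← two_mul, ← pow_succ']
        rcases Nat.lt_or_ge (a + 1) n with hlt | hge
        · rw [Nat.mod_eq_of_lt hlt]
        · have e : a + 1 = n := by omega
          rw [e, Nat.mod_self, pow_zero, hN]
          simp [Nat.ModEq]
      · rw [Finset.sum_singleton]
        have h1 : 2 ^ ((a + 1) % n) ≤ 2 ^ (n - 1) :=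
          Nat.pow_le_pow_right two_pos (by have := Nat.mod_lt (a + 1) (show 0 < n by omega); omega)
        have h2 : 2 ^ n = 2 * 2 ^ (n - 1) := by rw [← pow_succ']; congr 1; omega
        have h3 : 4 ≤ 2 ^ (n - 1) := by
          calc 4 = 2 ^ 2 := rfl
            _ ≤ _ := Nat.pow_le_pow_right two_pos (by omega)
        omega
    · refine ⟨{a, b}, ?_, ?_, Or.inl ⟨hab, rfl⟩⟩
      · rw [Finset.sum_pair hab]
      · rw [Finset.sum_pair hab]
        have hmax : (a ≤ n - 1 ∧ b ≤ n - 2) ∨ (b ≤ n - 1 ∧ a ≤ n - 2) := by omega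
        have h2 : 2 ^ n = 2 * 2 ^ (n - 1) := by rw [← pow_succ']; congr 1; omega
        have h4 : 2 ^ (n - 1) = 2 * 2 ^ (n - 2) := by rw [← pow_succ']; congr 1; omega
        have h5 : 2 ≤ 2 ^ (n - 2) := by
          calc 2 = 2 ^ 1 := rfl
            _ ≤ _ := Nat.pow_le_pow_right two_pos (by omega)
        rcases hmax with ⟨p, q⟩ | ⟨p, q⟩ <;>
          have := Nat.pow_le_pow_right two_pos p <;> have := Nat.pow_le_pow_right two_pos q <;> omega
  obtain ⟨T, hT, hTlt, hTc⟩ := key x y hx hy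
  obtain ⟨S, hSm, hSlt, hSc⟩ := key u v hu hv
  have e : T = S := sum_two_pow_inj ((Nat.ModEq.eq_of_lt_of_lt ((hT.symm.trans h).trans hSm) hTlt hSlt))
  subst e
  rcases hTc with ⟨h1, e1⟩ | ⟨h1, e1⟩ <;> rcases hSc with ⟨h2, e2⟩ | ⟨h2, e2⟩
  · rw [e1] at e2
    have hxm : x ∈ ({u, v} : Finset ℕ) := e2 ▸ Finset.mem_insert_self _ _
    have hym : y ∈ ({u, v} : Finset ℕ) := e2 ▸ Finset.mem_insert_of_mem (Finset.mem_singleton_self _)
    simp only [Finset.mem_insert, Finset.mem_singleton] at hxm hym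
    omega
  · rw [e1] at e2
    have := congrArg Finset.card e2
    rw [Finset.card_pair h1, Finset.card_singleton] at this
    omega
  · rw [e1] at e2
    have := congrArg Finset.card e2
    rw [Finset.card_pair h2, Finset.card_singleton] at this
    omega
  · subst h1; subst h2
    rw [e1, Finset.singleton_inj] at e2
    left
    have : x = u := by
      rcases Nat.lt_or_ge (x + 1) n with p | p <;> rcases Nat.lt_or_ge (u + 1) n with q | q
      · rw [Nat.mod_eq_of_lt p, Nat.mod_eq_of_lt q] at e2; omega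
      · rw [Nat.mod_eq_of_lt p, show u + 1 = n by omega, Nat.mod_self] at e2; omega
      · rw [Nat.mod_eq_of_lt q, show x + 1 = n by omega, Nat.mod_self] at e2; omega
      · omega
    exact ⟨this, this⟩

theorem card_sub_quot {K : Type*} [Field K] {M : Type*} [AddCommGroup M] [Module K M] [Finite M]
    (W : Submodule K M) :
    (W ≠ ⊤ → Nat.card W < Nat.card M) ∧ (W ≠ ⊥ → Nat.card (M ⧸ W) < Nat.card M) := by
  haveI : Finite (M ⧸ W) := Finite.of_surjective _ W.mkQ_surjective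
  constructor
  · intro h
    obtain ⟨x, hx⟩ : ∃ x, x ∉ W := by
      by_contra hc
      push Not at hc
      exact h (eq_top_iff.2 fun x _ => hc x)
    refine lt_of_le_of_ne (Nat.card_le_card_of_injective _ W.subtype_injective) fun e => ?_
    obtain ⟨y, hy⟩ := ((Nat.bijective_iff_injective_and_card W.subtype).2 ⟨W.subtype_injective, e⟩).2 x
    exact hx (hy ▸ y.2)
  · intro h
    refine lt_of_le_of_ne (Nat.card_le_card_of_surjective _ W.mkQ_surjective) fun e => h ?_
    have := ((Nat.bijective_iff_surjective_and_card W.mkQ).2 ⟨W.mkQ_surjective, e.symm⟩).1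
    rw [← W.ker_mkQ]
    exact LinearMap.ker_eq_bot.2 this

variable {F : Type} [Field F] [Fintype F] {m : ℕ} (hS : SzField F m)

/-- The weight of a coordinate. -/
def wt (z : F) : Fin 4 → F := ![z, th m z / z, z / th m z, z⁻¹]

include hS

theorem tw_hTor (i : ℕ) (z : Fˣ) (x : Fin 4 → F) (j : Fin 4) :
    (tw i (hTor hS z) *ᵥ x) j = wt (m := m) (z : F) j ^ 2 ^ i * x j := by
  have e : tw i (hTor hS z) = Matrix.diagonal fun j => wt (m := m) (z : F) j ^ 2 ^ i := by
    rw [tw, mat_hTor hS, dMat]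
    rw [Matrix.diagonal_map (f := fun x : F => x ^ 2 ^ i) (zero_pow (pow_ne_zero i two_ne_zero))]
    rfl
  rw [e, Matrix.mulVec_diagonal]

theorem tw_wS (i : ℕ) (x : Fin 4 → F) : tw i (wS hS) *ᵥ x = ![x 3, x 2, x 1, x 0] := by
  funext j
  fin_cases j <;> simp [tw, mat_wS hS, wMat, suzukiForm, Matrix.mulVec, dotProduct, Fin.sum_univ_four]

/-- The translates of the last coordinate vector under the Sylow 2-subgroup span everything. -/
theorem span_last (i : ℕ) (K : Submodule F (Fin 4 → F))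
    (h : ∀ a b : F, tw i (uS hS a b) *ᵥ Pi.single 3 1 ∈ K) : K = ⊤ := by
  obtain ⟨t, ht0, ht1⟩ := exists_ne_zero_one hS
  have hc : ∀ a b : F, tw i (uS hS a b) *ᵥ Pi.single 3 1 =
      ![fo m a b ^ 2 ^ i, b ^ 2 ^ i, a ^ 2 ^ i, 1] := by
    intro a b
    funext j
    fin_cases j <;> simp [tw, mat_uS hS, tMat]
  have hv : ∀ a b : F, ![fo m a b ^ 2 ^ i, b ^ 2 ^ i, a ^ 2 ^ i, 1] ∈ K := fun a b => hc a b ▸ h a b
  have h3 : Pi.single (3 : Fin 4) (1 : F) ∈ K := by
    have h0 := hv 0 0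
    convert h0 using 1
    funext j
    fin_cases j <;> simp [fo, th_zero, zero_pow (pow_ne_zero i two_ne_zero)]
  have d : ∀ b : F, ![th m b ^ 2 ^ i, b ^ 2 ^ i, 0, 0] ∈ K := by
    intro b
    have := K.sub_mem (hv 0 b) h3
    convert this using 1
    funext j
    fin_cases j <;> simp [fo, th_zero, zero_pow (pow_ne_zero i two_ne_zero)]
  have hD : th m t ^ 2 ^ i - t ^ 2 ^ i ≠ 0 := fun e =>
    (th_fixed hS (pow_two_inj hS i (sub_eq_zero.1 e))).elim ht0 ht1
  have h0 : Pi.single (0 : Fin 4) (1 : F) ∈ K := by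
    have := K.smul_mem (th m t ^ 2 ^ i - t ^ 2 ^ i)⁻¹ (K.sub_mem (d t) (K.smul_mem (t ^ 2 ^ i) (d 1)))
    convert this using 1
    funext j
    fin_cases j <;> simp [th_one, hD]
  have h1 : Pi.single (1 : Fin 4) (1 : F) ∈ K := by
    have := K.sub_mem (d 1) h0
    convert this using 1
    funext j
    fin_cases j <;> simp [th_one]
  have h2 : Pi.single (2 : Fin 4) (1 : F) ∈ K := by
    have := K.sub_mem (hv 1 0) (K.add_mem h3 h0)
    convert this using 1
    funext j
    fin_cases j <;> simp [fo, th_zero, th_one, zero_pow (pow_ne_zero i two_ne_zero)]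
  refine eq_top_iff.2 fun x _ => ?_
  have hx : x = x 0 • Pi.single (0 : Fin 4) (1 : F) + x 1 • Pi.single (1 : Fin 4) (1 : F) +
      x 2 • Pi.single (2 : Fin 4) (1 : F) + x 3 • Pi.single (3 : Fin 4) (1 : F) := by
    funext j
    fin_cases j <;> simp
  rw [hx]
  exact K.add_mem (K.add_mem (K.add_mem (K.smul_mem _ h0) (K.smul_mem _ h1)) (K.smul_mem _ h2)) (K.smul_mem _ h3)

omit hS

/-- Equivariance for three twists. -/
def TwEquiv (a b c : ℕ) (β : (Fin 4 → F) →ₗ[F] (Fin 4 → F) →ₗ[F] (Fin 4 → F)) : Prop :=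
  ∀ (g : ↥(Cfsg.Sz F m)) x y, β (tw a g *ᵥ x) (tw b g *ᵥ y) = tw c g *ᵥ β x y

include hS

theorem tw_flip {a b c : ℕ} {β : (Fin 4 → F) →ₗ[F] (Fin 4 → F) →ₗ[F] (Fin 4 → F)}
    (h : TwEquiv (m := m) a b c β) : TwEquiv (m := m) b a c β.flip := fun g x y => h g y x

theorem single_weight {a b c : ℕ} {β : (Fin 4 → F) →ₗ[F] (Fin 4 → F) →ₗ[F] (Fin 4 → F)}
    (h : TwEquiv (m := m) a b c β) (p q k : Fin 4) (hne : β (Pi.single p 1) (Pi.single q 1) k ≠ 0)
    (z : Fˣ) : wt (m := m) (z : F) p ^ 2 ^ a * wt (m := m) (z : F) q ^ 2 ^ b = wt (m := m) (z : F) k ^ 2 ^ c := by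
  have hs : ∀ i j, tw i (hTor hS z) *ᵥ Pi.single j 1 = wt (m := m) (z : F) j ^ 2 ^ i • Pi.single j 1 := by
    intro i j
    funext l
    rw [tw_hTor hS, Pi.smul_apply, smul_eq_mul]
    by_cases hl : l = j
    · subst hl; simp
    · simp [hl]
  have h1 := congrFun (h (hTor hS z) (Pi.single p 1) (Pi.single q 1)) k
  simp only [hs, map_smul, LinearMap.smul_apply, Pi.smul_apply, smul_eq_mul, tw_hTor hS] at h1
  refine mul_right_cancel₀ hne ?_
  linear_combination h1

theorem wt_inv (z : F) : wt (m := m) z⁻¹ 0 = wt (m := m) z 3 := rfl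

/-- The weight equations for the value on two opposite highest vectors. -/
theorem weight_cases {a b c : ℕ} (ha : a < 2 * m + 1) (hb : b < 2 * m + 1) (hc : c < 2 * m + 1) (hab : a ≠ b)
    (k : Fin 4) (h : ∀ z : Fˣ, (z : F) ^ 2 ^ a * (z : F)⁻¹ ^ 2 ^ b = wt (m := m) (z : F) k ^ 2 ^ c) :
    (k = 0 → b = c ∧ a = (c + 1) % (2 * m + 1)) ∧ (k = 1 → b = c ∧ a = (c + (m + 1)) % (2 * m + 1)) ∧
      (k = 2 → a = c ∧ b = (c + (m + 1)) % (2 * m + 1)) ∧ (k = 3 → a = c ∧ b = (c + 1) % (2 * m + 1)) := by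
  set n := 2 * m + 1 with hn
  have hn3 : 3 ≤ n := by have := hS.one_le; omega
  have hmod : ∀ x y, (∀ z : Fˣ, (z : F) ^ x = (z : F) ^ y) → x ≡ y [MOD 2 ^ n - 1] := fun x y e => by
    have := weight_eq hS e
    rwa [hS.card, ← hn] at this
  have hth : ∀ z : F, th m z ^ 2 ^ c = z ^ 2 ^ ((c + (m + 1)) % n) := fun z => by
    rw [th, ← pow_mul, ← pow_add, add_comm (m + 1) c, pow_two_mod hS]
  have hc1 : (c + (m + 1)) % n ≠ c := by
    rcases Nat.lt_or_ge (c + (m + 1)) n with p | p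
    · rw [Nat.mod_eq_of_lt p]; omega
    · rw [Nat.mod_eq_sub_mod p, Nat.mod_eq_of_lt (by omega)]; omega
  have hpred : ∀ x, x < n → ∃ x', x' < n ∧ (x' + 1) % n = x ∧ 2 ^ x' + 2 ^ x' ≡ 2 ^ x [MOD 2 ^ n - 1] := by
    intro x hx
    rcases Nat.eq_zero_or_pos x with rfl | hx0
    · refine ⟨n - 1, by omega, by rw [Nat.sub_add_cancel (by omega), Nat.mod_self], ?_⟩
      rw [← two_mul, ← pow_succ', Nat.sub_add_cancel (by omega : 1 ≤ n), pow_zero,
        show 2 ^ n = (2 ^ n - 1) + 1 by have := Nat.one_le_two_pow (n := n); omega]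
      simp [Nat.ModEq]
    · refine ⟨x - 1, by omega, by rw [Nat.sub_add_cancel hx0, Nat.mod_eq_of_lt hx], ?_⟩
      rw [← two_mul, ← pow_succ', Nat.sub_add_cancel hx0]
  have hmul : ∀ (z : Fˣ) (r : F), (z : F) ^ 2 ^ a * (z : F)⁻¹ ^ 2 ^ b = r → (z : F) ^ 2 ^ a = r * (z : F) ^ 2 ^ b :=
    fun z r e => by rw [← e, mul_assoc, ← mul_pow, inv_mul_cancel₀ z.ne_zero, one_pow, mul_one]
  refine ⟨?_, ?_, ?_, ?_⟩ <;> rintro rfl
  · obtain ⟨a', ha', ea, hcong⟩ := hpred a ha
    have e1 := hcong.trans (hmod (2 ^ a) (2 ^ c + 2 ^ b) fun z => by rw [pow_add]; exact hmul z _ (h z))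
    rcases two_sum hn3 ha' ha' hc hb e1 with ⟨h1, h2⟩ | ⟨h1, h2⟩
    · exact ⟨h2.symm.trans h1, by rw [← ea, h1]⟩
    · exact ⟨h1.symm.trans h2, by rw [← ea, h2]⟩
  · have e1 := hmod (2 ^ a + 2 ^ c) (2 ^ b + 2 ^ ((c + (m + 1)) % n)) fun z => by
      have e := hmul z _ (h z)
      simp only [wt, Matrix.cons_val_one, Matrix.cons_val_zero, div_pow, hth] at e
      rw [pow_add, e, pow_add]
      field_simp [z.ne_zero]
    rcases two_sum hn3 ha hc hb (Nat.mod_lt _ (by omega)) e1 with ⟨h1, -⟩ | ⟨h1, h2⟩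
    · exact absurd h1 hab
    · exact ⟨h2.symm, h1⟩
  · have e1 := hmod (2 ^ a + 2 ^ ((c + (m + 1)) % n)) (2 ^ b + 2 ^ c) fun z => by
      have e := hmul z _ (h z)
      simp only [wt, Matrix.cons_val, div_pow, hth] at e
      rw [pow_add, e, pow_add]
      field_simp [z.ne_zero]
    rcases two_sum hn3 ha (Nat.mod_lt _ (by omega)) hb hc e1 with ⟨h1, -⟩ | ⟨h1, h2⟩
    · exact absurd h1 hab
    · exact ⟨h1, h2.symm⟩
  · obtain ⟨b', hb', eb, hcong⟩ := hpred b hb
    have e1 := hcong.trans (hmod (2 ^ b) (2 ^ a + 2 ^ c) fun z => by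
      have e := hmul z _ (h z)
      simp only [wt, Matrix.cons_val, inv_pow] at e
      rw [pow_add, e]
      field_simp [z.ne_zero])
    rcases two_sum hn3 hb' hb' ha hc e1 with ⟨h1, h2⟩ | ⟨h1, h2⟩
    · exact ⟨h1.symm.trans h2, by rw [← eb, h2]⟩
    · exact ⟨h2.symm.trans h1, by rw [← eb, h1]⟩

/-- No nonzero weight is trivial. -/
theorem wt_ne_one {y : F} (h0 : y ≠ 0) (h1 : y ≠ 1) (j : Fin 4) : wt (m := m) y j ≠ 1 := by
  have hfix : th m y ≠ y := fun e => (th_fixed hS e).elim h0 h1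
  rcases (show j = 0 ∨ j = 1 ∨ j = 2 ∨ j = 3 by omega) with e | e | e | e <;> subst e <;>
    simp [wt, div_eq_one_iff_eq, h0, th_ne_zero (m := m) h0, h1, hfix, hfix.symm]

theorem wt_shift {y : F} (h0 : y ≠ 0) (h1 : y ≠ 1) (j : Fin 4) :
    wt (m := m) y j ^ 2 * y ≠ wt (m := m) y 2 := by
  intro e
  have ht := th_ne_zero (m := m) h0
  have htt := th_th hS (m := m) y
  have hfix : th m y ≠ y := fun e => (th_fixed hS e).elim h0 h1
  rcases (show j = 0 ∨ j = 1 ∨ j = 2 ∨ j = 3 by omega) with q | q | q | q <;> subst q <;>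
    simp only [wt, Matrix.cons_val, Matrix.cons_val_one, Matrix.cons_val_zero] at e <;> field_simp at e
  · have e0 : y ^ 2 * th m y = 1 := by first | exact e | linear_combination e | (apply mul_left_cancel₀ h0; linear_combination e)
    have e1 := congrArg (th m) e0
    rw [th_mul, th_pow, htt, th_one, ← mul_pow] at e1
    have e2 : th m y * y = 1 := pow_two_inj hS 1 (by rw [pow_one, one_pow, e1])
    exact h1 (by linear_combination e0 - y * e2)
  · have e0 : th m y ^ 3 = y ^ 2 := by first | exact e | linear_combination e | (apply mul_left_cancel₀ h0; linear_combination e)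
    have e1 := congrArg (th m) e0
    rw [th_pow, th_pow, htt, ← pow_mul] at e1
    have e2 : th m y = y ^ 3 := (pow_two_inj hS 1 (by rw [pow_one, ← pow_mul, e1])).symm
    have e7 : y ^ 7 = 1 := by
      rw [e2, ← pow_mul] at e0
      refine mul_right_cancel₀ (pow_ne_zero 2 h0) ?_
      rw [one_mul, ← pow_add]; exact e0
    have hr : ∀ k : ℕ, 2 ^ k % 7 = 1 ∨ 2 ^ k % 7 = 2 ∨ 2 ^ k % 7 = 4 := fun k => by
      induction k with
      | zero => norm_num
      | succ k ih => rw [pow_succ, Nat.mul_mod]; rcases ih with q | q | q <;> rw [q] <;> norm_num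
    rw [th, ← Nat.div_add_mod (2 ^ (m + 1)) 7, pow_add, pow_mul, e7, one_pow, one_mul] at e2
    rcases hr (m + 1) with q | q | q <;> rw [q] at e2
    · rw [pow_one] at e2
      exact h1 (pow_two_inj hS 1 (by rw [pow_one, one_pow]; exact mul_left_cancel₀ h0 (by rw [mul_one, ← pow_succ', ← e2])))
    · exact h1 (mul_left_cancel₀ (pow_ne_zero 2 h0) (by rw [mul_one, ← pow_succ]; exact e2.symm))
    · exact h1 (mul_left_cancel₀ (pow_ne_zero 3 h0) (by rw [mul_one, ← pow_succ]; exact e2))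
  all_goals
    have e0 : th m y = y ^ 2 := by
      first | exact e | exact e.symm | linear_combination e | linear_combination -e | (apply mul_left_cancel₀ h0; linear_combination e) | (apply mul_left_cancel₀ h0; linear_combination -e)
    have e1 := congrArg (th m) e0
    rw [th_pow, htt] at e1
    exact hfix (pow_two_inj hS 1 (by rw [pow_one]; exact e1.symm))

/-- An invariant bilinear map on twists vanishes on the highest vector and its opposite. -/
theorem value_zero {a b c : ℕ} (ha : a < 2 * m + 1) (hb : b < 2 * m + 1) (hc : c < 2 * m + 1)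
    {β : (Fin 4 → F) →ₗ[F] (Fin 4 → F) →ₗ[F] (Fin 4 → F)} (h : TwEquiv (m := m) a b c β) :
    β (Pi.single 0 1) (Pi.single 3 1) 0 = 0 ∧ β (Pi.single 0 1) (Pi.single 3 1) 1 = 0 := by
  set z := β (Pi.single 0 1) (Pi.single 3 1) with hz
  have hw : ∀ i, tw i (wS hS) *ᵥ Pi.single 0 1 = (Pi.single 3 1 : Fin 4 → F) ∧
      tw i (wS hS) *ᵥ Pi.single 3 1 = (Pi.single 0 1 : Fin 4 → F) := fun i => by
    constructor <;> rw [tw_wS hS] <;> funext j <;> fin_cases j <;> simp
  have hflip : β (Pi.single 3 1) (Pi.single 0 1) = ![z 3, z 2, z 1, z 0] := by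
    rw [← tw_wS hS c z, hz, ← h, (hw a).1, (hw b).2]
  have hwt : ∀ k, z k ≠ 0 → ∀ y : Fˣ, (y : F) ^ 2 ^ a * (y : F)⁻¹ ^ 2 ^ b = wt (m := m) (y : F) k ^ 2 ^ c :=
    fun k hk y => single_weight hS h 0 3 k hk y
  obtain ⟨t, ht0, ht1⟩ := exists_ne_zero_one hS
  by_cases hab : a = b
  · subst hab
    constructor <;> by_contra hk <;> have e := hwt _ hk (Units.mk0 t ht0) <;>
      rw [Units.val_mk0, ← mul_pow, mul_inv_cancel₀ ht0, one_pow] at e <;>
      exact wt_ne_one hS ht0 ht1 _ (pow_two_inj hS c (by rw [one_pow]; exact e.symm))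
  have hn3 : 3 ≤ 2 * m + 1 := by have := hS.one_le; omega
  have hshift : ∀ d, d < 2 * m + 1 → (c + d) % (2 * m + 1) = c → d = 0 := fun d hd e => by
    rcases Nat.lt_or_ge (c + d) (2 * m + 1) with p | p
    · rw [Nat.mod_eq_of_lt p] at e; omega
    · rw [Nat.mod_eq_sub_mod p, Nat.mod_eq_of_lt (by omega)] at e; omega
  have hne1 : (c + 1) % (2 * m + 1) ≠ c := fun e => absurd (hshift 1 (by omega) e) one_ne_zero
  have hnem : (c + (m + 1)) % (2 * m + 1) ≠ c := fun e => absurd (hshift (m + 1) (by omega) e) (by omega)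
  have hdiff : (c + 1) % (2 * m + 1) ≠ (c + (m + 1)) % (2 * m + 1) := by
    have h1 := hS.one_le
    rcases Nat.lt_or_ge (c + 1) (2 * m + 1) with p | p <;> rcases Nat.lt_or_ge (c + (m + 1)) (2 * m + 1) with q | q
    · rw [Nat.mod_eq_of_lt p, Nat.mod_eq_of_lt q]; omega
    · rw [Nat.mod_eq_of_lt p, Nat.mod_eq_sub_mod q, Nat.mod_eq_of_lt (by omega)]; omega
    · rw [Nat.mod_eq_of_lt q, Nat.mod_eq_sub_mod p, Nat.mod_eq_of_lt (by omega)]; omega
    · rw [Nat.mod_eq_sub_mod p, Nat.mod_eq_sub_mod q, Nat.mod_eq_of_lt (by omega), Nat.mod_eq_of_lt (by omega)]; omega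
  have psi : ∀ (u : ↥(Cfsg.Sz F m)), tw b u *ᵥ Pi.single 0 1 = (Pi.single 0 1 : Fin 4 → F) → ∀ r : Fin 4,
      (∀ j, β (Pi.single j 1) (Pi.single 0 1) r = 0) → (tw c u *ᵥ β (Pi.single 3 1) (Pi.single 0 1)) r = 0 := by
    intro u hu r hr
    rw [← h, hu]
    generalize tw a u *ᵥ Pi.single 3 1 = x
    rw [pi_eq_sum_univ' x]
    simp [map_sum, hr]
  have hu0 : ∀ p q : F, tw b (uS hS p q) *ᵥ Pi.single 0 1 = (Pi.single 0 1 : Fin 4 → F) := fun p q => by
    funext j
    fin_cases j <;> simp [tw, mat_uS hS, tMat, zero_pow (pow_ne_zero b two_ne_zero)]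
  constructor <;> by_contra hk <;> obtain ⟨c0, c1, -, -⟩ := weight_cases hS ha hb hc hab _ (hwt _ hk)
  · obtain ⟨rfl, ea⟩ := c0 rfl
    have h1 : z 1 = 0 := by
      by_contra h1
      exact hdiff (ea.symm.trans ((weight_cases hS ha hb hc hab _ (hwt _ h1)).2.1 rfl).2)
    have hr : ∀ j, β (Pi.single j 1) (Pi.single 0 1) 2 = 0 := by
      intro j
      by_contra hj
      obtain ⟨y, hy⟩ : ∃ y, y ^ 2 ^ b = t := ⟨_, pow_inv_two hS b hb t⟩
      have hy0 : y ≠ 0 := fun e => ht0 (by rw [← hy, e, zero_pow (pow_ne_zero _ two_ne_zero)])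
      have hy1 : y ≠ 1 := fun e => ht1 (by rw [← hy, e, one_pow])
      have e := single_weight hS h j 0 2 hj (Units.mk0 y hy0)
      rw [ea, ← pow_two_mod hS, pow_succ', pow_mul, ← mul_pow, Units.val_mk0] at e
      exact wt_shift hS hy0 hy1 j (pow_two_inj hS _ e)
    have e := psi (uS hS 1 0) (hu0 1 0) 2 hr
    rw [hflip] at e
    simp [tw, mat_uS hS, tMat, Matrix.mulVec, dotProduct, Fin.sum_univ_four, h1, zero_pow (pow_ne_zero b two_ne_zero)] at e
    exact hk e
  · obtain ⟨rfl, ea⟩ := c1 rfl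
    have h0 : z 0 = 0 := by
      by_contra h0
      exact hdiff (((weight_cases hS ha hb hc hab _ (hwt _ h0)).1 rfl).2.symm.trans ea)
    have h3 : z 3 = 0 := by
      by_contra h3
      exact hab ((weight_cases hS ha hb hc hab _ (hwt _ h3)).2.2.2 rfl).1
    have hr : ∀ j, β (Pi.single j 1) (Pi.single 0 1) 0 = 0 := by
      intro j
      by_contra hj
      obtain ⟨y, hy⟩ : ∃ y, y ^ 2 ^ a = t := ⟨_, pow_inv_two hS a ha t⟩
      have hy0 : y ≠ 0 := fun e => ht0 (by rw [← hy, e, zero_pow (pow_ne_zero _ two_ne_zero)])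
      have hy1 : y ≠ 1 := fun e => ht1 (by rw [← hy, e, one_pow])
      have e := single_weight hS h j 0 0 hj (Units.mk0 y hy0)
      exact wt_ne_one hS hy0 hy1 j (pow_two_inj hS a (by
        rw [one_pow]; exact mul_right_cancel₀ (pow_ne_zero _ hy0) (e.trans (one_mul _).symm)))
    have e := psi (uS hS 0 1) (hu0 0 1) 0 hr
    rw [hflip] at e
    simp [tw, mat_uS hS, tMat, Matrix.mulVec, dotProduct, Fin.sum_univ_four, h0, h3, fo, th_zero, th_one,
      zero_pow (pow_ne_zero b two_ne_zero)] at e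
    exact hk e

/-- Invariant bilinear maps between twists vanish. -/
theorem twist_bilin_zero {a b c : ℕ} (ha : a < 2 * m + 1) (hb : b < 2 * m + 1) (hc : c < 2 * m + 1)
    {β : (Fin 4 → F) →ₗ[F] (Fin 4 → F) →ₗ[F] (Fin 4 → F)} (h : TwEquiv (m := m) a b c β) : β = 0 := by
  have hw : tw b (wS hS) *ᵥ Pi.single 3 1 = (Pi.single 0 1 : Fin 4 → F) := by
    rw [tw_wS hS]; funext j; fin_cases j <;> simp
  have hw' : tw a (wS hS) *ᵥ Pi.single 0 1 = (Pi.single 3 1 : Fin 4 → F) := by
    rw [tw_wS hS]; funext j; fin_cases j <;> simp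
  have hz : β (Pi.single 0 1) (Pi.single 3 1) = 0 := by
    obtain ⟨h0, h1⟩ := value_zero hS ha hb hc h
    obtain ⟨h0', h1'⟩ := value_zero hS hb ha hc (tw_flip hS h)
    have hf : β (Pi.single 3 1) (Pi.single 0 1) = tw c (wS hS) *ᵥ β (Pi.single 0 1) (Pi.single 3 1) := by
      rw [← h, hw', hw]
    rw [LinearMap.flip_apply, hf, tw_wS hS] at h0' h1'
    funext j
    fin_cases j
    · exact h0
    · exact h1
    · simpa using h1'
    · simpa using h0'
  have hfix : ∀ i (p q : F), tw i (uS hS p q) *ᵥ Pi.single 0 1 = (Pi.single 0 1 : Fin 4 → F) := fun i p q => by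
    funext j
    fin_cases j <;> simp [tw, mat_uS hS, tMat, zero_pow (pow_ne_zero i two_ne_zero)]
  have h0 : β (Pi.single 0 1) = 0 := by
    refine LinearMap.ker_eq_top.1 (span_last hS b _ fun p q => ?_)
    rw [LinearMap.mem_ker, ← hfix a p q, h, hz, Matrix.mulVec_zero]
  have hall : ∀ (g : ↥(Cfsg.Sz F m)), β (tw a g *ᵥ Pi.single 0 1) = 0 := fun g => LinearMap.ext fun y => by
    have e : y = tw b g *ᵥ (tw b g⁻¹ *ᵥ y) := by
      rw [Matrix.mulVec_mulVec, tw, tw]
      have h1 : (mat g).map (fun x => x ^ 2 ^ b) * (mat g⁻¹).map (fun x => x ^ 2 ^ b) = 1 := by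
        ext p q
        rw [Matrix.mul_apply]
        simp only [Matrix.map_apply, ← mul_pow, ← pow_two_sum hS]
        rw [← Matrix.mul_apply, ← mat_mul, mul_inv_cancel, mat_one]
        by_cases hpq : p = q
        · subst hpq; simp
        · simp [hpq, zero_pow (pow_ne_zero b two_ne_zero)]
      rw [h1, Matrix.one_mulVec]
    rw [e, h, h0, LinearMap.zero_apply, LinearMap.zero_apply, Matrix.mulVec_zero]
  refine LinearMap.ker_eq_top.1 (span_last hS a _ fun p q => ?_)
  rw [LinearMap.mem_ker, ← hw', Matrix.mulVec_mulVec]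
  have : tw a (uS hS p q) * tw a (wS hS) = tw a (uS hS p q * wS hS) := by
    ext i j
    simp only [tw, mat_mul, Matrix.mul_apply, Matrix.map_apply, pow_two_sum hS, mul_pow]
  rw [this]
  exact hall _

section General

omit hS

variable {X : Type u} [AddCommGroup X] [Module F X]

/-- The restriction to an invariant subspace. -/
noncomputable def subRep (ρ : ↥(Cfsg.Sz F m) →* Module.End F X) (W : Submodule F X) (hW : ∀ g, ∀ w ∈ W, ρ g w ∈ W) :
    ↥(Cfsg.Sz F m) →* Module.End F W where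
  toFun g := (ρ g).restrict (hW g)
  map_one' := by ext x; simp
  map_mul' g l := by ext x; simp

/-- The action on the quotient by an invariant subspace. -/
noncomputable def quotRep (ρ : ↥(Cfsg.Sz F m) →* Module.End F X) (W : Submodule F X) (hW : ∀ g, ∀ w ∈ W, ρ g w ∈ W) :
    ↥(Cfsg.Sz F m) →* Module.End F (X ⧸ W) where
  toFun g := W.mapQ W (ρ g) (hW g)
  map_one' := by ext x; simp
  map_mul' g l := by ext x; simp

include hS

theorem subRep_fpf {ρ : ↥(Cfsg.Sz F m) →* Module.End F X} (hf : Fpf hS ρ) (W : Submodule F X)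
    (hW : ∀ g, ∀ w ∈ W, ρ g w ∈ W) : Fpf hS (subRep ρ W hW) :=
  ⟨fun v => Subtype.ext (by rw [Submodule.coe_sum]; exact hf.tor v.1),
    fun f h v => Subtype.ext (by rw [Submodule.coe_sum]; exact hf.five f h v.1)⟩

theorem quotRep_fpf {ρ : ↥(Cfsg.Sz F m) →* Module.End F X} (hf : Fpf hS ρ) (W : Submodule F X)
    (hW : ∀ g, ∀ w ∈ W, ρ g w ∈ W) : Fpf hS (quotRep ρ W hW) := by
  have key : ∀ g x, quotRep ρ W hW g (W.mkQ x) = W.mkQ (ρ g x) := fun _ _ => rfl
  refine ⟨fun v => ?_, fun f h v => ?_⟩ <;> obtain ⟨x, rfl⟩ := W.mkQ_surjective v <;>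
    simp only [key, ← map_sum]
  · rw [hf.tor, map_zero]
  · rw [hf.five f h, map_zero]

end General

/-- Invariant bilinear maps between fixed-point-free modules vanish. -/
theorem bilin_zero (N : ℕ) : ∀ {X : Type u} {Y : Type v} {Z : Type w}
    [AddCommGroup X] [Module F X] [Finite X] [AddCommGroup Y] [Module F Y] [Finite Y]
    [AddCommGroup Z] [Module F Z] [Finite Z]
    {ρX : ↥(Cfsg.Sz F m) →* Module.End F X} {ρY : ↥(Cfsg.Sz F m) →* Module.End F Y}
    {ρZ : ↥(Cfsg.Sz F m) →* Module.End F Z}, Fpf hS ρX → Fpf hS ρY → Fpf hS ρZ →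
    Nat.card X * Nat.card Y * Nat.card Z ≤ N →
    ∀ β : X →ₗ[F] Y →ₗ[F] Z, (∀ g x y, β (ρX g x) (ρY g y) = ρZ g (β x y)) → β = 0 := by
  induction N with
  | zero =>
    intro X Y Z _ _ _ _ _ _ _ _ _ ρX ρY ρZ _ _ _ hN
    have := Nat.card_pos (α := X)
    have := Nat.card_pos (α := Y)
    have := Nat.card_pos (α := Z)
    have : 0 < Nat.card X * Nat.card Y * Nat.card Z := by positivity
    omega
  | succ N IH =>
    intro X Y Z _ _ _ _ _ _ _ _ _ ρX ρY ρZ hX hY hZ hN β hβ
    by_cases hX0 : ∀ x : X, x = 0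
    · exact LinearMap.ext fun x => by rw [hX0 x, map_zero, LinearMap.zero_apply]
    by_cases hY0 : ∀ y : Y, y = 0
    · exact LinearMap.ext fun x => LinearMap.ext fun y => by rw [hY0 y, map_zero]; rfl
    by_cases hZ0 : ∀ z : Z, z = 0
    · exact LinearMap.ext fun x => LinearMap.ext fun y => hZ0 _
    push Not at hX0 hY0 hZ0
    have hpX := Nat.card_pos (α := X)
    have hpY := Nat.card_pos (α := Y)
    have hpZ := Nat.card_pos (α := Z)
    have hcX : ∀ W : Submodule F X, (W ≠ ⊤ → Nat.card W < Nat.card X) ∧ (W ≠ ⊥ → Nat.card (X ⧸ W) < Nat.card X) :=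
      fun W => card_sub_quot W
    have hcY : ∀ W : Submodule F Y, (W ≠ ⊤ → Nat.card W < Nat.card Y) ∧ (W ≠ ⊥ → Nat.card (Y ⧸ W) < Nat.card Y) :=
      fun W => card_sub_quot W
    have hcZ : ∀ W : Submodule F Z, (W ≠ ⊤ → Nat.card W < Nat.card Z) ∧ (W ≠ ⊥ → Nat.card (Z ⧸ W) < Nat.card Z) :=
      fun W => card_sub_quot W
    by_cases hiX : Irr ρX
    swap
    · obtain ⟨W, hW, hb, ht⟩ : ∃ W : Submodule F X, (∀ g, ∀ w ∈ W, ρX g w ∈ W) ∧ W ≠ ⊥ ∧ W ≠ ⊤ := by
        by_contra hc
        push Not at hc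
        exact hiX ⟨hX0, fun W hW => or_iff_not_imp_left.2 fun hb => hc W hW hb⟩
      have hle : W ≤ LinearMap.ker β := fun x hx => by
        haveI : Finite W := inferInstance
        have := IH (subRep_fpf hS hX W hW) hY hZ
          (by
            have := (hcX W).1 ht
            have : Nat.card W * Nat.card Y * Nat.card Z < Nat.card X * Nat.card Y * Nat.card Z :=
              Nat.mul_lt_mul_of_pos_right (Nat.mul_lt_mul_of_pos_right this hpY) hpZ
            omega)
          (β.comp W.subtype) (fun g x y => hβ g x.1 y)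
        exact LinearMap.mem_ker.2 (LinearMap.congr_fun this ⟨x, hx⟩)
      haveI : Finite (X ⧸ W) := Finite.of_surjective _ W.mkQ_surjective
      have h0 := IH (quotRep_fpf hS hX W hW) hY hZ
        (by
          have := (hcX W).2 hb
          have : Nat.card (X ⧸ W) * Nat.card Y * Nat.card Z < Nat.card X * Nat.card Y * Nat.card Z :=
            Nat.mul_lt_mul_of_pos_right (Nat.mul_lt_mul_of_pos_right this hpY) hpZ
          omega)
        (W.liftQ β hle) (fun g x y => by
          obtain ⟨x, rfl⟩ := W.mkQ_surjective x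
          exact hβ g x y)
      rw [← W.liftQ_mkQ β hle, h0, LinearMap.zero_comp]
    by_cases hiY : Irr ρY
    swap
    · obtain ⟨W, hW, hb, ht⟩ : ∃ W : Submodule F Y, (∀ g, ∀ w ∈ W, ρY g w ∈ W) ∧ W ≠ ⊥ ∧ W ≠ ⊤ := by
        by_contra hc
        push Not at hc
        exact hiY ⟨hY0, fun W hW => or_iff_not_imp_left.2 fun hb => hc W hW hb⟩
      have hle : W ≤ LinearMap.ker β.flip := fun y hy => by
        haveI : Finite W := inferInstance
        have := IH hX (subRep_fpf hS hY W hW) hZ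
          (by
            have := (hcY W).1 ht
            have : Nat.card X * Nat.card W * Nat.card Z < Nat.card X * Nat.card Y * Nat.card Z :=
              Nat.mul_lt_mul_of_pos_right (Nat.mul_lt_mul_of_pos_left this hpX) hpZ
            omega)
          (β.flip.comp W.subtype).flip (fun g x y => hβ g x y.1)
        refine LinearMap.mem_ker.2 (LinearMap.ext fun x => ?_)
        exact LinearMap.congr_fun (LinearMap.congr_fun this x) ⟨y, hy⟩
      haveI : Finite (Y ⧸ W) := Finite.of_surjective _ W.mkQ_surjective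
      have h0 := IH hX (quotRep_fpf hS hY W hW) hZ
        (by
          have := (hcY W).2 hb
          have : Nat.card X * Nat.card (Y ⧸ W) * Nat.card Z < Nat.card X * Nat.card Y * Nat.card Z :=
            Nat.mul_lt_mul_of_pos_right (Nat.mul_lt_mul_of_pos_left this hpX) hpZ
          omega)
        (W.liftQ β.flip hle).flip (fun g x y => by
          obtain ⟨y, rfl⟩ := W.mkQ_surjective y
          exact hβ g x y)
      refine LinearMap.ext fun x => LinearMap.ext fun y => ?_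
      exact LinearMap.congr_fun (LinearMap.congr_fun h0 x) (W.mkQ y)
    by_cases hiZ : Irr ρZ
    swap
    · obtain ⟨W, hW, hb, ht⟩ : ∃ W : Submodule F Z, (∀ g, ∀ w ∈ W, ρZ g w ∈ W) ∧ W ≠ ⊥ ∧ W ≠ ⊤ := by
        by_contra hc
        push Not at hc
        exact hiZ ⟨hZ0, fun W hW => or_iff_not_imp_left.2 fun hb => hc W hW hb⟩
      haveI : Finite (Z ⧸ W) := Finite.of_surjective _ W.mkQ_surjective
      have h0 := IH hX hY (quotRep_fpf hS hZ W hW)
        (by
          have := (hcZ W).2 hb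
          have : Nat.card X * Nat.card Y * Nat.card (Z ⧸ W) < Nat.card X * Nat.card Y * Nat.card Z :=
            Nat.mul_lt_mul_of_pos_left this (Nat.mul_pos hpX hpY)
          omega)
        (β.compr₂ W.mkQ) (fun g x y => by
          show W.mkQ (β _ _) = _
          rw [hβ]; rfl)
      have hmem : ∀ x y, β x y ∈ W := fun x y =>
        (Submodule.Quotient.mk_eq_zero W).1 (LinearMap.congr_fun (LinearMap.congr_fun h0 x) y)
      haveI : Finite W := inferInstance
      let β' : X →ₗ[F] Y →ₗ[F] W := LinearMap.mk₂ F (fun x y => (⟨β x y, hmem x y⟩ : W))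
        (fun x x' y => Subtype.ext (LinearMap.map_add₂ β x x' y)) (fun c x y => Subtype.ext (LinearMap.map_smul₂ β c x y))
        (fun x y y' => Subtype.ext (map_add (β x) y y')) (fun c x y => Subtype.ext (map_smul (β x) c y))
      have h1 := IH hX hY (subRep_fpf hS hZ W hW)
        (by
          have := (hcZ W).1 ht
          have : Nat.card X * Nat.card Y * Nat.card W < Nat.card X * Nat.card Y * Nat.card Z :=
            Nat.mul_lt_mul_of_pos_left this (Nat.mul_pos hpX hpY)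
          omega)
        β' (fun g x y => Subtype.ext (hβ g x y))
      refine LinearMap.ext fun x => LinearMap.ext fun y => ?_
      exact congrArg Subtype.val (LinearMap.congr_fun (LinearMap.congr_fun h1 x) y)
    obtain ⟨a, ha, eX, heX⟩ := exists_twist hS hX hiX
    obtain ⟨b, hb, eY, heY⟩ := exists_twist hS hY hiY
    obtain ⟨c, hc, eZ, heZ⟩ := exists_twist hS hZ hiZ
    let γ : (Fin 4 → F) →ₗ[F] (Fin 4 → F) →ₗ[F] (Fin 4 → F) :=
      (β.compl₁₂ eX.symm.toLinearMap eY.symm.toLinearMap).compr₂ eZ.toLinearMap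
    have hγ : TwEquiv (m := m) a b c γ := by
      intro g x y
      obtain ⟨x, rfl⟩ := eX.surjective x
      obtain ⟨y, rfl⟩ := eY.surjective y
      rw [← heX, ← heY]
      simp only [γ, LinearMap.compr₂_apply, LinearMap.compl₁₂_apply, LinearEquiv.coe_coe, LinearEquiv.symm_apply_apply]
      rw [hβ, heZ]
    have h0 := twist_bilin_zero hS ha hb hc hγ
    refine LinearMap.ext fun x => LinearMap.ext fun y => eZ.injective ?_
    have := LinearMap.congr_fun (LinearMap.congr_fun h0 (eX x)) (eY y)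
    simpa [γ] using this

end Cfsg.Agent.CNStruct
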