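import Cfsg.Agent.Lib.Grp.CNStruct.SzSimple

/-!
An element of order five has a fixed point on every tensor product of at least two twists; so the irreducible
fixed-point-free modules are the twists of the natural module.
-/

set_option autoImplicit false
set_option linter.style.haveILetI false
set_option linter.unusedSectionVars false

namespace Cfsg.Agent.CNStruct

open Matrix Cfsg.Agent.Suz
open scoped Classical

variable {F : Type} [Field F] [Fintype F] {m : ℕ} (hS : SzField F m)
include hS

theorem exists_five : ∃ f : ↥(Cfsg.Sz F m), orderOf f = 5 ∧ FPF m f := by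
  haveI : Fact (Nat.Prime 5) := ⟨by norm_num⟩
  have h5 : 5 ∣ (2 ^ (2 * m + 1)) ^ 2 + 1 := by
    have e : (2 ^ (2 * m + 1)) ^ 2 = 4 * 16 ^ m := by
      rw [← pow_mul, show (2 * m + 1) * 2 = 4 * m + 2 by ring, pow_add, pow_mul]; ring
    rw [e, Nat.dvd_iff_mod_eq_zero, Nat.add_mod, Nat.mul_mod, Nat.pow_mod]
    norm_num
  obtain ⟨f, hf⟩ := exists_prime_orderOf_dvd_card' (G := ↥(Cfsg.Sz F m)) 5 (by
    rw [card_Sz hS]; exact (h5.mul_left _).mul_right _)
  exact ⟨f, hf, FPF_of_orderOf_dvd hS (hf ▸ h5) fun e => by rw [e, orderOf_one] at hf; omega⟩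

theorem powers_independent {f : ↥(Cfsg.Sz F m)} (hf : FPF m f) (c : Fin 4 → F)
    (h : ∑ j : Fin 4, c j • mat f ^ (j : ℕ) = 0) : ∀ j, c j = 0 := by
  let P : Polynomial F := ∑ j : Fin 4, Polynomial.C (c j) * Polynomial.X ^ (j : ℕ)
  have hP : Polynomial.aeval (mat f) P = 0 := by
    simp only [P, map_sum, map_mul, Polynomial.aeval_C, map_pow, Polynomial.aeval_X]
    refine Eq.trans (Finset.sum_congr rfl fun j _ => ?_) h
    rw [← Algebra.smul_def]
  have hdeg : (minpoly F (mat f)).natDegree = 4 := by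
    have hd := Matrix.minpoly_dvd_charpoly (mat f)
    have hirr := irreducible_charpoly hS hf
    have hint : IsIntegral F (mat f) := Matrix.isIntegral _
    rcases hirr.dvd_iff.1 hd with h1 | h1
    · exact absurd h1 (minpoly.not_isUnit F (mat f))
    · rw [Polynomial.eq_of_monic_of_associated (minpoly.monic hint) (mat f).charpoly_monic h1.symm,
        Matrix.charpoly_natDegree_eq_dim, Fintype.card_fin]
  have hP0 : P = 0 := by
    by_contra hne
    have h1 := Polynomial.natDegree_le_of_dvd (minpoly.dvd F (mat f) hP) hne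
    have h2 : P.natDegree ≤ 3 := Polynomial.natDegree_sum_le_of_forall_le _ _ fun j _ =>
      (Polynomial.natDegree_C_mul_X_pow_le _ _).trans (by omega)
    omega
  intro j
  have h1 := congrArg (fun g => Polynomial.coeff g (j : ℕ)) hP0
  simp only [P, Polynomial.finsetSum_coeff, Polynomial.coeff_C_mul_X_pow, Polynomial.coeff_zero] at h1
  rw [Finset.sum_eq_single j (fun l _ hl => if_neg fun e => hl (Fin.ext e.symm))
    (fun hn => absurd (Finset.mem_univ j) hn), if_pos rfl] at h1
  exact h1

theorem pow_inv_two (i : ℕ) (hi : i < 2 * m + 1) (x : F) : (x ^ 2 ^ (2 * m + 1 - i)) ^ 2 ^ i = x := by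
  rw [← pow_mul, ← pow_add, Nat.sub_add_cancel hi.le, ← hS.card, FiniteField.pow_card]

/-- Two twists cannot occur. -/
theorem card_le_one (I : Finset ℕ) (hI : ∀ i ∈ I, i < 2 * m + 1)
    (h5 : ∀ f : ↥(Cfsg.Sz F m), orderOf f = 5 → ∀ v, ∑ j ∈ Finset.range 5, tensRep hS I (f ^ j) v = 0) :
    I.card ≤ 1 := by
  by_contra hc
  rw [not_le] at hc
  obtain ⟨a, ha, b, hb, hab⟩ := Finset.one_lt_card.1 hc
  obtain ⟨f, hf, hfpf⟩ := exists_five hS
  let i : I := ⟨a, ha⟩
  let i' : I := ⟨b, hb⟩
  have hii : i' ≠ i := fun e => hab (congrArg Subtype.val e).symm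
  have hzero : ∀ s t, ∑ j ∈ Finset.range 5, tens I (f ^ j) s t = 0 := by
    intro s t
    have h1 := congrFun (h5 f hf (Pi.single t 1)) s
    simp only [Finset.sum_apply, tensRep_apply, Matrix.mulVec_single_one, Pi.zero_apply] at h1
    exact h1
  have hn1 : mat f ≠ 1 := fun e => by
    have : f = 1 := mat_injective (e.trans mat_one.symm)
    rw [this, orderOf_one] at hf; omega
  have hrel : mat f ^ 4 = ∑ j : Fin 4, mat f ^ (j : ℕ) := by
    have h0 : ∀ v, (∑ j ∈ Finset.range 5, mat f ^ j) *ᵥ v = 0 := by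
      intro v
      by_contra hne
      refine no_fixed_vector hS hfpf hne ?_
      rw [Matrix.mulVec_mulVec]
      congr 1
      have h1 : mat f * (∑ j ∈ Finset.range 5, mat f ^ j) + 1 = (∑ j ∈ Finset.range 5, mat f ^ j) + mat f ^ 5 := by
        rw [Finset.mul_sum, Finset.sum_range_succ' (fun j => mat f ^ j), Finset.sum_range_succ (fun j => mat f * mat f ^ j)]
        simp only [← pow_succ', pow_zero]
        abel
      have h5m : mat f ^ 5 = 1 := by
        rw [← mat_pow f 5, ← mat_one]; congr 1; rw [← hf]; exact pow_orderOf_eq_one f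
      rw [h5m] at h1
      exact add_right_cancel h1
    have h2 : (∑ j ∈ Finset.range 5, mat f ^ j) = 0 := Matrix.ext_of_mulVec_single fun j => by
      rw [h0, Matrix.zero_mulVec]
    rw [Finset.sum_range_succ, ← Fin.sum_univ_eq_sum_range (fun j => mat f ^ j) 4, add_comm,
      add_eq_zero_iff_eq_neg] at h2
    rw [h2]
    ext p q
    rw [Matrix.neg_apply, neg_eq hS]
  have key : ∀ p q : Fin 4, ∀ k : Fin 4,
      (mat (f ^ 4) p q ^ 2 ^ b * ∏ l ∈ (Finset.univ.erase i).erase i', mat (f ^ 4) k k ^ 2 ^ (l : ℕ)) =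
        if p = q then 1 else 0 := by
    intro p q k
    let C : ℕ → F := fun j => mat (f ^ j) p q ^ 2 ^ b *
      ∏ l ∈ (Finset.univ.erase i).erase i', mat (f ^ j) k k ^ 2 ^ (l : ℕ)
    have hC : ∀ x y : Fin 4, ∑ j ∈ Finset.range 5, mat (f ^ j) x y ^ 2 ^ a * C j = 0 := by
      intro x y
      refine Eq.trans (Finset.sum_congr rfl fun j _ => ?_)
        (hzero (Function.update (Function.update (fun _ => k) i' p) i x)
          (Function.update (Function.update (fun _ => k) i' q) i y))
      rw [tens_apply, ← Finset.mul_prod_erase _ _ (Finset.mem_univ i),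
        ← Finset.mul_prod_erase _ _ (Finset.mem_erase.2 ⟨hii, Finset.mem_univ i'⟩)]
      simp only [Function.update_self, Function.update_of_ne hii]
      refine congrArg₂ (· * ·) rfl (congrArg₂ (· * ·) rfl (Finset.prod_congr rfl fun l hl => ?_))
      obtain ⟨h1, h2, -⟩ : l ≠ i' ∧ l ≠ i ∧ True :=
        ⟨Finset.ne_of_mem_erase hl, Finset.ne_of_mem_erase (Finset.mem_of_mem_erase hl), trivial⟩
      rw [Function.update_of_ne h2, Function.update_of_ne h1, Function.update_of_ne h2, Function.update_of_ne h1]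
    set c : ℕ → F := fun j => C j ^ 2 ^ (2 * m + 1 - a)
    have hsum : ∑ j ∈ Finset.range 5, c j • mat f ^ j = 0 := by
      ext x y
      refine pow_two_inj hS a ?_
      rw [Matrix.zero_apply, zero_pow (pow_ne_zero _ two_ne_zero), Matrix.sum_apply, pow_two_sum hS]
      refine Eq.trans (Finset.sum_congr rfl fun j _ => ?_) (hC x y)
      rw [Matrix.smul_apply, smul_eq_mul, mul_pow, pow_inv_two hS a (hI a ha), mul_comm, mat_pow]
    rw [Finset.sum_range_succ, hrel, Finset.smul_sum,
      ← Fin.sum_univ_eq_sum_range (fun j => c j • mat f ^ j) 4, ← Finset.sum_add_distrib] at hsum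
    simp only [← add_smul] at hsum
    have h0 := powers_independent hS hfpf _ hsum 0
    have h04 : C 0 = C 4 := by
      have e : c 0 = c 4 := by
        simp only [Fin.val_zero] at h0
        linear_combination h0 - c 4 * two hS
      have := congrArg (fun x => x ^ 2 ^ a) e
      simpa only [c, pow_inv_two hS a (hI a ha)] using this
    rw [show mat (f ^ 4) p q ^ 2 ^ b * ∏ l ∈ (Finset.univ.erase i).erase i', mat (f ^ 4) k k ^ 2 ^ (l : ℕ)
      = C 4 from rfl, ← h04]
    simp only [C, pow_zero, mat_one]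
    by_cases hpq : p = q
    · subst hpq; simp
    · simp [hpq]
  set y := mat (f ^ 4) with hy
  have hdiag : y = Matrix.scalar (Fin 4) (y 0 0) := by
    ext p q
    by_cases hpq : p = q
    · subst hpq
      rw [Matrix.scalar_apply, Matrix.diagonal_apply_eq]
      have h1 := key p p 0
      have h2 := key 0 0 0
      rw [if_pos rfl] at h1 h2
      exact pow_two_inj hS b (mul_right_cancel₀ (fun e => by rw [e, mul_zero] at h2; exact zero_ne_one h2)
        (h1.trans h2.symm))
    · rw [Matrix.scalar_apply, Matrix.diagonal_apply_ne _ hpq]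
      have h1 := key p q 0
      have h2 := key 0 0 0
      rw [if_neg hpq] at h1
      rw [if_pos rfl] at h2
      exact (pow_eq_zero_iff (pow_ne_zero _ two_ne_zero)).1 ((mul_eq_zero.1 h1).resolve_right
        fun e => by rw [e, mul_zero] at h2; exact zero_ne_one h2)
  have hy1 : y = 1 := by
    have hdet : y.det = 1 := by
      rw [hy]; exact (f ^ 4 : ↥(Cfsg.Sz F m)).1.2
    rw [hdiag, Matrix.scalar_apply, Matrix.det_diagonal, Finset.prod_const, Finset.card_univ, Fintype.card_fin] at hdet
    have h1 : y 0 0 = 1 := pow_two_inj hS 2 (by rw [one_pow]; norm_num; exact hdet)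
    rw [hdiag, h1, map_one]
  have h4 : f ^ 4 = 1 := mat_injective (hy1.trans mat_one.symm)
  rw [← orderOf_dvd_iff_pow_eq_one, hf] at h4
  omega

omit hS

/-- A twist of the natural module. -/
def tw (i : ℕ) (g : ↥(Cfsg.Sz F m)) : Matrix (Fin 4) (Fin 4) F := (mat g).map fun x => x ^ 2 ^ i

include hS

/-- Irreducible fixed-point-free modules are twists of the natural module. -/
theorem exists_twist {V : Type*} [AddCommGroup V] [Module F V] [Finite V]
    {ρ : ↥(Cfsg.Sz F m) →* Module.End F V} (hf : Fpf hS ρ) (hirr : Irr ρ) :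
    ∃ i < 2 * m + 1, ∃ e : V ≃ₗ[F] (Fin 4 → F), ∀ g x, e (ρ g x) = tw i g *ᵥ e x := by
  obtain ⟨I, hne, hI, e, he⟩ := exists_tens_equiv hS hf hirr
  have h5 : ∀ f : ↥(Cfsg.Sz F m), orderOf f = 5 → ∀ v, ∑ j ∈ Finset.range 5, tensRep hS I (f ^ j) v = 0 := by
    intro f hford v
    obtain ⟨x, rfl⟩ := e.surjective v
    simp only [← he, ← map_sum, hf.five f hford x, map_zero]
  obtain ⟨i, rfl⟩ := Finset.card_eq_one.1 (le_antisymm (card_le_one hS I hI h5) hne.card_pos)
  letI : Unique ({i} : Finset ℕ) :=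
    { default := ⟨i, Finset.mem_singleton_self i⟩
      uniq := fun j => Subtype.ext (Finset.mem_singleton.1 j.2) }
  let u : (({i} : Finset ℕ) → Fin 4) ≃ Fin 4 := Equiv.funUnique _ _
  refine ⟨i, hI i (Finset.mem_singleton_self i), e.trans (LinearEquiv.funCongrLeft F F u.symm), fun g x => ?_⟩
  funext p
  show e (ρ g x) (u.symm p) = ∑ q, tw i g p q * e x (u.symm q)
  rw [he, tensRep_apply, Matrix.mulVec, dotProduct]
  refine (Fintype.sum_equiv u.symm _ _ fun q => ?_).symm
  congr 1
  rw [tens_apply, Fintype.prod_unique]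
  simp [u, tw, default]

end Cfsg.Agent.CNStruct
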