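import Cfsg.Agent.Lib.Grp.CNStruct.SzBilin

/-!
Fixed-point-free modules of a Suzuki group over the prime field: they embed in twists of the natural module,
invariant biadditive maps vanish, and there is no nonsplit lift modulo four.
-/

set_option autoImplicit false
set_option linter.style.haveILetI false
set_option linter.unusedSectionVars false

namespace Cfsg.Agent.CNStruct

open Matrix Cfsg.Agent.Suz
open scoped Classical TensorProduct

variable {F : Type} [Field F] [Fintype F] {m : ℕ} (hS : SzField F m)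

/-- The torus and the elements of order five have no fixed points on an abelian group. -/
structure AFpf {A : Type*} [AddCommGroup A] (ρ : ↥(Cfsg.Sz F m) →* AddMonoid.End A) : Prop where
  tor : ∀ v : A, ∑ z : Fˣ, ρ (hTor hS z) v = 0
  five : ∀ f : ↥(Cfsg.Sz F m), orderOf f = 5 → ∀ v : A, ∑ j ∈ Finset.range 5, ρ (f ^ j) v = 0

include hS

theorem aend_mul {A : Type*} [AddCommGroup A] (ρ : ↥(Cfsg.Sz F m) →* AddMonoid.End A) (g k : ↥(Cfsg.Sz F m))
    (v : A) : ρ (g * k) v = ρ g (ρ k v) := by rw [map_mul]; rfl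

/-- A vector fixed by the Sylow 2-subgroup in a twist is a multiple of the first basis vector. -/
theorem tw_fixed (i : ℕ) {x : Fin 4 → F} (h : ∀ a b : F, tw i (uS hS a b) *ᵥ x = x) :
    x = x 0 • Pi.single 0 1 := by
  have e1 := congrFun (h 0 1) 1
  have e2 := congrFun (h 0 1) 0
  have e3 := congrFun (h 1 0) 0
  simp [tw, mat_uS hS, tMat, fo, th_zero, th_one, Matrix.mulVec, dotProduct, Fin.sum_univ_four,
    zero_pow (pow_ne_zero i two_ne_zero)] at e1 e2 e3
  have h3 : x 3 = 0 := e1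
  have h2 : x 2 = 0 := by linear_combination e2 - h3
  have h1 : x 1 = 0 := by linear_combination e3 - h2 - h3
  funext j
  fin_cases j <;> simp [h1, h2, h3]

theorem tw_mul (i : ℕ) (g k : ↥(Cfsg.Sz F m)) : tw i (g * k) = tw i g * tw i k := by
  ext p q
  simp only [tw, mat_mul, Matrix.mul_apply, Matrix.map_apply, pow_two_sum hS, mul_pow]

theorem tw_one (i : ℕ) : tw i (1 : ↥(Cfsg.Sz F m)) = 1 := by
  rw [tw, mat_one]
  ext p q
  by_cases hpq : p = q
  · subst hpq; simp
  · simp [hpq, zero_pow (pow_ne_zero i two_ne_zero)]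

/-- The image of a nonzero invariant map into a twist spans the last basis vector. -/
theorem last_mem_span (i : ℕ) {A : Type*} [AddCommGroup A] (ρ : ↥(Cfsg.Sz F m) →* AddMonoid.End A)
    (π : A →+ (Fin 4 → F)) (hπ : ∀ g x, π (ρ g x) = tw i g *ᵥ π x) (hne : ∃ x, π x ≠ 0) :
    Pi.single 3 1 ∈ Submodule.span F (Set.range π) := by
  set K := Submodule.span F (Set.range π) with hK
  have hinv : ∀ g : ↥(Cfsg.Sz F m), ∀ w ∈ K, tw i g *ᵥ w ∈ K := by
    intro g w hw
    have h1 : K ≤ K.comap (Matrix.mulVecLin (tw i g)) := Submodule.span_le.2 (by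
      rintro _ ⟨x, rfl⟩
      show tw i g *ᵥ π x ∈ K
      rw [← hπ]
      exact Submodule.subset_span ⟨_, rfl⟩)
    exact h1 hw
  obtain ⟨x, hx⟩ := hne
  let σ : unip hS →* Module.End F K :=
    { toFun := fun u => (Matrix.mulVecLin (tw i (u : ↥(Cfsg.Sz F m)))).restrict (hinv u)
      map_one' := by
        refine LinearMap.ext fun y => Subtype.ext ?_
        show tw i ((1 : unip hS) : ↥(Cfsg.Sz F m)) *ᵥ y.1 = y.1
        rw [OneMemClass.coe_one, tw_one hS, Matrix.one_mulVec]
      map_mul' := fun u l => by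
        refine LinearMap.ext fun y => Subtype.ext ?_
        show tw i ((u * l : unip hS) : ↥(Cfsg.Sz F m)) *ᵥ y.1 = tw i (u : ↥(Cfsg.Sz F m)) *ᵥ (tw i (l : ↥(Cfsg.Sz F m)) *ᵥ y.1)
        rw [Subgroup.coe_mul, tw_mul hS, Matrix.mulVec_mulVec] }
  obtain ⟨y, hy0, hyf⟩ := exists_fixed hS (isPGroup_unip hS) σ
    ⟨⟨π x, Submodule.subset_span ⟨x, rfl⟩⟩, fun e => hx (congrArg Subtype.val e)⟩
  have hy1 : y.1 = y.1 0 • Pi.single 0 1 := tw_fixed hS i fun a b =>
    congrArg Subtype.val (hyf ⟨uS hS a b, (mem_unip hS).2 ⟨a, b, rfl⟩⟩)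
  have hne0 : y.1 0 ≠ 0 := fun e => hy0 (Subtype.ext (by rw [hy1, e, zero_smul]; rfl))
  have h0 := K.smul_mem (y.1 0)⁻¹ y.2
  rw [hy1] at h0
  simp [smul_smul, inv_mul_cancel₀ hne0] at h0
  have h3 := hinv (wS hS) _ h0
  rw [tw_wS hS] at h3
  convert h3 using 1
  funext j
  fin_cases j <;> simp

/-- A twist of the natural module as a representation. -/
noncomputable def twRep (c : ℕ) : ↥(Cfsg.Sz F m) →* Module.End F (Fin 4 → F) where
  toFun g := Matrix.mulVecLin (tw c g)
  map_one' := by rw [tw_one hS, Matrix.mulVecLin_one]; rfl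
  map_mul' g l := by rw [tw_mul hS, Matrix.mulVecLin_mul]; rfl

theorem twist_fpf (c : ℕ) : Fpf hS (twRep hS c) := by
  refine ⟨fun v => funext fun j => ?_, fun f h5 v => ?_⟩
  · simp only [Finset.sum_apply, Pi.zero_apply, twRep, MonoidHom.coe_mk, OneHom.coe_mk,
      Matrix.mulVecLin_apply, tw_hTor hS, ← Finset.sum_mul]
    refine mul_eq_zero_of_left ?_ _
    let χ : Fˣ →* F :=
      { toFun := fun z => wt (m := m) (z : F) j ^ 2 ^ c
        map_one' := by fin_cases j <;> simp [wt, th_one]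
        map_mul' := fun z y => by
          rw [← mul_pow]
          congr 1
          fin_cases j <;> simp [wt, th_mul, div_mul_div_comm, mul_comm] }
    refine sum_hom_units_eq_zero χ fun e => ?_
    obtain ⟨t, ht0, ht1⟩ := exists_ne_zero_one hS
    have h1 : χ (Units.mk0 t ht0) = 1 := DFunLike.congr_fun e _
    exact wt_ne_one hS ht0 ht1 j (pow_two_inj hS c (by rw [one_pow]; exact h1))
  · have hfpf : FPF m f := by
      refine FPF_of_orderOf_dvd hS (h5 ▸ ?_) fun e => by rw [e, orderOf_one] at h5; omega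
      have e : (2 ^ (2 * m + 1)) ^ 2 = 4 * 16 ^ m := by
        rw [← pow_mul, show (2 * m + 1) * 2 = 4 * m + 2 by ring, pow_add, pow_mul]; ring
      rw [e, Nat.dvd_iff_mod_eq_zero, Nat.add_mod, Nat.mul_mod, Nat.pow_mod]
      norm_num
    have hzero : ∑ j ∈ Finset.range 5, tw c (f ^ j) = 0 := by
      refine Matrix.ext_of_mulVec_single fun l => ?_
      rw [Matrix.zero_mulVec]
      by_contra hne
      have htw : tw c (f ^ 5) = 1 := by rw [← h5, pow_orderOf_eq_one, tw_one hS]
      have hfix : tw c f *ᵥ ((∑ j ∈ Finset.range 5, tw c (f ^ j)) *ᵥ Pi.single l 1) =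
          (∑ j ∈ Finset.range 5, tw c (f ^ j)) *ᵥ Pi.single l 1 := by
        rw [Matrix.mulVec_mulVec]
        congr 1
        refine add_right_cancel (b := 1) ?_
        conv_rhs => rw [← htw, ← Finset.sum_range_succ (fun j => tw c (f ^ j)), Finset.sum_range_succ']
        rw [Finset.mul_sum]
        simp only [← tw_mul hS, ← pow_succ', pow_zero, tw_one hS]
      set x := (∑ j ∈ Finset.range 5, tw c (f ^ j)) *ᵥ Pi.single l 1 with hx
      let y : Fin 4 → F := fun k => x k ^ 2 ^ ((2 * m + 1) * (c + 1) - c)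
      have hback : ∀ k, y k ^ 2 ^ c = x k := fun k => by
        simp only [y]
        rw [← pow_mul, ← pow_add, Nat.sub_add_cancel (le_trans (Nat.le_succ c) (Nat.le_mul_of_pos_left _ (by omega))),
          pow_two_mod hS, Nat.mul_mod_right, pow_zero, pow_one]
      have hy : y ≠ 0 := fun e => hne (funext fun k => by
        rw [← hback k, e]; exact zero_pow (pow_ne_zero _ two_ne_zero))
      refine no_fixed_vector hS hfpf hy (funext fun k => pow_two_inj hS c ?_)
      rw [hback, Matrix.mulVec, dotProduct, pow_two_sum hS]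
      have hk := congrFun hfix k
      rw [Matrix.mulVec, dotProduct] at hk
      refine Eq.trans (Finset.sum_congr rfl fun k' _ => ?_) hk
      rw [mul_pow, hback]; rfl
    simp only [twRep, MonoidHom.coe_mk, OneHom.coe_mk, Matrix.mulVecLin_apply, ← Matrix.sum_mulVec, hzero,
      Matrix.zero_mulVec]

/-- There is no lift modulo four of a twist. -/
theorem no_lift {A : Type*} [AddCommGroup A] [Finite A] (h4 : ∀ x : A, x + x + (x + x) = 0)
    {ρ : ↥(Cfsg.Sz F m) →* AddMonoid.End A} (hf : ∀ v : A, ∑ z : Fˣ, ρ (hTor hS z) v = 0)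
    (c : ℕ) (π : A →+ (Fin 4 → F)) (hπ : ∀ g x, π (ρ g x) = tw c g *ᵥ π x)
    (hker : ∀ x, π x = 0 ↔ x + x = 0) : ∀ x, π x = 0 := by
  haveI := charP hS
  haveI : Fintype A := Fintype.ofFinite A
  haveI : Fact (Nat.Prime 2) := ⟨Nat.prime_two⟩
  letI : Algebra (ZMod 2) F := ZMod.algebra F 2
  by_contra hne
  push Not at hne
  set T : AddSubgroup A := (AddMonoidHom.id A + AddMonoidHom.id A).ker with hT
  have hmemT : ∀ x, x ∈ T ↔ x + x = 0 := fun x => by simp [hT]
  letI : Module (ZMod 2) T := AddCommGroup.zmodModule fun t => by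
    rw [two_nsmul]; exact Subtype.ext ((hmemT t.1).1 t.2)
  let δ : A →+ T := AddMonoidHom.mk' (fun x => ⟨x + x, (hmemT _).2 (h4 x)⟩) fun x y => Subtype.ext (by
    show x + y + (x + y) = x + x + (y + y)
    abel)
  let π0 : A →+ F := (Pi.evalAddMonoidHom (fun _ : Fin 4 => F) 0).comp π
  obtain ⟨φ0, hφ0⟩ : ∃ φ0 : T →+ F, ∀ x, φ0 (δ x) = π0 x := by
    let δ' : A →+ δ.range := δ.rangeRestrict
    have hδ' : Function.Surjective δ' := δ.rangeRestrict_surjective
    have hk : δ'.ker ≤ π0.ker := by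
      intro x hx
      rw [AddMonoidHom.mem_ker] at hx ⊢
      have h1 : x + x = 0 := congrArg (fun t : δ.range => ((t : T) : A)) hx
      show π x 0 = 0
      rw [(hker x).2 h1]; rfl
    let f : δ.range →+ F := δ'.liftOfSurjective hδ' ⟨π0, hk⟩
    let p : Submodule (ZMod 2) T := AddSubgroup.toZModSubmodule 2 δ.range
    obtain ⟨g, hg⟩ := LinearMap.exists_extend (p := p) ((show p →+ F from f).toZModLinearMap 2)
    refine ⟨g.toAddMonoidHom, fun x => ?_⟩
    have := LinearMap.congr_fun hg ⟨δ x, ⟨x, rfl⟩⟩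
    refine Eq.trans this ?_
    exact AddMonoidHom.liftOfRightInverse_comp_apply δ' _ (Function.rightInverse_surjInv hδ') ⟨π0, hk⟩ x
  have hTρ : ∀ g, ∀ x ∈ T, ρ g x ∈ T := fun g x hx => by
    rw [hmemT] at hx ⊢
    rw [← map_add, hx, map_zero]
  set s := 2 ^ c with hs
  let φ : A → F := fun t => if ht : t ∈ T then
    ∑ z : Fˣ, ((z⁻¹ : Fˣ) : F) ^ s * φ0 ⟨ρ (hTor hS z) t, hTρ _ t ht⟩ else 0
  have hφadd : ∀ t ∈ T, ∀ u ∈ T, φ (t + u) = φ t + φ u := by
    intro t ht u hu
    simp only [φ, dif_pos ht, dif_pos hu, dif_pos (T.add_mem ht hu), ← Finset.sum_add_distrib, ← mul_add,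
      ← map_add]
    refine Finset.sum_congr rfl fun z _ => congrArg (_ * ·) (congrArg φ0 (Subtype.ext ?_))
    exact map_add _ _ _
  have hφh : ∀ t ∈ T, ∀ y : Fˣ, φ (ρ (hTor hS y) t) = (y : F) ^ s * φ t := by
    intro t ht y
    simp only [φ, dif_pos ht, dif_pos (hTρ _ t ht), Finset.mul_sum]
    refine Fintype.sum_equiv (Equiv.mulRight y) _ _ fun z => ?_
    simp only [Equiv.coe_mulRight, ← aend_mul hS, hTor_mul]
    rw [← mul_assoc, ← mul_pow]
    congr 2
    rw [← Units.val_mul, _root_.mul_inv_rev, mul_inv_cancel_left]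
  have hodd : ((Fintype.card Fˣ : ℕ) : F) = 1 := by
    rw [Fintype.card_units]
    obtain ⟨d, hd⟩ : Odd (Fintype.card F - 1) := Nat.not_even_iff_odd.1 fun e => card_units_odd hS e.two_dvd
    rw [hd, Nat.cast_add, Nat.cast_mul, Nat.cast_ofNat, two hS, zero_mul, zero_add, Nat.cast_one]
  have hπh : ∀ (z : Fˣ) x, π (ρ (hTor hS z) x) 0 = (z : F) ^ s * π x 0 := fun z x => by
    rw [hπ, tw_hTor hS]; rfl
  have hφδ : ∀ x, φ (x + x) = π x 0 := by
    intro x
    simp only [φ, dif_pos ((hmemT _).2 (h4 x))]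
    have hterm : ∀ z : Fˣ, φ0 ⟨ρ (hTor hS z) (x + x), hTρ _ _ ((hmemT _).2 (h4 x))⟩ = (z : F) ^ s * π x 0 := by
      intro z
      rw [← hπh]
      refine Eq.trans (congrArg φ0 (Subtype.ext ?_)) (hφ0 (ρ (hTor hS z) x))
      exact map_add _ _ _
    simp only [hterm, ← mul_assoc, ← mul_pow, ← Units.val_mul, inv_mul_cancel, Units.val_one, one_pow, one_mul,
      Finset.sum_const, Finset.card_univ]
    rw [← Nat.cast_smul_eq_nsmul F, hodd, one_smul]
  obtain ⟨a0, ha0⟩ : ∃ a0 : A → F, ∑ x, a0 x • π x = Pi.single 3 1 :=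
    Submodule.mem_span_range_iff_exists_fun F |>.1 (last_mem_span hS c ρ π hπ hne)
  let E : (A → F) → F := fun f => ∑ z : Fˣ, (z : F) ^ s * ∑ x, a0 x * f (ρ (hTor hS z) x)
  have hEh : ∀ (f : A → F) (y : Fˣ), E (fun x => f (ρ (hTor hS y) x)) = ((y⁻¹ : Fˣ) : F) ^ s * E f := by
    intro f y
    simp only [E, Finset.mul_sum]
    refine Fintype.sum_equiv (Equiv.mulLeft y) _ _ fun z => ?_
    refine Finset.sum_congr rfl fun x _ => ?_
    simp only [Equiv.coe_mulLeft, ← aend_mul hS, hTor_mul, Units.val_mul, mul_pow]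
    rw [← mul_assoc (((y⁻¹ : Fˣ) : F) ^ s), ← mul_assoc (((y⁻¹ : Fˣ) : F) ^ s), ← mul_pow, ← Units.val_mul,
      inv_mul_cancel, Units.val_one, one_pow, one_mul]
  have hEπ : ∀ M : Matrix (Fin 4) (Fin 4) F, E (fun x => (M *ᵥ π x) 0) = M 0 3 := by
    intro M
    have hinner : ∀ z : Fˣ, ∑ x, a0 x * (M *ᵥ π (ρ (hTor hS z) x)) 0 = ((z⁻¹ : Fˣ) : F) ^ s * M 0 3 := by
      intro z
      have h1 : ∑ x, a0 x * (M *ᵥ π (ρ (hTor hS z) x)) 0 = (M *ᵥ (tw c (hTor hS z) *ᵥ ∑ x, a0 x • π x)) 0 := by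
        simp only [Matrix.mulVec_sum, Matrix.mulVec_smul, Finset.sum_apply, Pi.smul_apply, smul_eq_mul, hπ]
      have h3 : tw c (hTor hS z) *ᵥ Pi.single 3 1 = ((z⁻¹ : Fˣ) : F) ^ s • (Pi.single 3 1 : Fin 4 → F) := by
        funext j
        rw [tw_hTor hS]
        fin_cases j <;> simp [wt, hs]
      rw [h1, ha0, h3, Matrix.mulVec_smul, Pi.smul_apply, smul_eq_mul, Matrix.mulVec_single_one]
      rfl
    simp only [E, hinner, ← mul_assoc, ← mul_pow, ← Units.val_mul, mul_inv_cancel, Units.val_one, one_pow,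
      one_mul, Finset.sum_const, Finset.card_univ]
    rw [← Nat.cast_smul_eq_nsmul F, hodd, one_smul]
  let e : F → A → A := fun b x => ρ (uS hS 0 b) x - x
  let Q : F → F → A → A := fun b b' x => e b (e b' x)
  have hQT : ∀ b b' x, Q b b' x ∈ T := by
    intro b b' x
    rw [hmemT, ← hker]
    simp only [Q, e, map_sub, hπ]
    funext j
    fin_cases j <;>
      simp [tw, mat_uS hS, tMat, fo, th_zero, Matrix.mulVec, Matrix.mul_apply, dotProduct, Fin.sum_univ_four,
        zero_pow (pow_ne_zero c two_ne_zero)] <;> ring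
  let g : F → F → F := fun b b' => E (fun x => φ (Q b b' x))
  have hsymm : ∀ b b', g b b' = g b' b := by
    intro b b'
    simp only [g]
    refine congrArg E (funext fun x => congrArg φ ?_)
    simp only [Q, e, map_sub, ← aend_mul hS, uS_mul, th_zero, mul_zero, add_zero, add_comm b b']
    abel
  have hone : g 1 1 = 1 := by
    simp only [g]
    have h1 : ∀ x, φ (Q 1 1 x) = ((tw c (uS hS (0 : F) 1) - 1) *ᵥ π x) 0 := by
      intro x
      have h2 : Q 1 1 x = e 1 x + e 1 x := by
        simp only [Q, e, map_sub, ← aend_mul hS, uS_mul, th_zero, mul_zero, add_zero]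
        rw [show (1 : F) + 1 = 0 by linear_combination two hS, uS_zero, map_one]
        have := h4 (x - ρ (uS hS 0 1) x)
        show x - ρ (uS hS 0 1) x - (ρ (uS hS 0 1) x - x) = ρ (uS hS 0 1) x - x + (ρ (uS hS 0 1) x - x)
        rw [← sub_eq_zero, ← this]
        abel
      rw [h2, hφδ, map_sub, hπ, Matrix.sub_mulVec, Matrix.one_mulVec]
    simp only [h1]
    rw [hEπ]
    simp [tw, mat_uS hS, tMat, fo, th_zero, th_one, zero_pow (pow_ne_zero c two_ne_zero)]
  have hscale : ∀ (y : Fˣ) b b', g (th m (y : F) * b) (th m (y : F) * b') = (y : F) ^ (2 * s) * g b b' := by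
    intro y b b'
    have hcomm : ∀ x, Q (th m (y : F) * b) (th m (y : F) * b') (ρ (hTor hS y) x) = ρ (hTor hS y) (Q b b' x) := by
      intro x
      have h1 : ∀ d x, e (th m (y : F) * d) (ρ (hTor hS y) x) = ρ (hTor hS y) (e d x) := by
        intro d x
        simp only [e, map_sub, ← aend_mul hS, hTor_uS, mul_zero]
      simp only [Q, h1]
    have h2 : E (fun x => φ (Q (th m (y : F) * b) (th m (y : F) * b') (ρ (hTor hS y) x))) =
        (y : F) ^ s * g b b' := by
      simp only [hcomm, hφh _ (hQT _ _ _), g, E, Finset.mul_sum]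
      refine Finset.sum_congr rfl fun z _ => Finset.sum_congr rfl fun x _ => ?_
      ring
    rw [hEh (fun x => φ (Q (th m (y : F) * b) (th m (y : F) * b') x)) y] at h2
    calc g (th m (y : F) * b) (th m (y : F) * b')
        = (y : F) ^ s * (((y⁻¹ : Fˣ) : F) ^ s * g (th m (y : F) * b) (th m (y : F) * b')) := by
          rw [← mul_assoc, ← mul_pow, ← Units.val_mul, mul_inv_cancel, Units.val_one, one_pow, one_mul]
      _ = _ := by
          simp only [g] at h2 ⊢
          rw [h2]; ring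
  have hsum : ∑ z : Fˣ, ((z⁻¹ : Fˣ) : F) ^ s * g 1 (th m (z : F)) = 0 := by
    have h1 : ∀ z : Fˣ, ((z⁻¹ : Fˣ) : F) ^ s * g 1 (th m (z : F)) =
        E (fun x => φ (Q 1 (th m (z : F)) (ρ (hTor hS z) x))) := fun z => by
      rw [hEh (fun x => φ (Q 1 (th m (z : F)) x)) z]
    simp only [h1]
    have h2 : ∀ x, ∑ z : Fˣ, φ (Q 1 (th m (z : F)) (ρ (hTor hS z) x)) = 0 := by
      intro x
      have h3 : ∀ S : Finset Fˣ, ∑ z ∈ S, φ (Q 1 (th m (z : F)) (ρ (hTor hS z) x)) =
          φ (∑ z ∈ S, Q 1 (th m (z : F)) (ρ (hTor hS z) x)) := by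
        intro S
        induction S using Finset.induction with
        | empty =>
          simp only [Finset.sum_empty]
          have := hφadd 0 T.zero_mem 0 T.zero_mem
          rw [add_zero] at this
          exact (left_eq_add.1 this).symm
        | insert z S hz ih =>
          rw [Finset.sum_insert hz, Finset.sum_insert hz, ih,
            hφadd _ (hQT _ _ _) _ (T.sum_mem fun _ _ => hQT _ _ _)]
      rw [h3]
      have h5 : ∀ z : Fˣ, e (th m (z : F)) (ρ (hTor hS z) x) = ρ (hTor hS z) (e 1 x) := fun z => by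
        simp only [e, map_sub, ← aend_mul hS, hTor_uS, mul_zero, mul_one]
      have h6 : ∑ z : Fˣ, Q 1 (th m (z : F)) (ρ (hTor hS z) x) = 0 := by
        simp only [Q, h5]
        show ∑ z : Fˣ, (ρ (uS hS 0 1) (ρ (hTor hS z) (e 1 x)) - ρ (hTor hS z) (e 1 x)) = 0
        rw [Finset.sum_sub_distrib, ← map_sum, hf, map_zero, sub_zero]
      rw [h6]
      have := hφadd 0 T.zero_mem 0 T.zero_mem
      rw [add_zero] at this
      exact left_eq_add.1 this
    simp only [E]
    rw [Finset.sum_comm]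
    refine Finset.sum_eq_zero fun w _ => ?_
    rw [← Finset.mul_sum, Finset.sum_comm]
    refine mul_eq_zero_of_right _ (Finset.sum_eq_zero fun x _ => ?_)
    rw [← Finset.mul_sum, h2, mul_zero]
  rw [← Finset.add_sum_erase _ _ (Finset.mem_univ (1 : Fˣ))] at hsum
  simp only [inv_one, Units.val_one, one_pow, one_mul, th_one, hone] at hsum
  have hpair : ∑ z ∈ (Finset.univ : Finset Fˣ).erase 1, ((z⁻¹ : Fˣ) : F) ^ s * g 1 (th m (z : F)) = 0 := by
    refine Finset.sum_involution (fun z _ => z⁻¹) (fun z _ => ?_) (fun z hz _ e => ?_) (fun z hz => ?_)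
      (fun z _ => inv_inv z)
    · have h2 := hscale z 1 (th m ((z⁻¹ : Fˣ) : F))
      rw [mul_one, ← th_mul, ← Units.val_mul, mul_inv_cancel, Units.val_one, th_one, hsymm] at h2
      rw [h2, inv_inv, ← mul_assoc, two_mul, pow_add, ← mul_assoc, ← mul_pow ((z⁻¹ : Fˣ) : F), ← Units.val_mul,
        inv_mul_cancel, Units.val_one, one_pow, one_mul]
      linear_combination ((z : F) ^ s * g 1 (th m ((z⁻¹ : Fˣ) : F))) * two hS
    · have hz2 : z * z = 1 := by nth_rewrite 2 [← e]; exact mul_inv_cancel z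
      refine Finset.ne_of_mem_erase hz (Units.ext (pow_two_inj hS 1 ?_))
      rw [pow_one, Units.val_one, one_pow, sq, ← Units.val_mul, hz2, Units.val_one]
    · exact Finset.mem_erase.2 ⟨fun e => Finset.ne_of_mem_erase hz (inv_eq_one.1 e), Finset.mem_univ _⟩
  rw [hpair, add_zero] at hsum
  exact one_ne_zero hsum

/-- An abelian group of exponent two without proper invariant subgroups embeds in a twist. -/
theorem exists_embedding {V : Type*} [AddCommGroup V] [Finite V] [Nontrivial V] (h2 : ∀ v : V, v + v = 0)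
    {ρ : ↥(Cfsg.Sz F m) →* AddMonoid.End V} (hf : AFpf hS ρ)
    (hirr : ∀ W : AddSubgroup V, (∀ g, ∀ w ∈ W, ρ g w ∈ W) → W = ⊥ ∨ W = ⊤) :
    ∃ c < 2 * m + 1, ∃ j : V →+ (Fin 4 → F), Function.Injective j ∧ ∀ g v, j (ρ g v) = tw c g *ᵥ j v := by
  haveI := charP hS
  haveI : Fact (Nat.Prime 2) := ⟨Nat.prime_two⟩
  letI : Algebra (ZMod 2) F := ZMod.algebra F 2
  letI : Module (ZMod 2) V := AddCommGroup.zmodModule fun v => by rw [two_nsmul]; exact h2 v
  haveI : Finite (F ⊗[ZMod 2] V) := Module.finite_of_finite F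
  let σ : ↥(Cfsg.Sz F m) →* Module.End F (F ⊗[ZMod 2] V) :=
    { toFun := fun g => ((ρ g : V →+ V).toZModLinearMap 2).baseChange F
      map_one' := TensorProduct.AlgebraTensorModule.ext fun a v => by simp only [map_one, LinearMap.baseChange_tmul]; rfl
      map_mul' := fun g l => TensorProduct.AlgebraTensorModule.ext fun a v => by
        simp only [map_mul, Module.End.mul_apply, LinearMap.baseChange_tmul]; rfl }
  have hσ : ∀ g a v, σ g (a ⊗ₜ[ZMod 2] v) = a ⊗ₜ[ZMod 2] (ρ g v) := fun g a v => rfl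
  have hσf : Fpf hS σ := by
    refine ⟨fun x => ?_, fun f h5 x => ?_⟩ <;> induction x using TensorProduct.induction_on with
    | zero => simp
    | tmul a v => simp only [hσ, ← TensorProduct.tmul_sum]; first
        | rw [hf.tor, TensorProduct.tmul_zero]
        | rw [hf.five f h5, TensorProduct.tmul_zero]
    | add x y hx hy => simp only [map_add, Finset.sum_add_distrib, hx, hy, add_zero]
  obtain ⟨v0, hv0⟩ := exists_ne (0 : V)
  have hne : (1 : F) ⊗ₜ[ZMod 2] v0 ≠ 0 := by
    intro e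
    obtain ⟨f, hfv⟩ : ∃ f : V →ₗ[ZMod 2] ZMod 2, f v0 ≠ 0 := by
      by_contra hc
      push Not at hc
      exact hv0 ((Module.forall_dual_apply_eq_zero_iff (ZMod 2) v0).1 hc)
    have h1 := congrArg (LinearMap.liftBaseChange F ((Algebra.linearMap (ZMod 2) F).comp f)) e
    rw [LinearMap.liftBaseChange_tmul, one_smul, map_zero] at h1
    exact hfv ((map_eq_zero_iff _ (algebraMap (ZMod 2) F).injective).1 h1)
  haveI : Finite (Submodule F (F ⊗[ZMod 2] V)) :=
    Finite.of_injective (fun W : Submodule F (F ⊗[ZMod 2] V) => (W : Set (F ⊗[ZMod 2] V))) SetLike.coe_injective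
  let S : Set (Submodule F (F ⊗[ZMod 2] V)) := {W | (∀ g, ∀ w ∈ W, σ g w ∈ W) ∧ W ≠ ⊤}
  obtain ⟨W, ⟨hW, hWt⟩, hWmax⟩ := (Set.toFinite S).exists_maximal
    ⟨⊥, fun g w hw => by rw [Submodule.mem_bot] at hw ⊢; rw [hw, map_zero],
      fun e => hne ((Submodule.mem_bot F).1 (e ▸ Submodule.mem_top))⟩
  haveI : Finite ((F ⊗[ZMod 2] V) ⧸ W) := Finite.of_surjective _ W.mkQ_surjective
  have hirr' : Irr (quotRep σ W hW) := by
    refine ⟨?_, fun U hU => ?_⟩
    · obtain ⟨x, hx⟩ : ∃ x, x ∉ W := by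
        by_contra hc
        push Not at hc
        exact hWt (eq_top_iff.2 fun x _ => hc x)
      exact ⟨W.mkQ x, fun e => hx ((Submodule.Quotient.mk_eq_zero W).1 e)⟩
    · have hle : W ≤ U.comap W.mkQ := fun w hw => by
        show W.mkQ w ∈ U
        rw [Submodule.mkQ_apply, (Submodule.Quotient.mk_eq_zero W).2 hw]
        exact U.zero_mem
      by_cases hU' : U.comap W.mkQ = ⊤
      · right
        rw [← Submodule.map_comap_eq_of_surjective W.mkQ_surjective U, hU', Submodule.map_top, W.range_mkQ]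
      · left
        have := hWmax (y := U.comap W.mkQ) ⟨fun g w hw => hU g _ hw, hU'⟩ hle
        rw [← Submodule.map_comap_eq_of_surjective W.mkQ_surjective U, eq_bot_iff, Submodule.map_le_iff_le_comap,
          Submodule.comap_bot, W.ker_mkQ]
        exact this
  obtain ⟨c, hc, e, he⟩ := exists_twist hS (quotRep_fpf hS hσf W hW) hirr'
  let j : V →+ (Fin 4 → F) := AddMonoidHom.mk' (fun v => e (W.mkQ ((1 : F) ⊗ₜ[ZMod 2] v))) fun v w => by
    rw [TensorProduct.tmul_add, map_add, map_add]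
  have hje : ∀ g v, j (ρ g v) = tw c g *ᵥ j v := fun g v => by
    show e (W.mkQ ((1 : F) ⊗ₜ[ZMod 2] ρ g v)) = _
    rw [← hσ]
    exact he g (W.mkQ ((1 : F) ⊗ₜ[ZMod 2] v))
  refine ⟨c, hc, j, ?_, hje⟩
  rcases hirr j.ker (fun g w hw => by
    rw [AddMonoidHom.mem_ker] at hw ⊢; rw [hje, hw, Matrix.mulVec_zero]) with h | h
  · exact (AddMonoidHom.ker_eq_bot_iff j).1 h
  · exfalso
    refine hWt (eq_top_iff.2 fun x _ => ?_)
    induction x using TensorProduct.induction_on with
    | zero => exact W.zero_mem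
    | tmul a v =>
      rw [show a ⊗ₜ[ZMod 2] v = a • ((1 : F) ⊗ₜ[ZMod 2] v) by rw [TensorProduct.smul_tmul', smul_eq_mul, mul_one]]
      refine W.smul_mem a ((Submodule.Quotient.mk_eq_zero W).1 (e.injective ?_))
      rw [map_zero]
      exact AddMonoidHom.mem_ker.1 (h ▸ AddSubgroup.mem_top v)
    | add x y hx hy => exact W.add_mem (hx trivial) (hy trivial)

/-- Invariant biadditive maps into a twist vanish. -/
theorem biadd_zero {W : Type*} [AddCommGroup W] [Finite W] (h2 : ∀ w : W, w + w = 0)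
    {ρ : ↥(Cfsg.Sz F m) →* AddMonoid.End W} (hf : AFpf hS ρ) {c : ℕ} (hc : c < 2 * m + 1)
    (β : W →+ W →+ (Fin 4 → F)) (hβ : ∀ g x y, β (ρ g x) (ρ g y) = tw c g *ᵥ β x y) : β = 0 := by
  haveI := charP hS
  haveI : Fact (Nat.Prime 2) := ⟨Nat.prime_two⟩
  letI : Algebra (ZMod 2) F := ZMod.algebra F 2
  letI : Module (ZMod 2) W := AddCommGroup.zmodModule fun v => by rw [two_nsmul]; exact h2 v
  haveI : Finite (F ⊗[ZMod 2] W) := Module.finite_of_finite F
  let σ : ↥(Cfsg.Sz F m) →* Module.End F (F ⊗[ZMod 2] W) :=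
    { toFun := fun g => ((ρ g : W →+ W).toZModLinearMap 2).baseChange F
      map_one' := TensorProduct.AlgebraTensorModule.ext fun a v => by simp only [map_one, LinearMap.baseChange_tmul]; rfl
      map_mul' := fun g l => TensorProduct.AlgebraTensorModule.ext fun a v => by
        simp only [map_mul, Module.End.mul_apply, LinearMap.baseChange_tmul]; rfl }
  have hσ : ∀ g a v, σ g (a ⊗ₜ[ZMod 2] v) = a ⊗ₜ[ZMod 2] (ρ g v) := fun g a v => rfl
  have hσf : Fpf hS σ := by
    refine ⟨fun x => ?_, fun f h5 x => ?_⟩ <;> induction x using TensorProduct.induction_on with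
    | zero => simp
    | tmul a v => simp only [hσ, ← TensorProduct.tmul_sum]; first
        | rw [hf.tor, TensorProduct.tmul_zero]
        | rw [hf.five f h5, TensorProduct.tmul_zero]
    | add x y hx hy => simp only [map_add, Finset.sum_add_distrib, hx, hy, add_zero]
  let τ := twRep hS c
  have hτf : Fpf hS τ := twist_fpf hS c
  let β1 : W →ₗ[ZMod 2] (F ⊗[ZMod 2] W →ₗ[F] (Fin 4 → F)) :=
    (AddMonoidHom.mk' (fun w => LinearMap.liftBaseChange F ((β w).toZModLinearMap 2)) fun w w' =>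
      TensorProduct.AlgebraTensorModule.ext fun a v => by simp [smul_add]).toZModLinearMap 2
  let βF := LinearMap.liftBaseChange F β1
  have hF : ∀ g x y, βF (σ g x) (σ g y) = τ g (βF x y) := by
    intro g x y
    induction x using TensorProduct.induction_on with
    | zero => simp
    | tmul a v =>
      induction y using TensorProduct.induction_on with
      | zero => simp
      | tmul b u =>
        simp only [hσ, βF, LinearMap.liftBaseChange_tmul, LinearMap.smul_apply, β1,
          AddMonoidHom.coe_toZModLinearMap, AddMonoidHom.mk'_apply, map_smul, hβ]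
        rfl
      | add y z hy hz => simp only [map_add, hy, hz]
    | add x z hx hz => simp only [map_add, LinearMap.add_apply, hx, hz]
  have h0 := bilin_zero hS _ hσf hσf hτf le_rfl βF hF
  refine AddMonoidHom.ext fun x => AddMonoidHom.ext fun y => ?_
  have := LinearMap.congr_fun (LinearMap.congr_fun h0 ((1 : F) ⊗ₜ[ZMod 2] x)) ((1 : F) ⊗ₜ[ZMod 2] y)
  simpa [βF, β1] using this

end Cfsg.Agent.CNStruct
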