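import Cfsg.Agent.Lib.Grp.CNStruct.SzTwist

/-!
Irreducible modules of a Suzuki group over its field in which the torus and the elements of order five have
no fixed points are Frobenius twists of the natural module.
-/

set_option autoImplicit false
set_option linter.style.haveILetI false
set_option linter.unusedSectionVars false

namespace Cfsg.Agent.CNStruct

open Matrix Cfsg.Agent.Suz
open scoped Classical

variable {F : Type} [Field F] [Fintype F] {m : ℕ} (hS : SzField F m)

/-- The torus and the elements of order five have no fixed points. -/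
structure Fpf {V : Type*} [AddCommGroup V] [Module F V] (ρ : ↥(Cfsg.Sz F m) →* Module.End F V) : Prop where
  tor : ∀ v : V, ∑ z : Fˣ, ρ (hTor hS z) v = 0
  five : ∀ f : ↥(Cfsg.Sz F m), orderOf f = 5 → ∀ v : V, ∑ j ∈ Finset.range 5, ρ (f ^ j) v = 0

/-- A nonzero module without proper invariant subspaces. -/
def Irr {V : Type*} [AddCommGroup V] [Module F V] (ρ : ↥(Cfsg.Sz F m) →* Module.End F V) : Prop :=
  (∃ v : V, v ≠ 0) ∧ ∀ W : Submodule F V, (∀ g, ∀ w ∈ W, ρ g w ∈ W) → W = ⊥ ∨ W = ⊤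

/-- A vector fixed by the Sylow 2-subgroup, of weight `k`, killed by the Hecke operator. -/
structure Lead {V : Type*} [AddCommGroup V] [Module F V] (ρ : ↥(Cfsg.Sz F m) →* Module.End F V) (k : ℕ)
    (v : V) : Prop where
  fix : ∀ a b, ρ (uS hS a b) v = v
  wt : ∀ z : Fˣ, ρ (hTor hS z) v = (z : F) ^ k • v
  hecke : ∑ p : F × F, ρ (uS hS p.1 p.2 * wS hS) v = 0

include hS

theorem rep_mul {V : Type*} [AddCommGroup V] [Module F V] (ρ : ↥(Cfsg.Sz F m) →* Module.End F V)
    (g k : ↥(Cfsg.Sz F m)) (v : V) : ρ (g * k) v = ρ g (ρ k v) := by rw [map_mul]; rfl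

/-- The opposite unipotent elements. -/
noncomputable def lw (a b : F) : ↥(Cfsg.Sz F m) := wS hS * uS hS a b * wS hS

theorem lw_mul (a b c d : F) : lw hS a b * lw hS c d = lw hS (a + c) (b + d + th m a * c) := by
  unfold lw
  calc wS hS * uS hS a b * wS hS * (wS hS * uS hS c d * wS hS)
      = wS hS * uS hS a b * (wS hS * wS hS) * uS hS c d * wS hS := by group
    _ = wS hS * (uS hS a b * uS hS c d) * wS hS := by rw [wS_sq, mul_one]; group
    _ = _ := by rw [uS_mul]

theorem lw_zero : lw hS 0 0 = 1 := by rw [lw, uS_zero, mul_one, wS_sq]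

theorem lw_not_borel {a b : F} (h : ¬ (a = 0 ∧ b = 0)) : lw hS a b ∉ borel m F := by
  intro hb
  have h' : lw hS a b • suzukiPointInfinity F = suzukiPointInfinity F := hb
  rw [lw, mul_smul, mul_smul, wS_inf, uS_pt_zero, ← wS_zero hS] at h'
  have := pt_injective (MulAction.injective (wS hS) h')
  simp at this
  exact h this

theorem exists_bruhat {a b : F} (h : ¬ (a = 0 ∧ b = 0)) :
    ∃ a1 b1 a2 b2 z, lw hS a b = uS hS a1 b1 * wS hS * (uS hS a2 b2 * hTor hS z) := by
  obtain ⟨a1, b1, k, hk, e⟩ := big_cell hS (lw_not_borel hS h)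
  obtain ⟨a2, b2, z, rfl⟩ := borel_eq hS hk
  exact ⟨a1, b1, a2, b2, z, e⟩

theorem uS_wS {a b a1 b1 a2 b2 : F} {z : Fˣ}
    (h : lw hS a b = uS hS a1 b1 * wS hS * (uS hS a2 b2 * hTor hS z)) :
    uS hS a b * wS hS = lw hS a1 b1 * (uS hS a2 b2 * hTor hS z) := by
  calc uS hS a b * wS hS = (wS hS * wS hS) * uS hS a b * wS hS := by rw [wS_sq, one_mul]
    _ = wS hS * lw hS a b := by unfold lw; group
    _ = _ := by rw [h]; unfold lw; group

theorem hTor_lw (z : Fˣ) (a b : F) :
    hTor hS z * lw hS a b = lw hS (par m ((z⁻¹ : Fˣ) : F) * a) (th m ((z⁻¹ : Fˣ) : F) * b) * hTor hS z := by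
  have e1 : hTor hS z * wS hS = wS hS * hTor hS z⁻¹ := by rw [wS_hTor, inv_inv]
  calc hTor hS z * lw hS a b = (hTor hS z * wS hS) * uS hS a b * wS hS := by unfold lw; group
    _ = wS hS * (hTor hS z⁻¹ * uS hS a b) * wS hS := by rw [e1]; group
    _ = wS hS * uS hS (par m ((z⁻¹ : Fˣ) : F) * a) (th m ((z⁻¹ : Fˣ) : F) * b) * (hTor hS z⁻¹ * wS hS) := by
        rw [hTor_uS]; group
    _ = _ := by
        rw [show hTor hS z⁻¹ * wS hS = wS hS * hTor hS z by rw [wS_hTor]]
        unfold lw; group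

section Span

variable {V : Type*} [AddCommGroup V] [Module F V] {ρ : ↥(Cfsg.Sz F m) →* Module.End F V} {k : ℕ} {v : V}

/-- The span of the translates of a vector by the opposite unipotent elements. -/
noncomputable def lspan (ρ : ↥(Cfsg.Sz F m) →* Module.End F V) (v : V) : Submodule F V :=
  Submodule.span F (Set.range fun p : F × F => ρ (lw hS p.1 p.2) v)

theorem lw_mem (ρ : ↥(Cfsg.Sz F m) →* Module.End F V) (v : V) (a b : F) : ρ (lw hS a b) v ∈ lspan hS ρ v :=
  Submodule.subset_span ⟨(a, b), rfl⟩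

theorem self_mem (ρ : ↥(Cfsg.Sz F m) →* Module.End F V) (v : V) : v ∈ lspan hS ρ v := by
  have h := lw_mem hS ρ v 0 0
  rwa [lw_zero, map_one] at h

theorem borel_apply (h : Lead hS ρ k v) (a b : F) (z : Fˣ) :
    ρ (uS hS a b * hTor hS z) v = (z : F) ^ k • v := by
  rw [rep_mul hS, h.wt, map_smul, h.fix]

theorem uS_w_mem (h : Lead hS ρ k v) {a b : F} (hab : ¬ (a = 0 ∧ b = 0)) :
    ρ (uS hS a b * wS hS) v ∈ lspan hS ρ v := by
  obtain ⟨a1, b1, a2, b2, z, e⟩ := exists_bruhat hS hab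
  rw [uS_wS hS e, rep_mul hS, borel_apply hS h, map_smul]
  exact Submodule.smul_mem _ _ (lw_mem hS ρ v a1 b1)

theorem w_mem (h : Lead hS ρ k v) : ρ (wS hS) v ∈ lspan hS ρ v := by
  classical
  have h1 := h.hecke
  rw [← Finset.add_sum_erase _ _ (Finset.mem_univ ((0 : F), (0 : F))), uS_zero, one_mul,
    add_eq_zero_iff_eq_neg] at h1
  rw [h1]
  refine Submodule.neg_mem _ (Submodule.sum_mem _ fun p hp => uS_w_mem hS h fun e => ?_)
  exact Finset.ne_of_mem_erase hp (Prod.ext e.1 e.2)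

theorem lspan_invariant (h : Lead hS ρ k v) : ∀ g, ∀ x ∈ lspan hS ρ v, ρ g x ∈ lspan hS ρ v := by
  classical
  have gen : ∀ g, (∀ a b, ρ g (ρ (lw hS a b) v) ∈ lspan hS ρ v) → ∀ x ∈ lspan hS ρ v, ρ g x ∈ lspan hS ρ v := by
    intro g hg x hx
    have h1 : lspan hS ρ v ≤ (lspan hS ρ v).comap (ρ g) :=
      Submodule.span_le.2 (by rintro _ ⟨p, rfl⟩; exact hg p.1 p.2)
    exact h1 hx
  have hlw : ∀ c d, ∀ x ∈ lspan hS ρ v, ρ (lw hS c d) x ∈ lspan hS ρ v := fun c d => gen _ fun a b => by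
    rw [← rep_mul hS, lw_mul]; exact lw_mem hS ρ v _ _
  have hh : ∀ z, ∀ x ∈ lspan hS ρ v, ρ (hTor hS z) x ∈ lspan hS ρ v := fun z => gen _ fun a b => by
    rw [← rep_mul hS, hTor_lw, rep_mul hS, h.wt, map_smul]
    exact Submodule.smul_mem _ _ (lw_mem hS ρ v _ _)
  have hw : ∀ x ∈ lspan hS ρ v, ρ (wS hS) x ∈ lspan hS ρ v := gen _ fun a b => by
    rw [← rep_mul hS, show wS hS * lw hS a b = uS hS a b * wS hS by
      unfold lw; rw [← mul_assoc, ← mul_assoc, wS_sq, one_mul]]
    by_cases hab : a = 0 ∧ b = 0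
    · rw [hab.1, hab.2, uS_zero, one_mul]; exact w_mem hS h
    · exact uS_w_mem hS h hab
  have hu : ∀ c d, ∀ x ∈ lspan hS ρ v, ρ (uS hS c d) x ∈ lspan hS ρ v := by
    intro c d x hx
    rw [show uS hS c d = wS hS * lw hS c d * wS hS by
      unfold lw
      rw [← mul_assoc, ← mul_assoc, wS_sq, one_mul, mul_assoc, wS_sq, mul_one], rep_mul hS, rep_mul hS]
    exact hw _ (hlw c d _ (hw x hx))
  intro g x hx
  by_cases hg : g ∈ borel m F
  · obtain ⟨a, b, z, rfl⟩ := borel_eq hS hg
    rw [rep_mul hS]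
    exact hu a b _ (hh z x hx)
  · obtain ⟨a, b, l, hl, rfl⟩ := big_cell hS hg
    obtain ⟨c, d, z, rfl⟩ := borel_eq hS hl
    rw [rep_mul hS, rep_mul hS, rep_mul hS]
    exact hu a b _ (hw _ (hu c d _ (hh z x hx)))

end Span

/-- A 2-group of linear maps fixes a nonzero vector. -/
theorem exists_fixed {G : Type*} [Group G] [Finite G] (hG : IsPGroup 2 G) {V : Type*} [AddCommGroup V]
    [Module F V] [Finite V] (π : G →* Module.End F V) (hV : ∃ v : V, v ≠ 0) :
    ∃ v : V, v ≠ 0 ∧ ∀ g, π g v = v := by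
  classical
  haveI : Fact (Nat.Prime 2) := ⟨Nat.prime_two⟩
  letI : MulAction G V := MulAction.compHom V π
  obtain ⟨v, hv⟩ := hV
  have h2 : 2 ∣ Nat.card V := by
    have hadd : v + v = 0 := by
      rw [← two_smul F v, two hS, zero_smul]
    have := addOrderOf_dvd_natCard v
    rwa [addOrderOf_eq_prime (p := 2) (by rw [two_nsmul]; exact hadd) hv] at this
  have h0 : (0 : V) ∈ MulAction.fixedPoints G V := fun g => map_zero (π g)
  obtain ⟨w, hw, hne⟩ := hG.exists_fixed_point_of_prime_dvd_card_of_fixed_point V h2 h0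
  exact ⟨w, fun e => hne e.symm, fun g => hw g⟩

/-- A nonzero vector is not in the augmentation of the span of its translates under a 2-group. -/
theorem not_mem_aug {G : Type*} [Group G] [Finite G] (hG : IsPGroup 2 G) {V : Type*} [AddCommGroup V]
    [Module F V] [Finite V] (π : G →* Module.End F V) {x : V} (hx : x ≠ 0) :
    x ∉ Submodule.span F (Set.range fun g : G => π g x - x) := by
  classical
  intro hmem
  haveI : Finite (Submodule F V) := Finite.of_injective (fun W : Submodule F V => (W : Set V)) SetLike.coe_injective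
  let S : Set (Submodule F V) := {W | (∀ g, ∀ w ∈ W, π g w ∈ W) ∧ x ∉ W}
  obtain ⟨W, ⟨hWi, hWx⟩, hWmax⟩ := (Set.toFinite S).exists_maximal
    ⟨⊥, fun g w hw => by rw [Submodule.mem_bot] at hw ⊢; rw [hw, map_zero],
      fun e => hx ((Submodule.mem_bot F).1 e)⟩
  let π' : G →* Module.End F (V ⧸ W) :=
    { toFun := fun g => W.mapQ W (π g) (hWi g)
      map_one' := by ext y; simp
      map_mul' := fun g l => by ext y; simp }
  haveI : Finite (V ⧸ W) := Finite.of_surjective _ (Submodule.Quotient.mk_surjective W)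
  obtain ⟨q, hq0, hqf⟩ := exists_fixed hS hG π' ⟨Submodule.Quotient.mk x, fun e =>
    hWx ((Submodule.Quotient.mk_eq_zero W).1 e)⟩
  obtain ⟨f, rfl⟩ := Submodule.Quotient.mk_surjective W q
  have hf : f ∉ W := fun e => hq0 ((Submodule.Quotient.mk_eq_zero W).2 e)
  have hgf : ∀ g, π g f - f ∈ W := fun g => (Submodule.Quotient.eq W).1 (hqf g)
  set W' := W ⊔ Submodule.span F {f} with hW'
  have hW'i : ∀ g, ∀ w ∈ W', π g w ∈ W' := by
    intro g w hw
    obtain ⟨a, ha, b, hb, rfl⟩ := Submodule.mem_sup.1 hw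
    obtain ⟨c, rfl⟩ := Submodule.mem_span_singleton.1 hb
    rw [map_add, map_smul, show π g f = (π g f - f) + f by abel, smul_add, ← add_assoc]
    exact Submodule.add_mem_sup (W.add_mem (hWi g a ha) (W.smul_mem _ (hgf g)))
      (Submodule.smul_mem _ _ (Submodule.mem_span_singleton_self f))
  have hxW' : x ∈ W' := by
    by_contra hne
    exact hf (hWmax ⟨hW'i, hne⟩ le_sup_left (Submodule.mem_sup_right (Submodule.mem_span_singleton_self f)))
  obtain ⟨a, ha, b, hb, hab⟩ := Submodule.mem_sup.1 hxW'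
  obtain ⟨c, rfl⟩ := Submodule.mem_span_singleton.1 hb
  have hle : Submodule.span F (Set.range fun g : G => π g x - x) ≤ W := by
    refine Submodule.span_le.2 ?_
    rintro _ ⟨g, rfl⟩
    show π g x - x ∈ W
    rw [← hab, map_add, map_smul, show π g a + c • π g f - (a + c • f) = (π g a - a) + c • (π g f - f) by
      rw [smul_sub]; abel]
    exact W.add_mem (W.sub_mem (hWi g a ha) ha) (W.smul_mem _ (hgf g))
  exact hWx (hle hmem)

theorem units_pow_card (z : Fˣ) : (z : F) ^ (Fintype.card F - 1) = 1 :=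
  FiniteField.pow_card_sub_one_eq_one _ z.ne_zero

theorem card_units_odd : ¬ 2 ∣ Fintype.card F - 1 := by
  rw [hS.card, pow_succ]
  have : 0 < 2 ^ (2 * m) := by positivity
  omega

omit hS in
theorem exists_gen : ∃ z : Fˣ, orderOf z = Fintype.card F - 1 := by
  classical
  obtain ⟨z, hz⟩ := IsCyclic.exists_ofOrder_eq_natCard (α := Fˣ)
  exact ⟨z, by rw [hz, Nat.card_units, Nat.card_eq_fintype_card]⟩

/-- The torus separates the weights. -/
theorem weight_eq {k l : ℕ} (h : ∀ z : Fˣ, (z : F) ^ k = (z : F) ^ l) : k ≡ l [MOD Fintype.card F - 1] := by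
  obtain ⟨z, hz⟩ := exists_gen (F := F)
  rw [← hz]
  exact pow_eq_pow_iff_modEq.1 (Units.ext (by simpa using h z))

section Vectors

variable {V : Type*} [AddCommGroup V] [Module F V] [Finite V] {ρ : ↥(Cfsg.Sz F m) →* Module.End F V}

theorem exists_unip_fixed (hV : ∃ v : V, v ≠ 0) : ∃ v : V, v ≠ 0 ∧ ∀ a b, ρ (uS hS a b) v = v := by
  obtain ⟨v, hv, hvf⟩ := exists_fixed hS (isPGroup_unip hS) (ρ.comp (unip hS).subtype) hV
  exact ⟨v, hv, fun a b => hvf ⟨uS hS a b, (mem_unip hS).2 ⟨a, b, rfl⟩⟩⟩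

theorem exists_weight_fixed (hV : ∃ v : V, v ≠ 0) :
    ∃ k : ℕ, ∃ v : V, v ≠ 0 ∧ (∀ a b, ρ (uS hS a b) v = v) ∧ ∀ z : Fˣ, ρ (hTor hS z) v = (z : F) ^ k • v := by
  classical
  obtain ⟨v, hv, hvf⟩ := exists_unip_fixed hS (ρ := ρ) hV
  set N := Fintype.card F - 1 with hN
  let P : ℕ → V := fun k => ∑ z : Fˣ, ((z⁻¹ : Fˣ) : F) ^ k • ρ (hTor hS z) v
  have hsum : ∑ k ∈ Finset.range N, P k = v := by
    simp only [P]
    rw [Finset.sum_comm]
    simp only [← Finset.sum_smul]
    rw [Finset.sum_eq_single 1]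
    · have h1 : (N : F) = 1 := by
        haveI := charP hS
        obtain ⟨c, hc⟩ : Odd N := Nat.not_even_iff_odd.1 fun e => card_units_odd hS e.two_dvd
        rw [hc, Nat.cast_add, Nat.cast_mul, Nat.cast_ofNat, two hS, zero_mul, zero_add, Nat.cast_one]
      rw [hTor_one, map_one]
      simp [h1]
    · intro z _ hz
      have hz' : ((z⁻¹ : Fˣ) : F) ≠ 1 := fun e => hz (inv_eq_one.1 (Units.ext e))
      rw [geom_sum_eq hz', hN, units_pow_card hS, sub_self, zero_div, zero_smul]
    · intro h; exact absurd (Finset.mem_univ _) h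
  obtain ⟨k, hk⟩ : ∃ k, P k ≠ 0 := by
    by_contra hc
    push Not at hc
    exact hv (hsum.symm.trans (Finset.sum_eq_zero fun k _ => hc k))
  refine ⟨k, P k, hk, fun a b => ?_, fun y => ?_⟩
  · simp only [P, map_sum, map_smul]
    refine Finset.sum_congr rfl fun z _ => ?_
    congr 1
    have e : uS hS a b * hTor hS z = hTor hS z * uS hS (par m ((z⁻¹ : Fˣ) : F) * a) (th m ((z⁻¹ : Fˣ) : F) * b) := by
      have h1 := hTor_uS hS z⁻¹ a b
      rw [← hTor_inv] at h1
      calc uS hS a b * hTor hS z = hTor hS z * ((hTor hS z)⁻¹ * uS hS a b) * hTor hS z := by group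
        _ = _ := by rw [h1, mul_assoc, mul_assoc, inv_mul_cancel, mul_one]
    rw [← rep_mul hS, e, rep_mul hS, hvf]
  · simp only [P, map_sum, map_smul, Finset.smul_sum, smul_smul]
    refine Fintype.sum_equiv (Equiv.mulLeft y) _ _ fun z => ?_
    rw [Equiv.coe_mulLeft, ← rep_mul hS, hTor_mul, _root_.mul_inv_rev, Units.val_mul, mul_pow,
      mul_comm (((z⁻¹ : Fˣ) : F) ^ k), ← mul_assoc, ← mul_pow, ← Units.val_mul, mul_inv_cancel, Units.val_one,
      one_pow, one_mul]

/-- The Hecke image is again fixed, of the opposite weight. -/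
theorem hecke_fixed (v : V) (a b : F) :
    ρ (uS hS a b) (∑ p : F × F, ρ (uS hS p.1 p.2 * wS hS) v) = ∑ p : F × F, ρ (uS hS p.1 p.2 * wS hS) v := by
  rw [map_sum]
  refine Fintype.sum_bijective (fun p : F × F => (a + p.1, b + p.2 + th m a * p.1)) ?_ _ _ fun p => ?_
  · refine (Finite.injective_iff_bijective).1 fun p q h => ?_
    simp only [Prod.mk.injEq, add_right_inj] at h
    refine Prod.ext h.1 ?_
    have := h.2
    rw [h.1] at this
    simpa using this
  · rw [← rep_mul hS, ← mul_assoc, uS_mul]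

theorem hecke_weight {k : ℕ} {v : V} (hwt : ∀ z : Fˣ, ρ (hTor hS z) v = (z : F) ^ k • v) (z : Fˣ) :
    ρ (hTor hS z) (∑ p : F × F, ρ (uS hS p.1 p.2 * wS hS) v) =
      ((z⁻¹ : Fˣ) : F) ^ k • ∑ p : F × F, ρ (uS hS p.1 p.2 * wS hS) v := by
  rw [map_sum, Finset.smul_sum]
  refine Fintype.sum_bijective (fun p : F × F => (par m (z : F) * p.1, th m (z : F) * p.2)) ?_ _ _ fun p => ?_
  · refine (Finite.injective_iff_bijective).1 fun p q h => ?_
    simp only [Prod.mk.injEq] at h
    have hp : par m (z : F) ≠ 0 := div_ne_zero (pow_ne_zero _ z.ne_zero) (th_ne_zero z.ne_zero)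
    exact Prod.ext (mul_left_cancel₀ hp h.1) (mul_left_cancel₀ (th_ne_zero z.ne_zero) h.2)
  · rw [← rep_mul hS, ← mul_assoc, hTor_uS, mul_assoc,
      show hTor hS z * wS hS = wS hS * hTor hS z⁻¹ by rw [wS_hTor, inv_inv], ← mul_assoc,
      rep_mul hS ρ _ (hTor hS z⁻¹), hwt, map_smul]

/-- A nonzero weight: two opposite weights cannot both occur on one vector. -/
theorem eq_zero_of_opposite {k : ℕ} {x : V} (hk : ¬ Fintype.card F - 1 ∣ k)
    (h1 : ∀ z : Fˣ, ρ (hTor hS z) x = (z : F) ^ k • x)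
    (h2 : ∀ z : Fˣ, ρ (hTor hS z) x = ((z⁻¹ : Fˣ) : F) ^ k • x) : x = 0 := by
  by_contra hx
  obtain ⟨z, hz⟩ := exists_gen (F := F)
  have e := smul_left_injective F hx ((h1 z).symm.trans (h2 z))
  have e' : z ^ k = z⁻¹ ^ k := Units.ext (by simpa using e)
  have e2 : z ^ (2 * k) = 1 := by rw [two_mul, pow_add]; nth_rewrite 1 [e']; rw [← mul_pow, inv_mul_cancel, one_pow]
  rw [← orderOf_dvd_iff_pow_eq_one, hz] at e2
  exact hk ((Nat.prime_two.coprime_iff_not_dvd.2 (card_units_odd hS)).symm.dvd_of_dvd_mul_left e2)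

/-- A fixed-point-free module has a leading vector of nonzero weight. -/
theorem exists_lead (hf : Fpf hS ρ) (hV : ∃ v : V, v ≠ 0) :
    ∃ k v, v ≠ 0 ∧ ¬ Fintype.card F - 1 ∣ k ∧ Lead hS ρ k v := by
  classical
  obtain ⟨k, v, hv, hvf, hvw⟩ := exists_weight_fixed hS (ρ := ρ) hV
  have hnd : ∀ {k : ℕ} {v : V}, v ≠ 0 → (∀ z : Fˣ, ρ (hTor hS z) v = (z : F) ^ k • v) →
      ¬ Fintype.card F - 1 ∣ k := by
    rintro k v hv hw ⟨c, rfl⟩
    apply hv
    have h1 := hf.tor v
    simp only [hw, pow_mul, units_pow_card hS, one_pow, one_smul, Finset.sum_const, Finset.card_univ] at h1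
    rw [Fintype.card_units] at h1
    obtain ⟨d, hd⟩ : Odd (Fintype.card F - 1) := Nat.not_even_iff_odd.1 fun e => card_units_odd hS e.two_dvd
    rwa [hd, add_nsmul, one_nsmul, mul_nsmul, two_nsmul, ← two_smul F, two hS, zero_smul, smul_zero, zero_add] at h1
  have hk := hnd hv hvw
  set T := ∑ p : F × F, ρ (uS hS p.1 p.2 * wS hS) v with hT
  by_cases hT0 : T = 0
  · exact ⟨k, v, hv, hk, hvf, hvw, hT0⟩
  -- the Hecke image is killed
  set T2 := ∑ p : F × F, ρ (uS hS p.1 p.2 * wS hS) T with hT2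
  have hTw := hecke_weight hS hvw
  obtain ⟨k', hk'⟩ : ∃ k', ∀ z : Fˣ, ((z⁻¹ : Fˣ) : F) ^ k = (z : F) ^ k' := by
    refine ⟨k * (Fintype.card F - 1 - 1), fun z => ?_⟩
    rw [mul_comm, pow_mul]
    congr 1
    rw [Units.val_inv_eq_inv_val]
    refine inv_eq_of_mul_eq_one_right ?_
    rw [← pow_succ', Nat.sub_add_cancel (by have := eight_le hS; omega), units_pow_card hS]
  refine ⟨k', T, hT0, hnd hT0 (fun z => by rw [← hk' z]; exact hTw z),
    ⟨fun a b => hecke_fixed hS v a b, fun z => by rw [← hk' z]; exact hTw z, ?_⟩⟩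
  obtain ⟨κ, hκ⟩ : ∃ κ : F, T2 = κ • T := by
    have hterm : ∀ q : F × F, ∃ c : F, ∑ p : F × F, ρ (uS hS p.1 p.2) (ρ (lw hS q.1 q.2) v) = c • T := by
      intro q
      by_cases hq : q.1 = 0 ∧ q.2 = 0
      · refine ⟨0, ?_⟩
        rw [hq.1, hq.2, lw_zero, map_one, zero_smul]
        simp only [Module.End.one_apply, hvf, Finset.sum_const, Finset.card_univ, Fintype.card_prod, hS.card]
        rw [pow_succ, ← Nat.cast_smul_eq_nsmul F]
        simp [two hS]
      · obtain ⟨a1, b1, a2, b2, z, e⟩ := exists_bruhat hS hq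
        refine ⟨(z : F) ^ k, ?_⟩
        have e2 : ρ (lw hS q.1 q.2) v = (z : F) ^ k • ρ (uS hS a1 b1 * wS hS) v := by
          rw [e, rep_mul hS ρ _ (uS hS a2 b2 * hTor hS z), rep_mul hS ρ (uS hS a2 b2), hvw, map_smul, hvf, map_smul]
        simp only [e2, map_smul]
        rw [← Finset.smul_sum, hT]
        congr 1
        refine Fintype.sum_bijective (fun p : F × F => (p.1 + a1, p.2 + b1 + th m p.1 * a1)) ?_ _ _ fun p => ?_
        · refine (Finite.injective_iff_bijective).1 fun p q h => ?_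
          simp only [Prod.mk.injEq, add_left_inj] at h
          refine Prod.ext h.1 ?_
          have := h.2
          rw [h.1] at this
          simpa using this
        · rw [← rep_mul hS, ← mul_assoc, uS_mul]
    choose c hc using hterm
    refine ⟨∑ q, c q, ?_⟩
    rw [hT2, Finset.sum_smul]
    simp only [← hc]
    rw [Finset.sum_comm]
    refine Finset.sum_congr rfl fun p _ => ?_
    rw [hT, map_sum]
    refine Finset.sum_congr rfl fun q _ => ?_
    rw [← rep_mul hS, ← rep_mul hS]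
    congr 2
    unfold lw
    group
  show T2 = 0
  have hT2w : ∀ z : Fˣ, ρ (hTor hS z) T2 = (z : F) ^ k • T2 := by
    intro z
    have h := hecke_weight hS (ρ := ρ) (k := k') (v := T) (fun y => by rw [← hk' y]; exact hTw y) z
    rw [← hk', inv_inv] at h
    exact h
  exact eq_zero_of_opposite hS hk hT2w fun z => by rw [hκ, map_smul, hTw z, smul_comm]

end Vectors

theorem transpose_lw (a b : F) : (mat (lw hS a b))ᵀ = mat (uS hS a (b + th m a * a)) := by
  rw [lw, mat_mul, mat_mul, mat_uS hS, mat_uS hS, mat_wS hS]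
  ext i j
  fin_cases i <;> fin_cases j <;>
    simp [tMat, wMat, suzukiForm, Matrix.mul_apply, Fin.sum_univ_four, fo, th_add hS, th_mul, th_th hS] <;>
    first
      | linear_combination -(th m a * a) * two hS
      | linear_combination -(th m a * a ^ 2) * two hS

/-- The basis vector of highest weight. -/
def top (I : Finset ℕ) : (I → Fin 4) → F := Pi.single (fun _ => 0) 1

theorem tens_mulVec_top (I : Finset ℕ) (g : ↥(Cfsg.Sz F m)) (s : I → Fin 4) :
    tensRep hS I g (top I) s = tens I g s (fun _ => 0) := by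
  rw [tensRep_apply, top, Matrix.mulVec_single_one]; rfl

theorem top_fix (I : Finset ℕ) (a b : F) : tensRep hS I (uS hS a b) (top I) = top I := by
  classical
  funext s
  rw [tens_mulVec_top]
  by_cases hs : s = fun _ => 0
  · subst hs; rw [upper_prod_one hS]; simp [top]
  · obtain ⟨i, hi⟩ := Function.ne_iff.1 hs
    rw [top, Pi.single_eq_of_ne hs, tens_apply]
    refine Finset.prod_eq_zero (Finset.mem_univ i) ?_
    rw [mat_uS]
    rcases (show s i = 1 ∨ s i = 2 ∨ s i = 3 by omega) with e | e | e <;> simp [e, tMat]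

theorem top_wt (I : Finset ℕ) (z : Fˣ) :
    tensRep hS I (hTor hS z) (top I) = (z : F) ^ (∑ i ∈ I, 2 ^ i) • top I := by
  classical
  funext s
  rw [tens_mulVec_top, Pi.smul_apply, smul_eq_mul, tens_apply, mat_hTor]
  by_cases hs : s = fun _ => 0
  · subst hs
    simp [top, dMat, ← Finset.prod_pow_eq_pow_sum, Finset.prod_attach (s := I) (f := fun i => (z : F) ^ 2 ^ i)]
  · obtain ⟨i, hi⟩ := Function.ne_iff.1 hs
    rw [top, Pi.single_eq_of_ne hs, mul_zero]
    refine Finset.prod_eq_zero (Finset.mem_univ i) ?_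
    rw [dMat, Matrix.diagonal_apply_ne _ hi, zero_pow (pow_ne_zero _ two_ne_zero)]

theorem fixed_eq_smul_top (I : Finset ℕ) (hI : ∀ i ∈ I, i < 2 * m + 1) {x : (I → Fin 4) → F}
    (hx : ∀ a b, tensRep hS I (uS hS a b) x = x) : x = x (fun _ => 0) • top I := by
  funext s
  by_cases hs : s = fun _ => 0
  · subst hs; simp [top]
  · rw [Pi.smul_apply, top, Pi.single_eq_of_ne hs, smul_zero]
    by_contra h
    exact hs (fixed_unip hS I hI hx s h)

theorem top_lead (I : Finset ℕ) (hI : ∀ i ∈ I, i < 2 * m + 1)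
    (hk : ¬ Fintype.card F - 1 ∣ ∑ i ∈ I, 2 ^ i) : Lead hS (tensRep hS I) (∑ i ∈ I, 2 ^ i) (top I) := by
  refine ⟨top_fix hS I, top_wt hS I, ?_⟩
  set T := ∑ p : F × F, tensRep hS I (uS hS p.1 p.2 * wS hS) (top I) with hT
  have h1 := fixed_eq_smul_top hS I hI (x := T) (fun a b => hecke_fixed hS _ a b)
  refine eq_zero_of_opposite hS (ρ := tensRep hS I) hk (fun z => ?_) (fun z => hecke_weight hS (top_wt hS I) z)
  rw [h1, map_smul, top_wt hS, smul_comm]

/-- The highest weight vector generates. -/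
theorem lspan_top (I : Finset ℕ) (hI : ∀ i ∈ I, i < 2 * m + 1) :
    lspan hS (tensRep hS I) (top I) = ⊤ := by
  classical
  by_contra hne
  obtain ⟨φ, hφ, hφK⟩ := Submodule.exists_dual_map_eq_bot_of_lt_top (lt_top_iff_ne_top.2 hne) inferInstance
  let y : (I → Fin 4) → F := fun s => φ (Pi.single s 1)
  have hφy : ∀ x : (I → Fin 4) → F, φ x = ∑ s, x s * y s := by
    intro x
    conv_lhs => rw [pi_eq_sum_univ' x]
    simp [map_sum, y]
  let Φ : Submodule F ((I → Fin 4) → F) :=
    { carrier := {x | ∀ a b, tensRep hS I (uS hS a b) x (fun _ => 0) = 0}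
      add_mem' := fun {x y} hx hy a b => by rw [map_add, Pi.add_apply, hx a b, hy a b, add_zero]
      zero_mem' := fun a b => by rw [map_zero, Pi.zero_apply]
      smul_mem' := fun c x hx a b => by rw [map_smul, Pi.smul_apply, hx a b, smul_zero] }
  have hy : y ∈ Φ := by
    intro a b
    have hz : φ (tensRep hS I (lw hS a (b + th m a * a)) (top I)) = 0 := by
      have h1 := Submodule.mem_map_of_mem (f := φ) (lw_mem hS (tensRep hS I) (top I) a (b + th m a * a))
      rw [show (Submodule.map φ (lspan hS (tensRep hS I) (top I))) = ⊥ from hφK] at h1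
      exact (Submodule.mem_bot F).1 h1
    rw [hφy] at hz
    rw [tensRep_apply, Matrix.mulVec, dotProduct]
    refine Eq.trans (Finset.sum_congr rfl fun s _ => ?_) hz
    rw [tens_mulVec_top]
    congr 1
    refine Finset.prod_congr rfl fun i _ => ?_
    congr 1
    have h2 := congrFun (congrFun (transpose_lw hS a (b + th m a * a)) 0) (s i)
    rw [Matrix.transpose_apply] at h2
    rw [h2, show b + th m a * a + th m a * a = b by linear_combination (th m a * a) * two hS]
  have hy0 : y ≠ 0 := fun e => hφ (LinearMap.ext fun x => by rw [hφy, e]; simp)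
  have hΦi : ∀ u : unip hS, ∀ x ∈ Φ, tensRep hS I u x ∈ Φ := by
    rintro ⟨u, hu⟩ x hx a b
    obtain ⟨c, d, rfl⟩ := (mem_unip hS).1 hu
    show tensRep hS I (uS hS a b) (tensRep hS I (uS hS c d) x) _ = 0
    rw [← rep_mul hS, uS_mul]
    exact hx _ _
  let π : unip hS →* Module.End F Φ :=
    { toFun := fun u => (tensRep hS I u).restrict (fun x hx => hΦi u x hx)
      map_one' := by ext x; simp
      map_mul' := fun u l => by ext x; simp }
  obtain ⟨x, hx0, hxf⟩ := exists_fixed hS (isPGroup_unip hS) π ⟨⟨y, hy⟩, fun e => hy0 (congrArg Subtype.val e)⟩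
  have hxfix : ∀ a b, tensRep hS I (uS hS a b) x.1 = x.1 := fun a b =>
    congrArg Subtype.val (hxf ⟨uS hS a b, (mem_unip hS).2 ⟨a, b, rfl⟩⟩)
  have h0 := x.2 0 0
  rw [hxfix] at h0
  apply hx0
  refine Subtype.ext ?_
  rw [fixed_eq_smul_top hS I hI hxfix, h0, zero_smul]
  rfl

theorem tens_irr (I : Finset ℕ) (hI : ∀ i ∈ I, i < 2 * m + 1) : Irr (tensRep hS I) := by
  refine ⟨⟨top I, fun e => by simpa [top] using congrFun e (fun _ => 0)⟩, fun W hW => ?_⟩
  by_cases hb : W = ⊥
  · exact Or.inl hb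
  refine Or.inr (top_le_iff.1 ?_)
  obtain ⟨x, hx, hx0⟩ := Submodule.exists_mem_ne_zero_of_ne_bot hb
  let π : unip hS →* Module.End F W :=
    { toFun := fun u => (tensRep hS I u).restrict (fun y hy => hW u y hy)
      map_one' := by ext y; simp
      map_mul' := fun u l => by ext y; simp }
  obtain ⟨y, hy0, hyf⟩ := exists_fixed hS (isPGroup_unip hS) π ⟨⟨x, hx⟩, fun e => hx0 (congrArg Subtype.val e)⟩
  have hyfix : ∀ a b, tensRep hS I (uS hS a b) y.1 = y.1 := fun a b =>
    congrArg Subtype.val (hyf ⟨uS hS a b, (mem_unip hS).2 ⟨a, b, rfl⟩⟩)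
  have hy1 := fixed_eq_smul_top hS I hI hyfix
  have hne : y.1 (fun _ => 0) ≠ 0 := fun e => hy0 (Subtype.ext (by rw [hy1, e, zero_smul]; rfl))
  have htop : top I ∈ W := by
    have h2 := W.smul_mem (y.1 (fun _ => 0))⁻¹ y.2
    rw [hy1] at h2
    simpa [smul_smul, inv_mul_cancel₀ hne, top] using h2
  rw [← lspan_top hS I hI]
  exact Submodule.span_le.2 (by rintro _ ⟨p, rfl⟩; exact hW _ _ htop)

/-- The leading weight determines an irreducible module. -/
theorem exists_tens_equiv {V : Type*} [AddCommGroup V] [Module F V] [Finite V]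
    {ρ : ↥(Cfsg.Sz F m) →* Module.End F V} (hf : Fpf hS ρ) (hirr : Irr ρ) :
    ∃ I : Finset ℕ, I.Nonempty ∧ (∀ i ∈ I, i < 2 * m + 1) ∧
      ∃ e : V ≃ₗ[F] ((I → Fin 4) → F), ∀ g x, e (ρ g x) = tensRep hS I g (e x) := by
  classical
  obtain ⟨k, v, hv, hk, hl⟩ := exists_lead hS hf hirr.1
  set N := Fintype.card F - 1 with hN
  have hN0 : 0 < N := by have := eight_le hS; omega
  set I : Finset ℕ := (k % N).bitIndices.toFinset with hIdef
  have hsum : ∑ i ∈ I, 2 ^ i = k % N := by
    rw [hIdef, List.sum_toFinset _ (Nat.bitIndices_nodup)]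
    exact Nat.sum_map_two_pow_bitIndices (k % N)
  have hI : ∀ i ∈ I, i < 2 * m + 1 := fun i hi => by
    by_contra hge
    have h1 : 2 ^ i ≤ k % N := hsum ▸ Finset.single_le_sum (f := fun i => 2 ^ i) (fun _ _ => Nat.zero_le _) hi
    have h2 := Nat.mod_lt k hN0
    have h3 : 2 ^ (2 * m + 1) ≤ 2 ^ i := Nat.pow_le_pow_right two_pos (not_lt.1 hge)
    rw [← hS.card] at h3
    omega
  have hne : I.Nonempty := by
    rw [Finset.nonempty_iff_ne_empty]
    intro e
    rw [e, Finset.sum_empty] at hsum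
    exact hk (Nat.dvd_of_mod_eq_zero hsum.symm)
  have hkI : ¬ N ∣ ∑ i ∈ I, 2 ^ i := by
    rw [hsum]; exact fun h => hk ((Nat.dvd_mod_iff dvd_rfl).1 h)
  have hl2 := top_lead hS I hI hkI
  let σ : ↥(Cfsg.Sz F m) →* Module.End F (V × ((I → Fin 4) → F)) :=
    { toFun := fun g => (ρ g).prodMap (tensRep hS I g)
      map_one' := by ext x <;> simp
      map_mul' := fun g l => by ext x <;> simp }
  have hσ : ∀ g x, σ g x = (ρ g x.1, tensRep hS I g x.2) := fun g x => rfl
  have hlσ : Lead hS σ k (v, top I) := by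
    refine ⟨fun a b => by rw [hσ, hl.fix, hl2.fix], fun z => ?_, ?_⟩
    · rw [hσ, hl.wt, hl2.wt, hsum, Prod.smul_mk]
      congr 2
      conv_rhs => rw [← Nat.mod_add_div k N, pow_add, pow_mul, units_pow_card hS, one_pow, mul_one]
    · simp only [hσ]
      exact Prod.ext ((Prod.fst_sum).trans hl.hecke) ((Prod.snd_sum).trans hl2.hecke)
  set M := lspan hS σ (v, top I) with hM
  have hMi := lspan_invariant hS hlσ
  have hproj1 : ∀ y, ∃ x ∈ M, x.2 = y := by
    intro y
    have : (M.map (LinearMap.snd F V ((I → Fin 4) → F))) = ⊤ := by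
      rw [hM, lspan, Submodule.map_span, ← Set.range_comp, ← lspan_top hS I hI]
      rfl
    obtain ⟨x, hx, e⟩ := this.ge (Submodule.mem_top (x := y))
    exact ⟨x, hx, e⟩
  have hker : ∀ x ∈ M, x.2 = 0 → x = 0 := by
    let K : Submodule F V := M.comap (LinearMap.inl F V ((I → Fin 4) → F))
    rcases hirr.2 K fun g w hw => by
      show (ρ g w, (0 : (I → Fin 4) → F)) ∈ M
      have := hMi g _ hw
      rwa [hσ, LinearMap.inl_apply, map_zero] at this with hK | hK
    · intro x hx h2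
      have : x.1 ∈ K := by
        show (x.1, (0 : (I → Fin 4) → F)) ∈ M
        rwa [← h2]
      rw [hK, Submodule.mem_bot] at this
      exact Prod.ext this h2
    · exfalso
      have hv0 : (v, (0 : (I → Fin 4) → F)) ∈ M := (hK.ge (Submodule.mem_top (x := v)) :)
      let W : ↥(unip hS) →* Module.End F (V × ((I → Fin 4) → F)) :=
        σ.comp ((MulAut.conj (wS hS)).toMonoidHom.comp (unip hS).subtype)
      set J := Submodule.span F (Set.range fun u : unip hS => W u (v, top I) - (v, top I)) with hJ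
      have hle : M ≤ F ∙ (v, top I) ⊔ J := by
        refine Submodule.span_le.2 ?_
        rintro _ ⟨p, rfl⟩
        have e : σ (lw hS p.1 p.2) (v, top I) = W ⟨uS hS p.1 p.2, (mem_unip hS).2 ⟨_, _, rfl⟩⟩ (v, top I) := by
          simp only [W, MonoidHom.comp_apply, Subgroup.coe_subtype, MulEquiv.coe_toMonoidHom, MulAut.conj_apply]
          rw [inv_eq_of_mul_eq_one_right (wS_sq hS)]; rfl
        show σ (lw hS p.1 p.2) (v, top I) ∈ _
        rw [e, show W _ (v, top I) = (v, top I) + (W ⟨uS hS p.1 p.2, (mem_unip hS).2 ⟨_, _, rfl⟩⟩ (v, top I) -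
          (v, top I)) by rw [add_sub_cancel]]
        exact Submodule.add_mem_sup (Submodule.mem_span_singleton_self _) (Submodule.subset_span ⟨_, rfl⟩)
      obtain ⟨x, hx, j, hj, e⟩ := Submodule.mem_sup.1 (hle hv0)
      obtain ⟨c, rfl⟩ := Submodule.mem_span_singleton.1 hx
      by_cases hc : c = 0
      · -- then the leading vector lies in its augmentation
        rw [hc, zero_smul, zero_add] at e
        let ρ' : ↥(unip hS) →* Module.End F V := ρ.comp ((MulAut.conj (wS hS)).toMonoidHom.comp (unip hS).subtype)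
        refine not_mem_aug hS (isPGroup_unip hS) ρ' hv ?_
        have h1 : J.map (LinearMap.fst F V _) ≤ Submodule.span F (Set.range fun u : unip hS => ρ' u v - v) := by
          rw [hJ, Submodule.map_span, ← Set.range_comp]; rfl
        have := h1 (Submodule.mem_map_of_mem (f := LinearMap.fst F V _) hj)
        rwa [e] at this
      · let τ : ↥(unip hS) →* Module.End F ((I → Fin 4) → F) :=
          (tensRep hS I).comp ((MulAut.conj (wS hS)).toMonoidHom.comp (unip hS).subtype)
        have htop0 : top I ≠ (0 : (I → Fin 4) → F) := fun e => by simpa [top] using congrFun e (fun _ => 0)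
        refine not_mem_aug hS (isPGroup_unip hS) τ htop0 ?_
        have h1 : J.map (LinearMap.snd F V _) ≤
            Submodule.span F (Set.range fun u : unip hS => τ u (top I) - top I) := by
          rw [hJ, Submodule.map_span, ← Set.range_comp]; rfl
        have h2 := h1 (Submodule.mem_map_of_mem (f := LinearMap.snd F V _) hj)
        have h3 := congrArg Prod.snd e
        simp only [Prod.smul_mk, Prod.snd_add] at h3
        rw [LinearMap.snd_apply, show j.2 = -(c • top I) from eq_neg_of_add_eq_zero_right h3,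
          Submodule.neg_mem_iff, Submodule.smul_mem_iff _ hc] at h2
        exact h2
  let e1 : M →ₗ[F] ((I → Fin 4) → F) := (LinearMap.snd F V _).comp M.subtype
  have he1 : Function.Bijective e1 := by
    refine ⟨(injective_iff_map_eq_zero e1).2 fun x hx => Subtype.ext (hker x.1 x.2 hx), fun y => ?_⟩
    obtain ⟨x, hx, e⟩ := hproj1 y
    exact ⟨⟨x, hx⟩, e⟩
  let f : ((I → Fin 4) → F) →ₗ[F] V :=
    ((LinearMap.fst F V _).comp M.subtype).comp (LinearEquiv.ofBijective e1 he1).symm.toLinearMap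
  have hfs : ∀ x : M, f (x : V × ((I → Fin 4) → F)).2 = (x : V × ((I → Fin 4) → F)).1 := fun x => by
    show ((LinearEquiv.ofBijective e1 he1).symm ((LinearEquiv.ofBijective e1 he1) x) : V × ((I → Fin 4) → F)).1 = _
    rw [LinearEquiv.symm_apply_apply]
  have hfe : ∀ g y, f (tensRep hS I g y) = ρ g (f y) := by
    intro g y
    obtain ⟨x, hx, rfl⟩ := hproj1 y
    rw [hfs ⟨x, hx⟩]
    exact hfs ⟨σ g x, hMi g x hx⟩
  have hfv : f (top I) = v := hfs ⟨(v, top I), self_mem hS σ _⟩
  have hfinj : Function.Injective f := by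
    rcases (tens_irr hS I hI).2 (LinearMap.ker f) (fun g y hy => by
      rw [LinearMap.mem_ker] at hy ⊢; rw [hfe, hy, map_zero]) with h | h
    · exact LinearMap.ker_eq_bot.1 h
    · exact absurd (hfv.symm.trans (LinearMap.mem_ker.1 (h.ge (Submodule.mem_top (x := top I))))) hv
  have hfsur : Function.Surjective f := by
    rcases hirr.2 (LinearMap.range f) (fun g y hy => by
      obtain ⟨x, rfl⟩ := hy; exact ⟨_, hfe g x⟩) with h | h
    · exact absurd ((Submodule.mem_bot F).1 (h ▸ ⟨top I, hfv⟩)) hv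
    · exact LinearMap.range_eq_top.1 h
  refine ⟨I, hne, hI, (LinearEquiv.ofBijective f ⟨hfinj, hfsur⟩).symm, fun g x => ?_⟩
  obtain ⟨y, rfl⟩ := hfsur x
  rw [← hfe]
  show (LinearEquiv.ofBijective f _).symm ((LinearEquiv.ofBijective f ⟨hfinj, hfsur⟩) (tensRep hS I g y)) =
    tensRep hS I g ((LinearEquiv.ofBijective f _).symm ((LinearEquiv.ofBijective f ⟨hfinj, hfsur⟩) y))
  rw [LinearEquiv.symm_apply_apply, LinearEquiv.symm_apply_apply]

end Cfsg.Agent.CNStruct
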