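import Mathlib
import Cfsg.Agent.Lib.Lie.Sz.Partition
import Cfsg.Agent.Lib.Lie.Sz.Eigen

/-!
Tensor products of Frobenius twists of the natural module of a Suzuki group: a single line is fixed by a
Sylow 2-subgroup, and this line generates the module.
-/

set_option autoImplicit false
set_option linter.style.haveILetI false
set_option linter.unusedSectionVars false

namespace Cfsg.Agent.CNStruct

open Matrix Cfsg.Agent.Suz

variable {F : Type} [Field F] [Fintype F] {m : ℕ}

variable (hS : SzField F m)
include hS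

theorem pow_two_add (i : ℕ) (x y : F) : (x + y) ^ 2 ^ i = x ^ 2 ^ i + y ^ 2 ^ i := by
  haveI := charP hS
  haveI : Fact (Nat.Prime 2) := ⟨Nat.prime_two⟩
  exact add_pow_char_pow x y 2 i

theorem pow_two_sum (i : ℕ) {ι : Type*} (s : Finset ι) (f : ι → F) :
    (∑ x ∈ s, f x) ^ 2 ^ i = ∑ x ∈ s, f x ^ 2 ^ i :=
  map_sum (AddMonoidHom.mk' (fun x : F => x ^ 2 ^ i) (pow_two_add hS i)) f s

theorem pow_two_inj (i : ℕ) {x y : F} (h : x ^ 2 ^ i = y ^ 2 ^ i) : x = y := by
  have h0 : (x + y) ^ 2 ^ i = 0 := by
    rw [pow_two_add hS, h]; linear_combination (y ^ 2 ^ i) * two hS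
  linear_combination (pow_eq_zero_iff (pow_ne_zero i two_ne_zero)).1 h0 - y * two hS

theorem pow_two_mod (i : ℕ) (x : F) : x ^ 2 ^ i = x ^ 2 ^ (i % (2 * m + 1)) := by
  conv_lhs => rw [← Nat.div_add_mod i (2 * m + 1)]
  generalize i / (2 * m + 1) = d
  generalize i % (2 * m + 1) = r
  induction d with
  | zero => rw [Nat.mul_zero, Nat.zero_add]
  | succ d ih =>
    rw [show (2 * m + 1) * (d + 1) + r = ((2 * m + 1) * d + r) + (2 * m + 1) by ring, pow_add, pow_mul,
      ← hS.card, FiniteField.pow_card, ih]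

/-- Additive monomials with different exponents are independent. -/
theorem coeff_zero {ι : Type*} (P : Finset ι) (C : ι → F) (e : ι → ℕ)
    (he : ∀ p ∈ P, e p < 2 * m + 1) (h : ∀ b : F, ∑ p ∈ P, C p * b ^ 2 ^ e p = 0) (j : ℕ) :
    ∑ p ∈ P.filter (fun p => e p = j), C p = 0 := by
  classical
  let f : Polynomial F := ∑ p ∈ P, Polynomial.C (C p) * Polynomial.X ^ 2 ^ e p
  have hf : f = 0 := by
    refine Polynomial.eq_zero_of_natDegree_lt_card_of_eval_eq_zero f Function.injective_id (fun b => ?_) ?_
    · simp only [f, Polynomial.eval_finsetSum, Polynomial.eval_mul, Polynomial.eval_C, Polynomial.eval_pow,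
        Polynomial.eval_X, id]
      exact h b
    · refine lt_of_le_of_lt (Polynomial.natDegree_sum_le_of_forall_le P
        (fun p => Polynomial.C (C p) * Polynomial.X ^ 2 ^ e p) (n := 2 ^ (2 * m)) fun p hp => ?_) ?_
      · exact (Polynomial.natDegree_C_mul_X_pow_le _ _).trans
          (Nat.pow_le_pow_right two_pos (by have := he p hp; omega))
      · rw [hS.card]; exact Nat.pow_lt_pow_right one_lt_two (by omega)
  have h1 := congrArg (fun g => Polynomial.coeff g (2 ^ j)) hf
  simp only [f, Polynomial.finsetSum_coeff, Polynomial.coeff_C_mul_X_pow, Polynomial.coeff_zero] at h1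
  rw [Finset.sum_filter]
  refine Eq.trans (Finset.sum_congr rfl fun p _ => ?_) h1
  by_cases hp : e p = j
  · rw [if_pos hp, if_pos (by rw [hp])]
  · rw [if_neg hp, if_neg fun q => hp (Nat.pow_right_injective le_rfl q).symm]

omit hS

/-- The tensor product of the twists indexed by `I`, in matrix form. -/
def tens (I : Finset ℕ) (g : ↥(Cfsg.Sz F m)) : Matrix (I → Fin 4) (I → Fin 4) F :=
  Matrix.of fun s t => ∏ i : I, mat g (s i) (t i) ^ 2 ^ (i : ℕ)

theorem tens_apply (I : Finset ℕ) (g : ↥(Cfsg.Sz F m)) (s t : I → Fin 4) :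
    tens I g s t = ∏ i : I, mat g (s i) (t i) ^ 2 ^ (i : ℕ) := rfl

theorem tens_one (I : Finset ℕ) : tens I (1 : ↥(Cfsg.Sz F m)) = 1 := by
  classical
  ext s t
  rw [tens_apply, mat_one]
  by_cases h : s = t
  · subst h; simp
  · obtain ⟨i, hi⟩ := Function.ne_iff.1 h
    rw [Matrix.one_apply_ne h]
    exact Finset.prod_eq_zero (Finset.mem_univ i) (by rw [Matrix.one_apply_ne hi, zero_pow (pow_ne_zero _ two_ne_zero)])

include hS

theorem tens_mul (I : Finset ℕ) (g k : ↥(Cfsg.Sz F m)) : tens I (g * k) = tens I g * tens I k := by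
  classical
  ext s t
  simp only [tens_apply, Matrix.mul_apply, mat_mul, pow_two_sum hS, mul_pow]
  rw [Fintype.prod_sum]
  exact Finset.sum_congr rfl fun r _ => Finset.prod_mul_distrib

/-- The tensor product of twists as a representation. -/
noncomputable def tensRep (I : Finset ℕ) : ↥(Cfsg.Sz F m) →* Module.End F ((I → Fin 4) → F) where
  toFun g := Matrix.mulVecLin (tens I g)
  map_one' := by rw [tens_one, Matrix.mulVecLin_one]; rfl
  map_mul' g k := by rw [tens_mul hS, Matrix.mulVecLin_mul]; rfl

theorem tensRep_apply (I : Finset ℕ) (g : ↥(Cfsg.Sz F m)) (x : (I → Fin 4) → F) :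
    tensRep hS I g x = tens I g *ᵥ x := rfl

omit hS

theorem mat_uS (hS : SzField F m) (a b : F) : mat (uS hS a b) = tMat m a b := rfl

/-- The weights on the coordinates. -/
theorem mat_hTor (hS : SzField F m) (z : Fˣ) : mat (hTor hS z) = dMat m (z : F) := rfl

theorem mat_wS (hS : SzField F m) : mat (wS hS) = (wMat : Matrix (Fin 4) (Fin 4) F) := rfl

include hS

theorem upper_prod_one (I : Finset ℕ) (a b : F) (s : I → Fin 4) : tens I (uS hS a b) s s = 1 :=
  Finset.prod_eq_one fun i _ => by
    rw [mat_uS]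
    rcases (show s i = 0 ∨ s i = 1 ∨ s i = 2 ∨ s i = 3 by omega) with e | e | e | e <;>
      simp [e, tMat]

theorem tens_upd (I : Finset ℕ) (a b : F) (s : I → Fin 4) (i : I) (c : Fin 4) :
    tens I (uS hS a b) s (Function.update s i c) = mat (uS hS a b) (s i) c ^ 2 ^ (i : ℕ) := by
  classical
  rw [tens_apply, Finset.prod_eq_single i]
  · rw [Function.update_self]
  · intro j _ hj
    rw [Function.update_of_ne hj, mat_uS]
    rcases (show s j = 0 ∨ s j = 1 ∨ s j = 2 ∨ s j = 3 by omega) with e | e | e | e <;>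
      simp [e, tMat]
  · intro h; exact absurd (Finset.mem_univ i) h

omit hS

/-- The number of coordinates in the top half. -/
def tops {I : Finset ℕ} (t : I → Fin 4) : ℕ := (Finset.univ.filter fun i : I => 2 ≤ (t i : ℕ)).card

/-- The sum of the coordinates. -/
def tot {I : Finset ℕ} (t : I → Fin 4) : ℕ := ∑ i : I, (t i : ℕ)

theorem tot_update {I : Finset ℕ} (t : I → Fin 4) (i : I) (c : Fin 4) :
    tot (Function.update t i c) + (t i : ℕ) = tot t + c := by
  classical
  unfold tot
  have h : (fun j : I => ((Function.update t i c j : Fin 4) : ℕ)) = Function.update (fun j => ((t j : Fin 4) : ℕ)) i (c : ℕ) := by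
    funext j
    by_cases hj : j = i
    · subst hj; simp
    · simp [Function.update_of_ne hj]
  rw [h, Finset.sum_update_of_mem (Finset.mem_univ i), ← Finset.add_sum_erase _ _ (Finset.mem_univ i),
    Finset.sdiff_singleton_eq_erase]
  omega

theorem tops_update {I : Finset ℕ} (t : I → Fin 4) (i : I) (c : Fin 4) :
    tops (Function.update t i c) + (if 2 ≤ (t i : ℕ) then 1 else 0) =
      tops t + (if 2 ≤ (c : ℕ) then 1 else 0) := by
  classical
  have key : ∀ u : I → Fin 4, tops u = ∑ j : I, (if 2 ≤ (u j : ℕ) then 1 else 0) :=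
    fun u => Finset.card_filter _ _
  rw [key, key, ← Finset.add_sum_erase _ _ (Finset.mem_univ i), ← Finset.add_sum_erase _ _ (Finset.mem_univ i),
    Function.update_self, Finset.sum_congr rfl fun j hj => by rw [Function.update_of_ne (Finset.ne_of_mem_erase hj)]]
  omega

/-- An upper triangular coordinate change keeps the count of top coordinates unless a coordinate moves. -/
theorem eq_of_tops_le {I : Finset ℕ} {s t : I → Fin 4}
    (h : ∀ i, t i = s i ∨ ((s i : ℕ) < 2 ∧ 2 ≤ (t i : ℕ))) (hle : tops t ≤ tops s + 1) :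
    t = s ∨ ∃ (i : I) (c : Fin 4), (s i : ℕ) < 2 ∧ 2 ≤ (c : ℕ) ∧ t = Function.update s i c := by
  classical
  by_cases hts : t = s
  · exact Or.inl hts
  obtain ⟨i, hi⟩ := Function.ne_iff.1 hts
  obtain ⟨hs, ht⟩ := (h i).resolve_left hi
  refine Or.inr ⟨i, t i, hs, ht, ?_⟩
  by_contra hne
  obtain ⟨j, hj⟩ := Function.ne_iff.1 hne
  have hji : j ≠ i := fun e => hj (by subst e; simp)
  rw [Function.update_of_ne hji] at hj
  obtain ⟨hs', ht'⟩ := (h j).resolve_left hj
  unfold tops at hle
  have hsub : insert i (insert j (Finset.univ.filter fun l : I => 2 ≤ (s l : ℕ))) ⊆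
      Finset.univ.filter fun l : I => 2 ≤ (t l : ℕ) := by
    intro l hl
    simp only [Finset.mem_insert, Finset.mem_filter, Finset.mem_univ, true_and] at hl ⊢
    rcases hl with rfl | rfl | hl
    · exact ht
    · exact ht'
    · rcases h l with e | ⟨e, -⟩
      · rwa [e]
      · omega
  have h2 := Finset.card_le_card hsub
  rw [Finset.card_insert_of_notMem (by simp only [Finset.mem_insert, Finset.mem_filter]; rintro (e | ⟨-, e⟩) <;> [exact hji e.symm; omega]),
    Finset.card_insert_of_notMem (by simp only [Finset.mem_filter]; rintro ⟨-, e⟩; omega)] at h2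
  omega

include hS

/-- A vector fixed by the centre of the Sylow 2-subgroup lives on the bottom halves. -/
theorem support_low (I : Finset ℕ) (hI : ∀ i ∈ I, i < 2 * m + 1) {x : (I → Fin 4) → F}
    (hx : ∀ b : F, tens I (uS hS 0 b) *ᵥ x = x) : ∀ t, x t ≠ 0 → tops t = 0 := by
  classical
  by_contra hcon
  push Not at hcon
  obtain ⟨t0, ht0, hd0⟩ := hcon
  obtain ⟨t1, ht1, hmax⟩ := Finset.exists_max_image (Finset.univ.filter fun t => x t ≠ 0) tops
    ⟨t0, Finset.mem_filter.2 ⟨Finset.mem_univ _, ht0⟩⟩
  rw [Finset.mem_filter] at ht1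
  have hd : 0 < tops t1 := lt_of_lt_of_le (Nat.pos_of_ne_zero hd0)
    (hmax t0 (Finset.mem_filter.2 ⟨Finset.mem_univ _, ht0⟩))
  obtain ⟨t, ht, htmax⟩ := Finset.exists_max_image (Finset.univ.filter fun t => x t ≠ 0 ∧ tops t = tops t1) tot
    ⟨t1, Finset.mem_filter.2 ⟨Finset.mem_univ _, ht1.2, rfl⟩⟩
  rw [Finset.mem_filter] at ht
  have hle : ∀ u, x u ≠ 0 → tops u ≤ tops t := fun u hu =>
    ht.2.2 ▸ hmax u (Finset.mem_filter.2 ⟨Finset.mem_univ _, hu⟩)
  obtain ⟨i0, hi0⟩ := Finset.card_pos.1 (show 0 < tops t by rw [ht.2.2]; exact hd)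
  rw [Finset.mem_filter] at hi0
  set s := Function.update t i0 (if t i0 = 2 then 0 else 1) with hs
  have hlt : ((if t i0 = 2 then 0 else 1 : Fin 4) : ℕ) < 2 := by by_cases q : t i0 = 2 <;> simp [q]
  have hsi : (s i0 : ℕ) < 2 := by rw [hs, Function.update_self]; exact hlt
  have hts : tops t = tops s + 1 := by
    obtain ⟨c0, hc0⟩ : ∃ c0 : Fin 4, c0 = if t i0 = 2 then 0 else 1 := ⟨_, rfl⟩
    rw [← hc0] at hlt
    have := tops_update t i0 c0
    rw [if_pos hi0.2, if_neg (not_le.2 hlt)] at this
    rw [hs, ← hc0]; omega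
  have hback : Function.update s i0 (t i0) = t := by rw [hs, Function.update_idem, Function.update_eq_self]
  let P : Finset (I × Fin 4) := Finset.univ.filter fun p =>
    (s p.1 = 0 ∧ 2 ≤ (p.2 : ℕ)) ∨ (s p.1 = 1 ∧ p.2 = 3)
  let e : I × Fin 4 → ℕ := fun p =>
    if s p.1 = 0 ∧ p.2 = 3 then ((p.1 : ℕ) + (m + 1)) % (2 * m + 1) else (p.1 : ℕ)
  have hentry : ∀ b : F, ∀ p ∈ P, tens I (uS hS 0 b) s (Function.update s p.1 p.2) = b ^ 2 ^ e p := by
    intro b p hp
    rw [tens_upd hS, mat_uS]
    rcases (Finset.mem_filter.1 hp).2 with ⟨e0, e1⟩ | ⟨e0, e1⟩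
    · rcases (show p.2 = 2 ∨ p.2 = 3 by omega) with e2 | e2
      · simp [e, e0, e2, tMat, th_zero]
      · simp only [e, e0, e2, and_self, if_true]
        rw [← pow_two_mod hS]
        simp [tMat, th_zero, fo, th, ← pow_mul, ← pow_add, add_comm]
    · simp [e, e0, e1, tMat, th_zero]
  have hinj : Set.InjOn (fun p : I × Fin 4 => Function.update s p.1 p.2) P := by
    intro p hp q hq hpq
    have hp' : s p.1 ≠ p.2 := by
      rcases (Finset.mem_filter.1 hp).2 with ⟨e0, e1⟩ | ⟨e0, e1⟩ <;> intro e <;> rw [← e, e0] at e1 <;> simp at e1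
    have h1 := congrFun hpq p.1
    simp only [Function.update_self] at h1
    have h2 : p.1 = q.1 := by
      by_contra hne
      rw [Function.update_of_ne hne] at h1
      exact hp' h1.symm
    rw [← h2, Function.update_self] at h1
    exact Prod.ext h2 h1
  have hsum : ∀ b : F, ∑ p ∈ P, x (Function.update s p.1 p.2) * b ^ 2 ^ e p = 0 := by
    intro b
    have h1 := congrFun (hx b) s
    rw [Matrix.mulVec, dotProduct] at h1
    rw [← Finset.sum_subset (Finset.subset_univ (insert s (P.image fun p => Function.update s p.1 p.2)))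
      ?_, Finset.sum_insert, Finset.sum_image hinj, upper_prod_one hS, one_mul] at h1
    · refine (Finset.sum_congr rfl fun p hp => ?_).trans (add_left_cancel (h1.trans (add_zero _).symm))
      rw [hentry b p hp, mul_comm]
    · intro hmem
      obtain ⟨p, hp, he⟩ := Finset.mem_image.1 hmem
      have := congrFun he p.1
      rw [Function.update_self] at this
      rcases (Finset.mem_filter.1 hp).2 with ⟨e0, e1⟩ | ⟨e0, e1⟩ <;> rw [this, e0] at e1 <;> simp at e1
    · intro u _ hu
      by_contra hne
      obtain ⟨hM, hxu⟩ := mul_ne_zero_iff.1 hne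
      have hstep : ∀ i, u i = s i ∨ ((s i : ℕ) < 2 ∧ 2 ≤ (u i : ℕ) ∧ (s i = 1 → u i = 3)) := by
        intro i
        have hi : mat (uS hS 0 b) (s i) (u i) ^ 2 ^ (i : ℕ) ≠ 0 := fun e0 =>
          hM (Finset.prod_eq_zero (Finset.mem_univ i) e0)
        rw [mat_uS] at hi
        rcases (show s i = 0 ∨ s i = 1 ∨ s i = 2 ∨ s i = 3 by omega) with e0 | e0 | e0 | e0 <;>
          rcases (show u i = 0 ∨ u i = 1 ∨ u i = 2 ∨ u i = 3 by omega) with e1 | e1 | e1 | e1 <;>
          simp [e0, e1, tMat, th_zero] at hi ⊢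
      rcases eq_of_tops_le (fun i => (hstep i).imp id fun h => ⟨h.1, h.2.1⟩)
        ((hle u hxu).trans hts.le) with rfl | ⟨i, c, hsl, hc, rfl⟩
      · exact hu (Finset.mem_insert_self _ _)
      · refine hu (Finset.mem_insert_of_mem (Finset.mem_image.2 ⟨(i, c), Finset.mem_filter.2 ⟨Finset.mem_univ _, ?_⟩, rfl⟩))
        rcases (show s i = 0 ∨ s i = 1 by omega) with e0 | e0
        · exact Or.inl ⟨e0, hc⟩
        · have h3 := (hstep i).resolve_left (by rw [Function.update_self]; intro q; rw [q, e0] at hc; simp at hc)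
          rw [Function.update_self] at h3
          exact Or.inr ⟨e0, h3.2.2 e0⟩
  have hee : ∀ p ∈ P, e p < 2 * m + 1 := fun p _ => by
    simp only [e]; split
    · exact Nat.mod_lt _ (by omega)
    · exact hI _ p.1.2
  have h0 := coeff_zero hS P (fun p => x (Function.update s p.1 p.2)) e hee hsum (i0 : ℕ)
  have hmove : (((i0 : ℕ) + (m + 1)) % (2 * m + 1)) ≠ (i0 : ℕ) := by
    have := hS.one_le
    have := hI _ i0.2
    rcases Nat.lt_or_ge ((i0 : ℕ) + (m + 1)) (2 * m + 1) with h | h
    · rw [Nat.mod_eq_of_lt h]; omega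
    · rw [Nat.mod_eq_sub_mod h, Nat.mod_eq_of_lt (by omega)]; omega
  rw [Finset.sum_eq_single (i0, t i0)] at h0
  · exact ht.2.1 (by rw [hback] at h0; exact h0)
  · intro p hp hne
    rw [Finset.mem_filter] at hp
    obtain ⟨hpP, hpe⟩ := hp
    by_cases hc : s p.1 = 0 ∧ p.2 = 3
    · by_contra hxne
      have htop : tops (Function.update s p.1 p.2) = tops t := by
        have := tops_update s p.1 p.2
        rw [if_neg (by rw [hc.1]; simp), if_pos (by rw [hc.2]; simp)] at this
        omega
      have hT := htmax _ (Finset.mem_filter.2 ⟨Finset.mem_univ _, hxne, htop.trans ht.2.2⟩)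
      have h1 := tot_update s p.1 p.2
      have h2 := tot_update t i0 (if t i0 = 2 then 0 else 1)
      rw [← hs] at h2
      rw [hc.1, hc.2] at h1
      rcases (show t i0 = 2 ∨ t i0 = 3 by omega) with e2 | e2 <;> simp [e2] at h1 h2 <;>
        rw [hc.2] at hT <;> omega
    · exfalso
      have hp1 : p.1 = i0 := Subtype.ext (by simpa [e, hc] using hpe)
      refine hne (Prod.ext hp1 ?_)
      have hs0 : s i0 = if t i0 = 2 then 0 else 1 := Function.update_self ..
      rcases (Finset.mem_filter.1 hpP).2 with ⟨e0, e1⟩ | ⟨e0, e1⟩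
      · rw [hp1, hs0] at e0
        have e3 : t i0 = 2 := by
          by_contra q; rw [if_neg q] at e0; simp at e0
        have : p.2 ≠ 3 := fun q => hc ⟨by rw [hp1, hs0, if_pos e3], q⟩
        show p.2 = t i0
        omega
      · rw [hp1, hs0] at e0
        show p.2 = t i0
        by_cases q : t i0 = 2
        · rw [if_pos q] at e0; simp at e0
        · omega
  · intro hnot
    refine absurd (Finset.mem_filter.2 ⟨Finset.mem_filter.2 ⟨Finset.mem_univ _, ?_⟩, ?_⟩) hnot
    · have hs0 : s i0 = if t i0 = 2 then 0 else 1 := Function.update_self ..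
      by_cases q : t i0 = 2
      · exact Or.inl ⟨by rw [hs0, if_pos q], hi0.2⟩
      · exact Or.inr ⟨by rw [hs0, if_neg q], by show t i0 = 3; omega⟩
    · have hs0 : s i0 = if t i0 = 2 then 0 else 1 := Function.update_self ..
      by_cases q : t i0 = 2
      · simp [e, hs0, q]
      · simp [e, hs0, q]

/-- Only multiples of the first basis vector are fixed by the Sylow 2-subgroup. -/
theorem fixed_unip (I : Finset ℕ) (hI : ∀ i ∈ I, i < 2 * m + 1) {x : (I → Fin 4) → F}
    (hx : ∀ a b : F, tens I (uS hS a b) *ᵥ x = x) : ∀ t, x t ≠ 0 → t = fun _ => 0 := by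
  classical
  have hlow : ∀ t, x t ≠ 0 → ∀ i, (t i : ℕ) < 2 := fun t ht i => by
    have h := support_low hS I hI (hx 0) t ht
    rw [tops, Finset.card_eq_zero, Finset.filter_eq_empty_iff] at h
    have := h (Finset.mem_univ i)
    omega
  by_contra hcon
  push Not at hcon
  obtain ⟨t0, ht0, hne0⟩ := hcon
  obtain ⟨t, ht, hmax⟩ := Finset.exists_max_image (Finset.univ.filter fun t => x t ≠ 0) tot
    ⟨t0, Finset.mem_filter.2 ⟨Finset.mem_univ _, ht0⟩⟩
  rw [Finset.mem_filter] at ht
  obtain ⟨i0, hi0⟩ : ∃ i, t i = 1 := by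
    by_contra hc
    push Not at hc
    have hz : tot t = 0 := Finset.sum_eq_zero fun i _ => by
      have := hlow t ht.2 i; have := hc i; omega
    have h1 := hmax t0 (Finset.mem_filter.2 ⟨Finset.mem_univ _, ht0⟩)
    rw [hz, Nat.le_zero, tot, Finset.sum_eq_zero_iff] at h1
    exact hne0 (funext fun i => Fin.ext (h1 i (Finset.mem_univ i)))
  set s := Function.update t i0 0 with hs
  have hback : Function.update s i0 1 = t := by rw [hs, Function.update_idem, ← hi0, Function.update_eq_self]
  have hst : tot s + 1 = tot t := by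
    have := tot_update t i0 0
    rw [hi0] at this
    simpa [hs] using this
  have hlows : ∀ i, (s i : ℕ) < 2 := fun i => by
    by_cases q : i = i0
    · subst q; simp [hs]
    · rw [hs, Function.update_of_ne q]; exact hlow t ht.2 i
  let P : Finset I := Finset.univ.filter fun i => s i = 0
  have hinj : Set.InjOn (fun i : I => Function.update s i 1) P := by
    intro p hp q hq hpq
    by_contra hne
    have h1 := congrFun hpq p
    simp only [Function.update_self, Function.update_of_ne hne] at h1
    rw [(Finset.mem_filter.1 hp).2] at h1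
    simp at h1
  have hsum : ∀ a : F, ∑ i ∈ P, x (Function.update s i 1) * a ^ 2 ^ (i : ℕ) = 0 := by
    intro a
    have h1 := congrFun (hx a 0) s
    rw [Matrix.mulVec, dotProduct] at h1
    rw [← Finset.sum_subset (Finset.subset_univ (insert s (P.image fun i => Function.update s i 1)))
      ?_, Finset.sum_insert, Finset.sum_image hinj, upper_prod_one hS, one_mul] at h1
    · refine (Finset.sum_congr rfl fun p hp => ?_).trans (add_left_cancel (h1.trans (add_zero _).symm))
      rw [tens_upd hS, mat_uS, (Finset.mem_filter.1 hp).2, mul_comm]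
      simp [tMat]
    · intro hmem
      obtain ⟨p, hp, he⟩ := Finset.mem_image.1 hmem
      have := congrFun he p
      rw [Function.update_self, (Finset.mem_filter.1 hp).2] at this
      simp at this
    · intro u _ hu
      by_contra hne
      obtain ⟨hM, hxu⟩ := mul_ne_zero_iff.1 hne
      have hstep : ∀ i, u i = s i ∨ (s i = 0 ∧ u i = 1) := by
        intro i
        have hi : mat (uS hS a 0) (s i) (u i) ^ 2 ^ (i : ℕ) ≠ 0 := fun e0 =>
          hM (Finset.prod_eq_zero (Finset.mem_univ i) e0)
        rw [mat_uS] at hi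
        have := hlow u hxu i
        have := hlows i
        rcases (show s i = 0 ∨ s i = 1 by omega) with e0 | e0 <;>
          rcases (show u i = 0 ∨ u i = 1 by omega) with e1 | e1 <;>
          simp [e0, e1, tMat] at hi ⊢
      by_cases hus : u = s
      · exact hu (hus ▸ Finset.mem_insert_self _ _)
      obtain ⟨i, hi⟩ := Function.ne_iff.1 hus
      obtain ⟨e0, e1⟩ := (hstep i).resolve_left hi
      have hmono : ∀ j, (s j : ℕ) ≤ u j := fun j => by
        rcases hstep j with q | ⟨q, q'⟩
        · rw [q]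
        · rw [q, q']; simp
      by_cases huu : u = Function.update s i 1
      · exact hu (huu ▸ Finset.mem_insert_of_mem (Finset.mem_image.2 ⟨i, Finset.mem_filter.2 ⟨Finset.mem_univ _, e0⟩, rfl⟩))
      obtain ⟨j, hj⟩ := Function.ne_iff.1 huu
      have hji : j ≠ i := fun q => hj (by subst q; simp [e1])
      rw [Function.update_of_ne hji] at hj
      obtain ⟨f0, f1⟩ := (hstep j).resolve_left hj
      have h2 : tot s + 2 ≤ tot u := by
        have h3 : tot (Function.update (Function.update s i 1) j 1) ≤ tot u := Finset.sum_le_sum fun l _ => by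
          by_cases q : l = j
          · subst q; simp [f1]
          by_cases q' : l = i
          · subst q'; simp [Function.update_of_ne q, e1]
          · simp [Function.update_of_ne q, Function.update_of_ne q', hmono l]
        have h4 := tot_update s i 1
        have h5 := tot_update (Function.update s i 1) j 1
        rw [Function.update_of_ne hji, f0] at h5
        rw [e0] at h4
        simp at h4 h5
        omega
      have := hmax u (Finset.mem_filter.2 ⟨Finset.mem_univ _, hxu⟩)
      omega
  have h0 := coeff_zero hS P (fun i => x (Function.update s i 1)) (fun i => (i : ℕ)) (fun i _ => hI _ i.2)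
    hsum (i0 : ℕ)
  rw [Finset.sum_eq_single i0 (fun p hp hne => absurd (Subtype.ext (Finset.mem_filter.1 hp).2) hne)
    (fun hnot => (hnot (Finset.mem_filter.2 ⟨Finset.mem_filter.2 ⟨Finset.mem_univ i0, by simp [hs]⟩, rfl⟩)).elim),
    hback] at h0
  exact ht.2 h0

end Cfsg.Agent.CNStruct
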